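import Mathlib
import Cfsg.Prelude
import Cfsg.Agent.Lib.Characters
import Cfsg.Agent.Lib.Characters.Realizable
import Cfsg.Agent.Lib.BlockHeights.Galois

/-!
# Coprime powers of irreducible characters are irreducible
-/

set_option autoImplicit false

namespace Cfsg.Agent.Lib.InvChar

open Cfsg Cfsg.Agent.Lib.Characters Cfsg.Agent.Lib.BlockHeights
open scoped ComplexConjugate

variable {G : Type*} [Group G] [Finite G]

/-- An automorphism of the cyclotomic field raising all `n`-th roots of unity to the power `k`. -/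
theorem exists_aut_pow {n : ℕ} [NeZero n] {k : ℕ} (hk : Nat.Coprime k n) :
    ∃ σ : cycField n ≃ₐ[ℚ] cycField n, ∀ z : cycField n, z ^ n = 1 → σ z = z ^ k := by
  haveI := isCyclotomic_cycField n
  have hirr : Irreducible (Polynomial.cyclotomic n ℚ) :=
    Polynomial.cyclotomic.irreducible_rat (NeZero.pos n)
  set e := IsCyclotomicExtension.autEquivPow (cycField n) hirr with he
  refine ⟨e.symm (ZMod.unitOfCoprime k hk), fun z hz => ?_⟩
  have hζ := IsCyclotomicExtension.zeta_spec n ℚ (cycField n)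
  obtain ⟨i, -, rfl⟩ := hζ.eq_pow_of_pow_eq_one hz
  have h1 := hζ.autToPow_spec ℚ (e.symm (ZMod.unitOfCoprime k hk))
  rw [show hζ.autToPow ℚ (e.symm (ZMod.unitOfCoprime k hk)) = ZMod.unitOfCoprime k hk from
    e.apply_symm_apply _] at h1
  rw [map_pow, ← h1, ← pow_mul, ← pow_mul, ZMod.coe_unitOfCoprime, ZMod.val_natCast]
  refine pow_eq_pow_of_modEq ?_ hζ.pow_eq_one
  rw [mul_comm i k]
  exact (Nat.mod_modEq k n).mul_right i

/-- Raising the arguments to a power coprime to the order preserves irreducibility. -/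
theorem isIrr_comp_pow {χ : G → ℂ} (hχ : IsIrrCharacter G χ) {k : ℕ}
    (hk : Nat.Coprime k (Nat.card G)) : IsIrrCharacter G (fun g => χ (g ^ k)) := by
  classical
  haveI : NeZero (Nat.card G) := ⟨Nat.card_pos.ne'⟩
  haveI := Fintype.ofFinite G
  have hc : IsCharacter G χ := IsIrrCharacter.isCharacter hχ
  have hK : ∀ z : ℂ, z ^ Monoid.exponent G = 1 → z ∈ cycField (Nat.card G) := by
    intro z hz
    refine mem_cycField_of_pow_eq_one ?_
    obtain ⟨c, hc⟩ := Group.exponent_dvd_nat_card (G := G)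
    rw [hc, pow_mul, hz, one_pow]
  obtain ⟨n, A, hA⟩ := isRealizable_of_isCharacter hK hc
  obtain ⟨σ, hσ⟩ := exists_aut_pow (n := Nat.card G) hk
  have hr : IsRealizable (cycField (Nat.card G)) (fun g => χ (g ^ k)) := by
    refine ⟨n, (σ.toRingEquiv.toRingHom.mapMatrix (m := Fin n)).toMonoidHom.comp A,
      funext fun g => ?_⟩
    obtain ⟨ι, hι, μ, hμ, h⟩ := exists_eigen_sum hc g
    obtain ⟨c, hcg⟩ := orderOf_dvd_natCard g
    have hμn : ∀ i, μ i ^ Nat.card G = 1 := fun i => by rw [hcg, pow_mul, hμ i, one_pow]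
    let ν : ι → cycField (Nat.card G) := fun i => ⟨μ i, mem_cycField_of_pow_eq_one (hμn i)⟩
    have h1 : (A g).trace = ∑ i, ν i := by
      apply Subtype.ext
      have e1 := congrFun hA g
      have e2 := h 1
      simp only [pow_one] at e2
      rw [← e1, e2]
      simp [ν]
    have h2 : ((σ.toRingEquiv.toRingHom.mapMatrix (m := Fin n)).toMonoidHom.comp A g).trace
        = ∑ i, ν i ^ k := by
      show ((A g).map σ).trace = _
      rw [Matrix.trace, show ∑ i, Matrix.diag ((A g).map σ) i = σ ((A g).trace) from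
        (map_sum σ (fun i => A g i i) Finset.univ).symm, h1, map_sum]
      exact Finset.sum_congr rfl fun i _ => hσ _ (Subtype.ext (by simpa [ν] using hμn i))
    rw [h2, h k]
    simp [ν]
  have hc' := hr.isCharacter
  rw [IsCharacter.isIrr_iff hc']
  rw [← (IsCharacter.isIrr_iff hc).1 hχ]
  unfold classInner
  congr 1
  exact Fintype.sum_equiv (powCoprime (G := G) hk.symm) _ _ fun g => rfl

end Cfsg.Agent.Lib.InvChar
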