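import Mathlib
import Cfsg.Prelude
import Cfsg.Agent.S0942
import Cfsg.Agent.S0943
import Cfsg.Agent.S0907
import Cfsg.Agent.Lib.Involutions.Isolated
import Cfsg.Agent.Lib.LocalEven2.ZStar
import Cfsg.Agent.S0229

/-!
# The character-theoretic step of the `Z*`-theorem
-/

set_option autoImplicit false

namespace Cfsg.Agent.Lib.InvChar

open Cfsg

universe u

lemma exists_isPModular_two : ∃ M : Ideal AlgInt, IsPModular 2 M := by
  have hnu : ¬ IsUnit (2 : AlgInt) := by
    intro h
    obtain ⟨b, hb⟩ := h.exists_right_inv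
    have hb' : (2 : ℂ) * (b : ℂ) = 1 := by
      have := congrArg AlgInt.val hb
      rw [map_mul, map_ofNat, map_one] at this
      exact this
    have hhalf : (b : ℂ) = algebraMap ℚ ℂ (1 / 2) := by
      have : (b : ℂ) = 1 / 2 := by linear_combination hb' / 2
      rw [this]; simp
    have hint : IsIntegral ℤ (algebraMap ℚ ℂ (1 / 2)) := hhalf ▸ b.2
    rw [isIntegral_algebraMap_iff (algebraMap ℚ ℂ).injective] at hint
    obtain ⟨n, hn⟩ := IsIntegrallyClosed.isIntegral_iff.1 hint
    have h2 : (2 * n : ℚ) = 1 := by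
      rw [eq_intCast] at hn
      rw [hn]; norm_num
    have h3 : 2 * n = 1 := by exact_mod_cast h2
    omega
  obtain ⟨M, hM, hle⟩ := Ideal.exists_le_maximal (Ideal.span {(2 : AlgInt)})
    (by rwa [Ne, Ideal.span_singleton_eq_top])
  exact ⟨M, Nat.prime_two, hM, hle (Ideal.subset_span rfl)⟩

variable {G : Type u} [Group G] [Finite G]

open Lib.Involutions in
/-- In a minimal counterexample the principal block characters are constant on `u * t^G`. -/
lemma char_const_of_minimal {u : G} (hmin : Lib.LocalEven2.IsMinimalZStar 2 u) {M : Ideal AlgInt}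
    (hM : IsPModular 2 M) {t : G} (ht : orderOf t = 2) (htu : t ≠ u) (hc : Commute u t)
    (χ : IrrCharacter G) (hχ : χ ∈ principalBlock M G) (g : G) :
    (χ : G → ℂ) (u * (g * t * g⁻¹)) = (χ : G → ℂ) (u * t) := by
  have : Fact (Nat.Prime 2) := ⟨Nat.prime_two⟩
  have hiso : IsIsolatedInvolution u := ⟨hmin.order, hmin.iso⟩
  obtain ⟨S, hS⟩ := (Lib.LocalEven2.isPGroup_zpowers (p := 2) hmin.exists_order).exists_le_sylow
  have huS : u ∈ S := hS (Subgroup.mem_zpowers u)
  have hnc : ∀ a : G, ¬ IsConj (a * t * a⁻¹) u := by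
    intro a h
    have h' : IsConj u t := (h.symm.trans (isConj_iff.2 ⟨a⁻¹, by group⟩))
    obtain ⟨b, hb⟩ := isConj_iff.1 h'
    have := hmin.iso b (hb ▸ hc)
    exact htu (hb.symm.trans this)
  set y := g * t * g⁻¹ with hy
  have hy2 : orderOf y = 2 := by rw [hy, orderOf_conj_eq, ht]
  have hord : orderOf (y * u) % 4 = 2 :=
    Cfsg.Agent.S0229.result S u hmin.order huS
      (fun b hb => eq_of_conj_mem hiso S.2 huS hb) y hy2 (hnc g)
  have huu : u * u = 1 := invol_mul_self hmin.order
  have hyy : y * y = 1 := invol_mul_self hy2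
  have hord' : orderOf (u * y) = orderOf (y * u) := by
    have : u * y = u * (y * u) * u⁻¹ := by group
    rw [this, orderOf_conj_eq]
  set a := u * y with ha
  obtain ⟨m, hm, hm2⟩ : ∃ m, Odd m ∧ orderOf a = 2 * m :=
    ⟨orderOf a / 2, Nat.odd_iff.2 (by omega), by omega⟩
  set z := a ^ m with hz
  have hzne : z ≠ 1 := pow_ne_one_of_lt_orderOf (by have := hm.pos; omega) (by omega)
  have hz2 : orderOf z = 2 := by
    refine orderOf_eq_prime (p := 2) ?_ hzne
    rw [hz, ← pow_mul, mul_comm, ← hm2, pow_orderOf_eq_one]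
  have hinv : ∀ k : ℤ, u * a ^ k = a ^ (-k) * u := fun k => invol_mul_zpow hmin.order hy2 k
  have hzu : Commute u z := by
    have h1 := hinv m
    rw [zpow_natCast, zpow_neg, zpow_natCast, ← hz, invol_inv hz2] at h1
    exact h1
  have hzy : Commute y z := by
    have e : y = u * a := by rw [ha, ← mul_assoc, huu, one_mul]
    rw [e]
    exact hzu.mul_left ((Commute.refl a).pow_right m)
  set C := Subgroup.centralizer ({z} : Set G) with hCdef
  have hCne : C ≠ ⊤ := by
    intro htop
    have hzc : ∀ b : G, b * z = z * b := fun b =>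
      Subgroup.mem_centralizer_singleton_iff.1 (htop ▸ Subgroup.mem_top b : b ∈ C)
    have hnorm : (Subgroup.zpowers z).Normal := ⟨fun w hw b => by
      obtain ⟨i, rfl⟩ := hw
      exact ⟨i, by
        rw [(show Commute b z from hzc b).zpow_right i, mul_inv_cancel_right]⟩⟩
    have := hmin.pCore_eq_bot ▸ Lib.Cores.le_pCore hnorm
      (Lib.LocalEven2.isPGroup_zpowers (p := 2) ⟨1, by rw [pow_one, hz2]⟩)
    exact hzne (Subgroup.mem_bot.1 (this (Subgroup.mem_zpowers z)))
  have huC : u ∈ C := Subgroup.mem_centralizer_singleton_iff.2 hzu.eq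
  have hyC : y ∈ C := Subgroup.mem_centralizer_singleton_iff.2 hzy.eq
  set v := a ^ ((1 : ℤ) - m) with hv
  have hcomm := hmin.commutator_mem huC hCne hyC
  have hvmem : v ∈ centralizerPPrimeCore 2 z := by
    obtain ⟨c, hmc⟩ := hm
    have e1 : y * u * y⁻¹ * u⁻¹ = a ^ (-2 : ℤ) := by
      rw [invol_inv hy2, invol_inv hmin.order, show (-2 : ℤ) = -1 + -1 from rfl, zpow_add,
        zpow_neg_one, ha, mul_inv_rev, invol_inv hy2, invol_inv hmin.order]
      group
    have e2 : v = (a ^ (-2 : ℤ)) ^ (c : ℤ) := by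
      rw [hv, ← zpow_mul, hmc]; congr 1; push_cast; ring
    rw [e2, ← e1]
    exact Subgroup.zpow_mem _ hcomm _
  have hsplit : a = z * v := by
    rw [hz, hv, ← zpow_natCast, ← zpow_add, add_sub_cancel, zpow_one]
  have h942 := Cfsg.Agent.S0942.result 2 M hM z ⟨1, by rw [pow_one, hz2]⟩ v hvmem χ hχ
  rw [← hsplit] at h942
  rw [h942]
  -- `u * z` is a conjugate of `y` commuting with `u`
  obtain ⟨c, hmc⟩ := hm
  set y' := a ^ (-(c : ℤ)) * y * (a ^ (-(c : ℤ)))⁻¹ with hy'
  have hy'eq : y' = u * z := by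
    have e : u * a = y := by rw [ha, ← mul_assoc, huu, one_mul]
    have h1 : a ^ (-(c : ℤ)) * u = u * a ^ (c : ℤ) := (hinv c).symm
    calc y' = a ^ (-(c : ℤ)) * (u * a) * (a ^ (-(c : ℤ)))⁻¹ := by rw [hy', e]
      _ = (a ^ (-(c : ℤ)) * u) * a * (a ^ (-(c : ℤ)))⁻¹ := by group
      _ = u * (a ^ (c : ℤ) * a * (a ^ (-(c : ℤ)))⁻¹) := by rw [h1]; group
      _ = u * z := by
        congr 1
        rw [← zpow_neg, neg_neg, ← zpow_add_one, ← zpow_add, hz, ← zpow_natCast, hmc]
        congr 1
        push_cast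
        ring
  have hcy' : Commute u y' := by
    rw [hy'eq]
    exact (Commute.refl u).mul_right hzu
  -- fusion inside the centraliser of `u`
  set b := a ^ (-(c : ℤ)) * g with hb
  have hy'b : y' = b * t * b⁻¹ := by rw [hy', hy, hb]; group
  have huH : u ∈ Subgroup.centralizer ({y'} : Set G) :=
    Subgroup.mem_centralizer_singleton_iff.2 hcy'.eq
  have hgH : b * u * b⁻¹ ∈ Subgroup.centralizer ({y'} : Set G) := by
    refine Subgroup.mem_centralizer_singleton_iff.2 ?_
    rw [hy'b]
    calc b * u * b⁻¹ * (b * t * b⁻¹) = b * (u * t) * b⁻¹ := by group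
      _ = b * (t * u) * b⁻¹ := by rw [hc.eq]
      _ = _ := by group
  obtain ⟨h, hh, hheq⟩ := exists_conj_mem hiso huH hgH
  have hhy : h * y' = y' * h := Subgroup.mem_centralizer_singleton_iff.1 hh
  have hzeq : z = u * y' := by rw [hy'eq, ← mul_assoc, huu, one_mul]
  have hfin : z = (h⁻¹ * b) * (u * t) * (h⁻¹ * b)⁻¹ := by
    rw [hzeq]
    calc u * y' = (h⁻¹ * (h * u * h⁻¹) * h) * (h⁻¹ * (h * y')) := by group
      _ = h⁻¹ * (b * u * b⁻¹) * (b * t * b⁻¹) * h := by rw [hheq, hhy, hy'b]; group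
      _ = _ := by group
  rw [hfin]
  exact (Lib.Characters.irr_isClassFunction χ) _ _

open Lib.Involutions in
/-- A minimal counterexample to the `Z*`-theorem has no further involution centralising `u`. -/
theorem no_other_involution_of_minimal {u : G} (hmin : Lib.LocalEven2.IsMinimalZStar 2 u)
    {t : G} (ht : orderOf t = 2) (htu : t ≠ u) (hc : Commute u t) : False := by
  classical
  have : Fact (Nat.Prime 2) := ⟨Nat.prime_two⟩
  obtain ⟨M, hM⟩ := exists_isPModular_two
  haveI := Fintype.ofFinite G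
  haveI : Finite (IrrCharacter G) := inferInstance
  haveI := Fintype.ofFinite (IrrCharacter G)
  haveI := Lib.Blocks.isPrime_of_isPModular hM
  set s := u * t with hs
  have huu : u * u = 1 := invol_mul_self hmin.order
  have hs2 : orderOf s = 2 := by
    refine orderOf_eq_prime (p := 2) ?_ ?_
    · rw [hs, hc.mul_pow, ← hmin.order, pow_orderOf_eq_one, hmin.order, ← ht, pow_orderOf_eq_one,
        one_mul]
    · intro h
      apply htu
      calc t = u * u * t := by rw [huu, one_mul]
        _ = u := by rw [mul_assoc, ← hs, h, mul_one]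
  have hsu : s ≠ u := by
    intro h
    have h1 : t = 1 := mul_eq_left.1 (hs ▸ h)
    rw [h1, orderOf_one] at ht
    exact absurd ht (by norm_num)
  have hcs : Commute u s := (Commute.refl u).mul_right hc
  have hus : u * s = t := by rw [hs, ← mul_assoc, huu, one_mul]
  have hrel : ∀ (r : G), orderOf r = 2 → r ≠ u → Commute u r → ∀ χ ∈ principalBlock M G,
      ((χ : IrrCharacter G) : G → ℂ) u * (χ : G → ℂ) r
        = (χ : G → ℂ) 1 * (χ : G → ℂ) (u * r) := by
    intro r hr hru hcr χ hχ
    refine Cfsg.Agent.S0943.result χ u r fun x y hx hy => ?_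
    obtain ⟨p, rfl⟩ := isConj_iff.1 hx
    obtain ⟨q, rfl⟩ := isConj_iff.1 hy
    have e : p * u * p⁻¹ * (q * r * q⁻¹)
        = p * (u * ((p⁻¹ * q) * r * (p⁻¹ * q)⁻¹)) * p⁻¹ := by group
    rw [e, Lib.Characters.irr_isClassFunction χ]
    exact char_const_of_minimal hmin hM hr hru hcr χ hχ _
  -- the block sums
  have hconj : ∀ (χ : IrrCharacter G) (r : G), r * r = 1 →
      starRingEnd ℂ ((χ : G → ℂ) r) = (χ : G → ℂ) r := by
    intro χ r hr
    rw [← Lib.Characters.IsCharacter.apply_inv (Lib.Characters.irr_isCharacter χ),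
      inv_eq_of_mul_eq_one_right hr]
  have horth : ∀ r : G, orderOf r = 2 →
      ∑ χ ∈ Finset.univ.filter (· ∈ principalBlock M G),
        ((χ : IrrCharacter G) : G → ℂ) 1 * (χ : G → ℂ) r = 0 := by
    intro r hr
    have h := Cfsg.Agent.S0907.result 2 M hM _ Lib.Blocks.isPBlock_principalBlock 1 r
      (by simp) (by rw [hr])
    rw [Lib.Blocks.finsum_irr_eq_sum_ite] at h
    rw [Finset.sum_filter]
    refine Eq.trans (Finset.sum_congr rfl fun χ _ => ?_) h
    rw [hconj χ r (by rw [← pow_two, ← hr, pow_orderOf_eq_one])]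
  set B := Finset.univ.filter (fun χ : IrrCharacter G => χ ∈ principalBlock M G) with hB
  have hkey : ∀ χ ∈ B, ((χ : IrrCharacter G) : G → ℂ) 1 * (χ : G → ℂ) t
      + (χ : G → ℂ) 1 * (χ : G → ℂ) s
      = if (χ : G → ℂ) = (fun _ => 1) then 2 else 0 := by
    intro χ hχB
    have hχ := (Finset.mem_filter.1 hχB).2
    have h1 := hrel t ht htu hc χ hχ
    have h2 := hrel s hs2 hsu hcs χ hχ
    rw [← hs] at h1
    rw [hus] at h2
    split_ifs with htriv
    · rw [htriv]; norm_num
    have hd : (χ : G → ℂ) 1 ≠ 0 := Lib.Characters.IsIrrCharacter.apply_one_ne_zero χ.2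
    have hker : (χ : G → ℂ) u ≠ (χ : G → ℂ) 1 := by
      intro hk
      apply htriv
      set N := Lib.Characters.charKernel (Lib.Characters.irr_isCharacter χ)
      have huN : u ∈ N := hk
      have hNne : N ≠ ⊥ := fun h => hmin.ne_one (Subgroup.mem_bot.1 (h ▸ huN))
      have htop := hmin.sup_zpowers_eq_top hNne
      rw [sup_eq_left.2 (Subgroup.zpowers_le.2 huN)] at htop
      by_contra hne
      obtain ⟨w, hw⟩ := Lib.Characters.IsIrrCharacter.exists_ne_apply_one χ.2 hne
      exact hw (show w ∈ N from htop ▸ Subgroup.mem_top w)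
    rw [← mul_add]
    have h3 : ((χ : G → ℂ) u - (χ : G → ℂ) 1) * ((χ : G → ℂ) t + (χ : G → ℂ) s) = 0 := by
      linear_combination h1 + h2
    rcases mul_eq_zero.1 h3 with h4 | h4
    · exact absurd (sub_eq_zero.1 h4) hker
    · rw [h4, mul_zero]
  have hsum := Finset.sum_congr rfl hkey
  rw [Finset.sum_add_distrib, horth t ht, horth s hs2, add_zero] at hsum
  have hT : Lib.Characters.trivIrr G ∈ B := Finset.mem_filter.2 ⟨Finset.mem_univ _,
    Lib.Blocks.self_mem_blockOf (M := M) (Lib.Characters.trivIrr G)⟩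
  have hone : ((Lib.Characters.trivIrr G : IrrCharacter G) : G → ℂ) = fun _ => 1 := rfl
  rw [Finset.sum_eq_single (Lib.Characters.trivIrr G)
    (fun χ _ hne => if_neg fun h => hne (Subtype.ext (h.trans hone.symm)))
    (fun h => absurd hT h), if_pos hone] at hsum
  norm_num at hsum

end Cfsg.Agent.Lib.InvChar
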