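import Mathlib
import Cfsg.Prelude
import Cfsg.Agent.S0942
import Cfsg.Agent.S0907
import Cfsg.Agent.Lib.InvChar.ZStarChar
import Cfsg.Agent.Lib.Blocks.KleinFour
import Cfsg.Agent.Lib.Blocks.Quotient
import Cfsg.Agent.Lib.Characters.Convolution
import Cfsg.Agent.Lib.Involutions.Basic

/-!
# Four-group Sylow subgroups containing all involution centralisers up to odd direct factors

If a Sylow 2-subgroup `V` of `G` is a four-group, all its involutions are conjugate and the
centraliser of an involution centralises `V`, then either `V` is normal or `G` acts on the five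
conjugates of `V` and `G` is `A₅` modulo an odd normal subgroup centralising an involution.
The proof counts a class multiplication constant inside the principal block.
-/

set_option autoImplicit false

namespace Cfsg.Agent.Lib.InvChar

open Cfsg Cfsg.Agent.Lib.Characters Cfsg.Agent.Lib.Involutions
open scoped ComplexConjugate

universe u

/-- A four-group Sylow subgroup whose involutions are fused, with a chosen involution. -/
structure KleinBase {G : Type u} [Group G] (V : Sylow 2 G) (v : G) : Prop where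
  klein : IsKleinFour (V : Subgroup G)
  hv : orderOf v = 2
  hvV : v ∈ V
  fus : ∀ u ∈ V, u ≠ 1 → IsConj v u

/-- Furthermore the centraliser of the involution centralises the four-group. -/
structure KleinData {G : Type u} [Group G] (V : Sylow 2 G) (v : G) : Prop extends KleinBase V v where
  cent : ∀ c, c * v = v * c → ∀ u ∈ V, c * u = u * c

variable {G : Type u} [Group G] [Finite G] {V : Sylow 2 G} {v : G}

namespace KleinBase

variable (h : KleinBase V v)
include h

lemma sq {u : G} (hu : u ∈ V) : u * u = 1 :=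
  haveI := h.klein
  congrArg Subtype.val (IsKleinFour.mul_self (G := (V : Subgroup G)) ⟨u, hu⟩)

lemma conj_sq {u : G} (hu : u ∈ V) (g : G) : g * u * g⁻¹ * (g * u * g⁻¹) = 1 := by
  rw [show g * u * g⁻¹ * (g * u * g⁻¹) = g * (u * u) * g⁻¹ by group, h.sq hu, mul_one,
    mul_inv_cancel]

lemma comm {u w : G} (hu : u ∈ V) (hw : w ∈ V) : u * w = w * u := by
  have e := h.sq (mul_mem hu hw)
  have hu' : u⁻¹ = u := inv_eq_of_mul_eq_one_right (h.sq hu)
  have hw' : w⁻¹ = w := inv_eq_of_mul_eq_one_right (h.sq hw)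
  rw [← inv_eq_of_mul_eq_one_right e, mul_inv_rev, hu', hw']

lemma mem_of_normalize {s : G} (hs : ∃ k : ℕ, orderOf s = 2 ^ k)
    (hn : s ∈ Subgroup.normalizer ((V : Subgroup G) : Set G)) : s ∈ V := by
  have := Fact.mk Nat.prime_two
  obtain ⟨k, hk⟩ := hs
  have hp : IsPGroup 2 (Subgroup.zpowers s) :=
    IsPGroup.of_card (n := k) (by rw [Nat.card_zpowers, hk])
  have e := hp.inf_normalizer_sylow V
  rw [← Sylow.coe_coe] at e
  have : s ∈ Subgroup.zpowers s ⊓ Subgroup.normalizer ((V : Subgroup G) : Set G) :=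
    ⟨Subgroup.mem_zpowers s, hn⟩
  rw [e] at this
  exact this.2

lemma centralizer_mem_normalizer {s : G} (hs : ∀ u ∈ V, s * u = u * s) :
    s ∈ Subgroup.normalizer ((V : Subgroup G) : Set G) := by
  rw [Subgroup.mem_normalizer_iff]
  intro u
  constructor
  · intro hu
    rw [hs u hu, mul_inv_cancel_right]
    exact hu
  · intro hu
    have e := hs _ hu
    have : s * u * s⁻¹ = u := by
      have e2 : s * (s * u * s⁻¹) = s * u := by rw [e]; group
      exact mul_left_cancel e2
    rw [← this]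
    exact hu

lemma card_core : Nat.card (Subgroup.centralizer ({v} : Set G))
      = 4 * Nat.card (centralizerPPrimeCore 2 v) ∧ Odd (Nat.card (centralizerPPrimeCore 2 v)) := by
  have := Fact.mk Nat.prime_two
  set C := Subgroup.centralizer ({v} : Set G) with hC
  haveI := Fintype.ofFinite C
  have hVC : (V : Subgroup G) ≤ C := fun w hw =>
    Subgroup.mem_centralizer_singleton_iff.2 (h.comm hw h.hvV)
  let e : ((V.subtype hVC : Sylow 2 C) : Subgroup C) ≃* (V : Subgroup G) :=
    Subgroup.subgroupOfEquivOfLe hVC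
  have := h.klein
  have hK : IsKleinFour ((V.subtype hVC : Sylow 2 C) : Subgroup C) :=
    ⟨by rw [Nat.card_congr e.toEquiv, IsKleinFour.card_four],
     by rw [Monoid.exponent_eq_of_mulEquiv e, IsKleinFour.exponent_two]⟩
  have hvC : v ∈ C := Subgroup.mem_centralizer_singleton_iff.2 rfl
  obtain ⟨k, hk⟩ := Lib.Blocks.exists_pow_index_pPrimeCore_of_klein (V.subtype hVC) hK
    (z := ⟨v, hvC⟩) h.hvV
    (fun e => by
      have := congrArg Subtype.val e
      simp only [OneMemClass.coe_one] at this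
      have h2 := h.hv
      rw [this, orderOf_one] at h2
      norm_num at h2)
    (fun y => Subtype.ext (Subgroup.mem_centralizer_singleton_iff.1 y.2))
  have hcop : (Nat.card (pPrimeCore 2 C)).Coprime 2 := (Lib.Cores.pPrimeCore_mem 2 C).2
  have heq : Nat.card (centralizerPPrimeCore 2 v) = Nat.card (pPrimeCore 2 C) :=
    Nat.card_congr ((pPrimeCore 2 C).equivMapOfInjective C.subtype C.subtype_injective).symm.toEquiv
  rw [heq]
  have h1 := (pPrimeCore 2 C).index_mul_card
  rw [hk] at h1
  have h2 : Nat.card C = 4 * ((V.subtype hVC : Sylow 2 C) : Subgroup C).index := by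
    rw [← Subgroup.card_mul_index ((V.subtype hVC : Sylow 2 C) : Subgroup C), hK.card_four]
  have h3 : ¬ 2 ∣ ((V.subtype hVC : Sylow 2 C) : Subgroup C).index :=
    (V.subtype hVC : Sylow 2 C).not_dvd_index
  have hle : 2 ≤ k := by
    refine (Nat.pow_dvd_pow_iff_le_right (x := 2) one_lt_two).1 ?_
    refine (Nat.Coprime.pow_left 2 hcop.symm).dvd_of_dvd_mul_right ?_
    rw [h1, h2]; exact dvd_mul_right _ _
  have hge : k ≤ 2 := by
    refine (Nat.pow_dvd_pow_iff_le_right (x := 2) one_lt_two).1 ?_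
    refine ((Nat.Coprime.pow_left k ((Nat.Prime.coprime_iff_not_dvd Nat.prime_two).2 h3))).dvd_of_dvd_mul_right ?_
    rw [show 2 ^ 2 * ((V.subtype hVC : Sylow 2 C) : Subgroup C).index
      = Nat.card C from h2.symm, ← h1]
    exact dvd_mul_right _ _
  obtain rfl : k = 2 := le_antisymm hge hle
  exact ⟨h1.symm, Nat.coprime_two_right.1 hcop⟩

lemma mem_core {d : G} (hd : d ∈ centralizerPPrimeCore 2 v) :
    d * v = v * d ∧ Odd (orderOf d) ∧
      ∀ c, c * v = v * c → c * d * c⁻¹ ∈ centralizerPPrimeCore 2 v := by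
  obtain ⟨y, hy, rfl⟩ := hd
  refine ⟨Subgroup.mem_centralizer_singleton_iff.1 y.2, ?_, fun c hc => ?_⟩
  · refine h.card_core.2.of_dvd_nat ?_
    have h' := orderOf_dvd_natCard (⟨_, Subgroup.mem_map_of_mem _ hy⟩ : centralizerPPrimeCore 2 v)
    rw [← Subgroup.orderOf_coe] at h'
    exact h'
  · haveI : (pPrimeCore 2 (Subgroup.centralizer ({v} : Set G))).Normal :=
      (Lib.Cores.pPrimeCore_mem 2 _).1
    exact ⟨⟨c, Subgroup.mem_centralizer_singleton_iff.2 hc⟩ * y *
      ⟨c, Subgroup.mem_centralizer_singleton_iff.2 hc⟩⁻¹,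
      Subgroup.Normal.conj_mem inferInstance y hy _, rfl⟩

omit h in
/-- Fibres of conjugation. -/
lemma card_conj_fibre [Fintype G] [DecidableEq G] (a b : G) :
    (Finset.univ.filter fun g : G => g * a * g⁻¹ = b).card =
      (if IsConj a b then Nat.card (Subgroup.centralizer ({a} : Set G)) else 0) := by
  classical
  split_ifs with hab
  · obtain ⟨c, rfl⟩ := isConj_iff.1 hab
    rw [Nat.card_eq_fintype_card, ← Fintype.card_subtype]
    refine Fintype.card_congr ((Equiv.mulLeft c⁻¹).subtypeEquiv fun g => ?_)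
    simp only [Equiv.coe_mulLeft, Subgroup.mem_centralizer_singleton_iff]
    constructor
    · intro hg
      calc c⁻¹ * g * a = c⁻¹ * (g * a * g⁻¹) * g := by group
        _ = c⁻¹ * (c * a * c⁻¹) * g := by rw [hg]
        _ = a * (c⁻¹ * g) := by group
    · intro hg
      calc g * a * g⁻¹ = c * (c⁻¹ * g * a) * g⁻¹ := by group
        _ = c * (a * (c⁻¹ * g)) * g⁻¹ := by rw [hg]
        _ = c * a * c⁻¹ := by group
  · rw [Finset.card_eq_zero, Finset.filter_eq_empty_iff]
    exact fun g _ hg => hab (isConj_iff.2 ⟨g, hg⟩)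

/-- The averaged column relations. -/
lemma sum_normSq [Fintype G] [Fintype (IrrCharacter G)] [Fintype (centralizerPPrimeCore 2 v)] :
    ∑ χ : IrrCharacter G, (∑ d : centralizerPPrimeCore 2 v, (χ : G → ℂ) (v * d)) *
      conj (∑ d : centralizerPPrimeCore 2 v, (χ : G → ℂ) (v * d))
      = 4 * (Nat.card (centralizerPPrimeCore 2 v) : ℂ) ^ 2 := by
  classical
  have key : ∀ d : (centralizerPPrimeCore 2 v), ∑ d' : (centralizerPPrimeCore 2 v), (if IsConj (v * (d : G)) (v * (d' : G)) then
      Nat.card (Subgroup.centralizer ({v * (d : G)} : Set G)) else 0) = 4 * Nat.card (centralizerPPrimeCore 2 v) := by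
    intro d
    simp only [← card_conj_fibre]
    rw [← h.card_core.1, Nat.card_eq_fintype_card, Fintype.card_subtype,
      Finset.card_eq_sum_card_fiberwise (f := fun g : G => g * (v * (d : G)) * g⁻¹)
      (t := Finset.univ.image fun d' : (centralizerPPrimeCore 2 v) => v * (d' : G))]
    · rw [Finset.sum_image (fun a _ b _ e => Subtype.ext (mul_left_cancel e))]
      refine Finset.sum_congr rfl fun d' _ => ?_
      congr 1
      ext g
      simp only [Finset.mem_filter, Finset.mem_univ, true_and,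
        Subgroup.mem_centralizer_singleton_iff]
      refine ⟨fun hg => ⟨?_, hg⟩, fun hg => hg.2⟩
      have hpow : ∀ e : G, e ∈ (centralizerPPrimeCore 2 v) → (v * e) ^ Nat.card (centralizerPPrimeCore 2 v) = v := by
        intro e he
        rw [(show Commute v e from (h.mem_core he).1.symm).mul_pow]
        obtain ⟨j, hj⟩ := h.card_core.2
        have e1 : e ^ Nat.card (centralizerPPrimeCore 2 v) = 1 := by
          have := congrArg Subtype.val (pow_card_eq_one' (x := (⟨e, he⟩ : (centralizerPPrimeCore 2 v))))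
          simpa only [SubgroupClass.coe_pow, OneMemClass.coe_one] using this
        rw [e1, mul_one, show Nat.card (centralizerPPrimeCore 2 v) = 2 * j + 1 from hj, pow_succ, pow_mul, pow_two,
          h.sq h.hvV, one_pow, one_mul]
      have h2 := congrArg (· ^ Nat.card (centralizerPPrimeCore 2 v)) hg
      simp only [conj_pow, hpow _ d.2, hpow _ d'.2] at h2
      exact mul_inv_eq_iff_eq_mul.1 h2
    · intro g hg
      have hgc : g * v = v * g :=
        Subgroup.mem_centralizer_singleton_iff.1 (Finset.mem_filter.1 hg).2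
      refine Finset.mem_image.2 ⟨⟨g * (d : G) * g⁻¹, (h.mem_core d.2).2.2 g hgc⟩,
        Finset.mem_univ _, ?_⟩
      calc v * (g * (d : G) * g⁻¹) = v * g * (d : G) * g⁻¹ := by group
        _ = g * v * (d : G) * g⁻¹ := by rw [hgc]
        _ = _ := by group
  have key' : ∀ d : (centralizerPPrimeCore 2 v), ∑ d' : (centralizerPPrimeCore 2 v), ∑ χ : IrrCharacter G,
      (χ : G → ℂ) (v * (d : G)) * conj ((χ : G → ℂ) (v * (d' : G)))
      = ((4 * Nat.card (centralizerPPrimeCore 2 v) : ℕ) : ℂ) := by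
    intro d
    rw [← key d, Nat.cast_sum]
    refine Finset.sum_congr rfl fun d' _ => ?_
    rw [Lib.Characters.sum_irr_mul_conj]
    split_ifs <;> simp
  calc _ = ∑ d : (centralizerPPrimeCore 2 v), ∑ d' : (centralizerPPrimeCore 2 v), ∑ χ : IrrCharacter G,
      (χ : G → ℂ) (v * (d : G)) * conj ((χ : G → ℂ) (v * (d' : G))) := by
        simp only [map_sum, Finset.sum_mul_sum]
        rw [Finset.sum_comm]
        exact Finset.sum_congr rfl fun d _ => by rw [Finset.sum_comm]
    _ = ∑ _d : (centralizerPPrimeCore 2 v), ((4 * Nat.card (centralizerPPrimeCore 2 v) : ℕ) : ℂ) := Finset.sum_congr rfl fun d _ => key' d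
    _ = _ := by
      rw [Finset.sum_const, Finset.card_univ, ← Nat.card_eq_fintype_card, nsmul_eq_mul]
      push_cast; ring

/-- The values at `v` are congruent to the degrees modulo four. -/
lemma exists_value {χ : G → ℂ} (hχ : IsIrrCharacter G χ) :
    ∃ (x : ℕ) (c : ℤ), 0 < x ∧ χ 1 = x ∧ χ v = c ∧ (4 : ℤ) ∣ (x : ℤ) + 3 * c := by
  classical
  haveI := Fintype.ofFinite G
  have := h.klein
  obtain ⟨x, hx0, hx⟩ := IsIrrCharacter.exists_apply_one hχ
  have hch := IsIrrCharacter.isCharacter hχ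
  have hsum : ∀ H : Subgroup G, ∃ k : ℕ, ∑ u ∈ Finset.univ.filter (fun u : G => u ∈ H), χ u
      = (Nat.card H : ℂ) * k := by
    intro H
    haveI := Fintype.ofFinite H
    obtain ⟨k, hk⟩ := IsCharacter.exists_classInner_nat (IsCharacter.restrict hch H) (isCharacter_one (G := H))
    refine ⟨k, ?_⟩
    rw [← hk, Cfsg.classInner, Finset.sum_subtype _ (p := fun u => u ∈ H) (fun u => by simp)]
    simp only [map_one, mul_one]
    rw [← mul_assoc, mul_inv_cancel₀ (Nat.cast_ne_zero.2 Nat.card_pos.ne'), one_mul]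
  have hv1 : v ≠ 1 := by
    intro e; have := h.hv; rw [e, orderOf_one] at this; norm_num at this
  obtain ⟨j, hj⟩ := hsum (Subgroup.zpowers v)
  have hz : Finset.univ.filter (fun u : G => u ∈ Subgroup.zpowers v) = {1, v} := by
    symm
    refine Finset.eq_of_subset_of_card_le ?_ ?_
    · intro u hu
      rcases Finset.mem_insert.1 hu with rfl | hu
      · simp
      · rw [Finset.mem_singleton.1 hu]; simp
    · rw [Finset.card_pair hv1.symm, ← Fintype.card_subtype, ← Nat.card_eq_fintype_card,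
        Nat.card_zpowers, h.hv]
  rw [hz, Finset.sum_pair hv1.symm, Nat.card_zpowers, h.hv, hx] at hj
  refine ⟨x, 2 * j - x, hx0, hx, by push_cast; linear_combination hj, ?_⟩
  obtain ⟨k, hk⟩ := hsum (V : Subgroup G)
  have h1m : (1 : G) ∈ Finset.univ.filter (fun u : G => u ∈ (V : Subgroup G)) := by simp
  rw [← Finset.add_sum_erase _ _ h1m,
    Finset.sum_congr rfl (g := fun _ => χ v) (fun u hu => by
      simp only [Finset.mem_erase, Finset.mem_filter, Finset.mem_univ, true_and] at hu
      exact (IsClassFunction.eq_of_isConj (IsCharacter.isClassFunction hch) (h.fus u hu.2 hu.1)).symm),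
    Finset.sum_const, Finset.card_erase_of_mem h1m, ← Fintype.card_subtype,
    ← Nat.card_eq_fintype_card, IsKleinFour.card_four, nsmul_eq_mul, hx] at hk
  refine ⟨(k : ℤ), ?_⟩
  have : ((x : ℤ) + 3 * (2 * (j : ℤ) - x) : ℂ) = ((4 * (k : ℤ) : ℤ) : ℂ) := by
    push_cast at hk ⊢
    linear_combination hk - 3 * hj
  exact_mod_cast this

end KleinBase

namespace KleinData

variable (h : KleinData V v)
include h

lemma invol_mem {s : G} (hs : s * s = 1) (hc : s * v = v * s) : s ∈ V := by
  by_cases h1 : s = 1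
  · rw [h1]; exact one_mem V
  have := Fact.mk Nat.prime_two
  exact h.mem_of_normalize ⟨1, by rw [pow_one]; exact orderOf_eq_prime (by rw [pow_two, hs]) h1⟩
    (h.centralizer_mem_normalizer (h.cent s hc))

lemma cent' {u : G} (hu : u ∈ V) (hu1 : u ≠ 1) {c : G} (hc : c * u = u * c) :
    ∀ w ∈ V, c * w = w * c := by
  obtain ⟨g, hg⟩ := isConj_iff.1 (h.fus u hu hu1)
  have key : ∀ b : G, b * u = u * b → ∀ w ∈ V, b * (g * w * g⁻¹) = g * w * g⁻¹ * b := by
    intro b hb w hw
    have e : (g⁻¹ * b * g) * v = v * (g⁻¹ * b * g) := by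
      rw [← hg] at hb
      calc (g⁻¹ * b * g) * v = g⁻¹ * (b * (g * v * g⁻¹)) * g := by group
        _ = g⁻¹ * (g * v * g⁻¹ * b) * g := by rw [hb]
        _ = _ := by group
    have e' := h.cent _ e w hw
    calc b * (g * w * g⁻¹) = g * ((g⁻¹ * b * g) * w) * g⁻¹ := by group
      _ = g * (w * (g⁻¹ * b * g)) * g⁻¹ := by rw [e']
      _ = _ := by group
  have hsub : ∀ w ∈ V, g * w * g⁻¹ ∈ V := by
    intro w hw
    refine h.mem_of_normalize ?_ (h.centralizer_mem_normalizer fun x hx =>
      (key x (h.comm hx hu) w hw).symm)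
    have := Fact.mk Nat.prime_two
    obtain ⟨k, hk⟩ := IsPGroup.iff_orderOf.1 V.2 ⟨w, hw⟩
    exact ⟨k, by rw [orderOf_conj_eq, ← hk, Subgroup.orderOf_mk]⟩
  intro w hw
  obtain ⟨w', hw', rfl⟩ : ∃ w' ∈ V, g * w' * g⁻¹ = w := by
    have hinj : Function.Injective (fun x : (V : Subgroup G) =>
        (⟨g * x.1 * g⁻¹, hsub x.1 x.2⟩ : (V : Subgroup G))) := fun a b e =>
      Subtype.ext (mul_left_cancel (mul_right_cancel (congrArg Subtype.val e)))
    obtain ⟨w', hw'⟩ := Finite.surjective_of_injective hinj ⟨w, hw⟩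
    exact ⟨w', w'.2, congrArg Subtype.val hw'⟩
  exact key c hc w' hw'

lemma ti {u g : G} (hu : u ∈ V) (hu1 : u ≠ 1) (hgu : g⁻¹ * u * g ∈ V) :
    g ∈ Subgroup.normalizer ((V : Subgroup G) : Set G) := by
  rw [Subgroup.mem_normalizer_iff]
  have hsub : ∀ w ∈ V, g * w * g⁻¹ ∈ V := by
    intro w hw
    refine h.invol_mem (h.conj_sq hw g) (h.cent' hu hu1 ?_ v h.hvV)
    calc g * w * g⁻¹ * u = g * (w * (g⁻¹ * u * g)) * g⁻¹ := by group
      _ = g * (g⁻¹ * u * g * w) * g⁻¹ := by rw [h.comm hw hgu]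
      _ = _ := by group
  intro w
  refine ⟨hsub w, fun hw => ?_⟩
  have hinj : Function.Injective (fun x : (V : Subgroup G) =>
      (⟨g * x.1 * g⁻¹, hsub x.1 x.2⟩ : (V : Subgroup G))) := fun a b e =>
    Subtype.ext (mul_left_cancel (mul_right_cancel (congrArg Subtype.val e)))
  obtain ⟨w', hw'⟩ := Finite.surjective_of_injective hinj ⟨_, hw⟩
  have e : g * w'.1 * g⁻¹ = g * w * g⁻¹ := congrArg Subtype.val hw'
  rw [← mul_left_cancel (mul_right_cancel e)]
  exact w'.2

lemma card_normalizer :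
    Nat.card (Subgroup.normalizer ((V : Subgroup G) : Set G))
      = 12 * Nat.card (centralizerPPrimeCore 2 v) := by
  classical
  haveI := Fintype.ofFinite G
  have := h.klein
  set W := Finset.univ.filter (fun u : G => u ∈ V ∧ u ≠ 1) with hW
  have hW3 : W.card = 3 := by
    have e : W = (Finset.univ.filter fun u : G => u ∈ (V : Subgroup G)).erase 1 := by
      ext u
      simp only [hW, Finset.mem_filter, Finset.mem_univ, true_and, Finset.mem_erase]
      exact and_comm
    rw [e, Finset.card_erase_of_mem (by simp),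
      ← Fintype.card_subtype, ← Nat.card_eq_fintype_card, IsKleinFour.card_four]
  have hv1 : v ≠ 1 := by
    intro e; have := h.hv; rw [e, orderOf_one] at this; norm_num at this
  have e1 : Nat.card (Subgroup.normalizer ((V : Subgroup G) : Set G))
      = (Finset.univ.filter fun g : G => g * v * g⁻¹ ∈ W).card := by
    rw [Nat.card_eq_fintype_card, Fintype.card_subtype]
    congr 1
    ext g
    simp only [Finset.mem_filter, Finset.mem_univ, true_and, hW]
    refine ⟨fun hg => ⟨(Subgroup.mem_normalizer_iff.1 hg v).1 h.hvV, by simpa using hv1⟩,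
      fun hg => ?_⟩
    exact h.ti hg.1 hg.2 (by simpa [mul_assoc] using h.hvV)
  have hmaps : Set.MapsTo (fun g : G => g * v * g⁻¹)
      ((Finset.univ.filter fun g : G => g * v * g⁻¹ ∈ W : Finset G) : Set G) (W : Set G) :=
    fun g hg => (Finset.mem_filter.1 hg).2
  rw [e1, Finset.card_eq_sum_card_fiberwise hmaps]
  rw [Finset.sum_congr rfl (g := fun _ => Nat.card (Subgroup.centralizer ({v} : Set G)))]
  · rw [Finset.sum_const, hW3, h.card_core.1, smul_eq_mul]; ring
  intro u hu
  rw [Finset.filter_filter]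
  have hu' := (Finset.mem_filter.1 hu).2
  rw [← if_pos (t := Nat.card (Subgroup.centralizer ({v} : Set G))) (e := 0)
    (h.fus u hu'.1 hu'.2), ← KleinBase.card_conj_fibre v u]
  congr 1
  ext g
  simp only [Finset.mem_filter, Finset.mem_univ, true_and]
  exact ⟨fun hg => hg.2, fun hg => ⟨hg ▸ hu, hg⟩⟩

lemma card_pairs {d : G} (hd : d ∈ centralizerPPrimeCore 2 v) :
    (d = 1 → Nat.card {p : G × G // IsConj v p.1 ∧ IsConj v p.2 ∧ p.1 * p.2 = v * d} = 2) ∧
    (d ≠ 1 → Nat.card {p : G × G // IsConj v p.1 ∧ IsConj v p.2 ∧ p.1 * p.2 = v * d} = 0) := by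
  classical
  have hinv : ∀ s : G, IsConj v s → s * s = 1 ∧ s ≠ 1 := by
    intro s hs
    obtain ⟨g, rfl⟩ := isConj_iff.1 hs
    refine ⟨h.conj_sq h.hvV g, fun e => ?_⟩
    have := h.hv
    rw [conj_eq_one_iff.1 e, orderOf_one] at this
    norm_num at this
  obtain ⟨hdv, hdodd, -⟩ := h.mem_core hd
  have hmem : ∀ s t : G, IsConj v s → IsConj v t → s * t = v * d → s ∈ V ∧ d = 1 := by
    intro s t hs ht hst
    have hs2 := (hinv s hs).1
    have ht2 := (hinv t ht).1
    have hsinv : s⁻¹ = s := inv_eq_of_mul_eq_one_right hs2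
    have e : s * (v * d) * s⁻¹ = (v * d)⁻¹ := by
      rw [← hst, hsinv, mul_inv_rev, hsinv, inv_eq_of_mul_eq_one_right ht2,
        show s * (s * t) * s = s * s * t * s by group, hs2, one_mul]
    have hpow : (v * d) ^ orderOf d = v := by
      rw [(show Commute v d from hdv.symm).mul_pow, pow_orderOf_eq_one, mul_one]
      obtain ⟨j, hj⟩ := hdodd
      rw [hj, pow_succ, pow_mul, pow_two, h.sq h.hvV, one_pow, one_mul]
    have e2 := congrArg (· ^ orderOf d) e
    simp only [conj_pow, inv_pow, hpow, inv_eq_of_mul_eq_one_right (h.sq h.hvV)] at e2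
    have hsv : s * v = v * s := mul_inv_eq_iff_eq_mul.1 e2
    have hsV := h.invol_mem hs2 hsv
    refine ⟨hsV, ?_⟩
    have hsd : d * s = s * d := h.cent d hdv s hsV
    have hteq : t = s * v * d := by rw [mul_assoc, ← hst, ← mul_assoc, hs2, one_mul]
    have hsvd : Commute (s * v) d :=
      (show Commute d (s * v) from (show Commute d s from hsd).mul_right hdv).symm
    have hd2 : d * d = 1 := by
      have := ht2
      rw [hteq, show s * v * d * (s * v * d) = s * v * (d * (s * v)) * d by group, ← hsvd.eq,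
        show s * v * (s * v * d) * d = s * v * (s * v) * (d * d) by group,
        h.sq (mul_mem hsV h.hvV), one_mul] at this
      exact this
    have h2 : orderOf d ∣ 2 := orderOf_dvd_of_pow_eq_one (by rw [pow_two, hd2])
    rcases (Nat.dvd_prime Nat.prime_two).1 h2 with h1 | h1
    · exact orderOf_eq_one_iff.1 h1
    · rw [h1] at hdodd; exact absurd hdodd (by decide)
  constructor
  · rintro rfl
    haveI := Fintype.ofFinite G
    have := h.klein
    have hv1 : v ≠ 1 := (hinv v (IsConj.refl v)).2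
    have e : {p : G × G // IsConj v p.1 ∧ IsConj v p.2 ∧ p.1 * p.2 = v * 1} ≃
        {s : G // s ∈ ((Finset.univ.filter fun u : G => u ∈ (V : Subgroup G)).erase 1).erase v} :=
      { toFun := fun p => ⟨p.1.1, by
          simp only [Finset.mem_erase, Finset.mem_filter, Finset.mem_univ, true_and]
          refine ⟨fun e => (hinv _ p.2.2.1).2 ?_, (hinv _ p.2.1).2, (hmem _ _ p.2.1 p.2.2.1 p.2.2.2).1⟩
          have := p.2.2.2
          rw [e] at this
          exact mul_left_cancel this⟩
        invFun := fun s => ⟨(s.1, s.1 * v), by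
          have hs := s.2
          simp only [Finset.mem_erase, Finset.mem_filter, Finset.mem_univ, true_and] at hs
          refine ⟨h.fus _ hs.2.2 hs.2.1, h.fus _ (mul_mem hs.2.2 h.hvV) (fun e => hs.1 ?_), ?_⟩
          · exact mul_right_cancel (e.trans (h.sq h.hvV).symm)
          · show s.1 * (s.1 * v) = v * 1
            rw [← mul_assoc, h.sq hs.2.2, one_mul, mul_one]⟩
        left_inv := fun p => by
          refine Subtype.ext (Prod.ext rfl ?_)
          show p.1.1 * v = p.1.2
          refine (congrArg (p.1.1 * ·) ((mul_one v).symm.trans p.2.2.2.symm)).trans ?_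
          show p.1.1 * (p.1.1 * p.1.2) = p.1.2
          rw [← mul_assoc, (hinv _ p.2.1).1, one_mul]
        right_inv := fun s => rfl }
    rw [Nat.card_congr e, Nat.card_eq_fintype_card, Fintype.card_coe,
      Finset.card_erase_of_mem (by simp [hv1]; exact h.hvV),
      Finset.card_erase_of_mem (by simp), ← Fintype.card_subtype,
      ← Nat.card_eq_fintype_card, IsKleinFour.card_four]
  · intro hd1
    rw [Nat.card_eq_zero]
    exact Or.inl ⟨fun p => hd1 (hmem _ _ p.2.1 p.2.2.1 p.2.2.2).2⟩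

/-- The degree equations. -/
lemma degree_equations : ∃ (a b c : ℕ) (e f g : ℤ),
    (0 < a ∧ 0 < b ∧ 0 < c) ∧ (e = 1 ∨ e = -1) ∧ (f = 1 ∨ f = -1) ∧ (g = 1 ∨ g = -1) ∧
    ((4 : ℤ) ∣ a + 3 * e ∧ (4 : ℤ) ∣ b + 3 * f ∧ (4 : ℤ) ∣ c + 3 * g) ∧
    1 + e * (a : ℤ) + f * b + g * c = 0 ∧
    ((1 + e / a + f / b + g / c : ℚ) *
      (3 * (Subgroup.normalizer ((V : Subgroup G) : Set G)).index) = 8) := by
  classical
  haveI := Fintype.ofFinite G
  haveI := Fintype.ofFinite (IrrCharacter G)
  set D := centralizerPPrimeCore 2 v with hD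
  haveI := Fintype.ofFinite D
  obtain ⟨M, hM⟩ := exists_isPModular_two
  haveI := Lib.Blocks.isPrime_of_isPModular hM
  have := Fact.mk Nat.prime_two
  choose x c hx0 hx hc h4 using fun χ : IrrCharacter G => h.exists_value χ.2
  set B := Finset.univ.filter (fun χ : IrrCharacter G => χ ∈ principalBlock M G) with hB
  have hT : trivIrr G ∈ B := Finset.mem_filter.2 ⟨Finset.mem_univ _,
    Lib.Blocks.self_mem_blockOf (M := M) (trivIrr G)⟩
  let S : IrrCharacter G → ℂ := fun χ => ∑ d : D, (χ : G → ℂ) (v * d)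
  have hDpos : (0 : ℝ) < Nat.card D := Nat.cast_pos.2 Nat.card_pos
  have hSB : ∀ χ ∈ B, S χ = (Nat.card D : ℂ) * c χ := by
    intro χ hχ
    have e : ∀ d : D, (χ : G → ℂ) (v * d) = c χ := fun d => by
      rw [Cfsg.Agent.S0942.result 2 M hM v ⟨1, by rw [pow_one, h.hv]⟩ d d.2 χ
        (Finset.mem_filter.1 hχ).2, hc]
    simp only [S, e, Finset.sum_const, Finset.card_univ, ← Nat.card_eq_fintype_card, nsmul_eq_mul]
  have hnorm : ∑ χ : IrrCharacter G, Complex.normSq (S χ) = 4 * (Nat.card D : ℝ) ^ 2 := by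
    have e : ((∑ χ : IrrCharacter G, Complex.normSq (S χ) : ℝ) : ℂ)
        = ((4 * (Nat.card D : ℝ) ^ 2 : ℝ) : ℂ) := by
      push_cast
      rw [← h.sum_normSq]
      exact Finset.sum_congr rfl fun χ _ => (Complex.mul_conj (S χ)).symm
    exact_mod_cast e
  have hsplit := Finset.sum_add_sum_compl B (fun χ => Complex.normSq (S χ))
  rw [hnorm, Finset.sum_congr rfl (g := fun χ => (Nat.card D : ℝ) ^ 2 * ((c χ : ℤ) : ℝ) ^ 2)
    (fun χ hχ => by
      rw [hSB χ hχ, Complex.normSq_mul, Complex.normSq_natCast,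
        show ((c χ : ℤ) : ℂ) = ((c χ : ℝ) : ℂ) by push_cast; rfl, Complex.normSq_ofReal]
      ring), ← Finset.mul_sum] at hsplit
  have hout0 : 0 ≤ ∑ χ ∈ Bᶜ, Complex.normSq (S χ) :=
    Finset.sum_nonneg fun χ _ => Complex.normSq_nonneg _
  have hB4 : ∑ χ ∈ B, (c χ) ^ 2 ≤ 4 := by
    have : (∑ χ ∈ B, ((c χ : ℤ) : ℝ) ^ 2) ≤ 4 := by
      by_contra hlt
      push Not at hlt
      have := mul_lt_mul_of_pos_left hlt (pow_pos hDpos 2)
      linarith
    exact_mod_cast this
  have htc : c (trivIrr G) = 1 := by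
    have := hc (trivIrr G)
    simp only [trivIrr_apply] at this
    exact_mod_cast this.symm
  have htx : x (trivIrr G) = 1 := by
    have := hx (trivIrr G)
    simp only [trivIrr_apply] at this
    exact_mod_cast this.symm
  set B' := (B.erase (trivIrr G)).filter (fun χ => c χ ≠ 0) with hB'
  have herase : ∑ χ ∈ B', (c χ) ^ 2 ≤ 3 := by
    rw [← Finset.add_sum_erase _ _ hT, htc] at hB4
    refine le_trans (Finset.sum_le_sum_of_subset_of_nonneg (Finset.filter_subset _ _)
      fun χ _ _ => sq_nonneg _) ?_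
    linarith
  have hone : ∀ χ ∈ B', c χ = 1 ∨ c χ = -1 := by
    intro χ hχ
    have h1 : c χ ^ 2 ≤ 3 :=
      le_trans (Finset.single_le_sum (fun ψ _ => sq_nonneg (c ψ)) hχ) herase
    have h2 : c χ ≠ 0 := (Finset.mem_filter.1 hχ).2
    have h3 : c χ ≤ 1 := by nlinarith
    have h4 : -1 ≤ c χ := by nlinarith
    omega
  have hcard : B'.card ≤ 3 := by
    rw [Finset.sum_congr rfl (g := fun _ => (1 : ℤ)) fun χ hχ => by
      rcases hone χ hχ with e | e <;> rw [e] <;> norm_num] at herase
    simpa using herase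
  have horth : 1 + ∑ χ ∈ B', c χ * (x χ : ℤ) = 0 := by
    have e := Cfsg.Agent.S0907.result 2 M hM _ Lib.Blocks.isPBlock_principalBlock 1 v
      (by simp) (by rw [h.hv])
    rw [Lib.Blocks.finsum_irr_eq_sum_ite, ← Finset.sum_filter, ← hB,
      ← Finset.add_sum_erase _ _ hT] at e
    simp only [hx, hc, htc, htx, map_intCast] at e
    rw [← Finset.sum_filter_of_ne (p := fun χ => c χ ≠ 0) (fun χ _ hne h0 => hne (by simp [h0])),
      ← hB'] at e
    have e2 : (((1 + ∑ χ ∈ B', c χ * (x χ : ℤ)) : ℤ) : ℂ) = 0 := by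
      push_cast
      rw [← e]
      push_cast
      rw [one_mul]
      congr 1
      exact Finset.sum_congr rfl fun χ _ => by ring
    exact_mod_cast e2
  have hodd : ∀ χ ∈ B', c χ * (x χ : ℤ) % 2 = 1 := by
    intro χ hχ
    have := h4 χ
    rcases hone χ hχ with e | e <;> rw [e] at this ⊢ <;> omega
  have hcard3 : B'.card = 3 := by
    have hp : (∑ χ ∈ B', c χ * (x χ : ℤ)) % 2 = (B'.card : ℤ) % 2 := by
      rw [Finset.sum_int_mod, Finset.sum_congr rfl (g := fun _ => (1 : ℤ)) hodd]
      simp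
    have : B'.card ≠ 1 := by
      intro h1
      obtain ⟨χ, hχ⟩ := Finset.card_eq_one.1 h1
      rw [hχ, Finset.sum_singleton] at horth
      have := h4 χ
      have hp := hx0 χ
      rcases hone χ (by rw [hχ]; simp) with e | e <;> rw [e] at this horth <;> omega
    omega
  obtain ⟨χ₁, χ₂, χ₃, h12, h13, h23, hset⟩ := Finset.card_eq_three.1 hcard3
  have hzero : ∀ χ : IrrCharacter G, χ ≠ trivIrr G → χ ∉ B' → S χ = 0 := by
    intro χ hχt hχB'
    by_cases hχ : χ ∈ B
    · have h0 : c χ = 0 := by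
        by_contra hne
        exact hχB' (Finset.mem_filter.2 ⟨Finset.mem_erase.2 ⟨hχt, hχ⟩, hne⟩)
      rw [hSB χ hχ, h0]; simp
    · have hfour : (4 : ℝ) ≤ ∑ χ ∈ B, ((c χ : ℤ) : ℝ) ^ 2 := by
        have : (4 : ℤ) ≤ ∑ χ ∈ B, (c χ) ^ 2 := by
          rw [← Finset.add_sum_erase _ _ hT, htc]
          have : (3 : ℤ) ≤ ∑ χ ∈ B.erase (trivIrr G), (c χ) ^ 2 := by
            refine le_trans ?_ (Finset.sum_le_sum_of_subset_of_nonneg
              (show B' ⊆ B.erase (trivIrr G) from Finset.filter_subset _ _) fun χ _ _ => sq_nonneg _)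
            rw [Finset.sum_congr rfl (g := fun _ => (1 : ℤ)) fun χ hχ => by
              rcases hone χ hχ with e | e <;> rw [e] <;> norm_num]
            simp [hcard3]
          linarith
        exact_mod_cast this
      have hle : ∑ ψ ∈ Bᶜ, Complex.normSq (S ψ) ≤ 0 := by
        have := mul_le_mul_of_nonneg_left hfour (pow_pos hDpos 2).le
        linarith
      have := Finset.single_le_sum (fun ψ _ => Complex.normSq_nonneg (S ψ))
        (Finset.mem_compl.2 hχ)
      exact Complex.normSq_eq_zero.1 (le_antisymm (this.trans hle) (Complex.normSq_nonneg _))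
  -- the count
  set C := Nat.card (Subgroup.centralizer ({v} : Set G)) with hC
  set K := Nat.card {y : G // IsConj v y} with hK
  have hKC : K * C = Nat.card G := card_conj_mul_card_centralizer v
  have hcount : (2 : ℂ) = (K : ℂ) * K / (Nat.card G : ℂ) *
      ∑ χ : IrrCharacter G, (c χ : ℂ) * (c χ) * conj (S χ) / (x χ : ℂ) := by
    have e : ∑ d : D, (Nat.card {p : G × G // IsConj v p.1 ∧ IsConj v p.2 ∧ p.1 * p.2 = v * d} : ℂ)
        = 2 := by
      rw [Finset.sum_eq_single (1 : D)]
      · simp only [OneMemClass.coe_one]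
        rw [(h.card_pairs (one_mem D)).1 rfl]; norm_num
      · intro d _ hd
        rw [(h.card_pairs d.2).2 (fun e => hd (Subtype.ext e))]; norm_num
      · simp
    rw [← e]
    simp only [card_class_mul, ← Finset.mul_sum]
    rw [Finset.sum_comm, hK]
    refine congrArg _ (Finset.sum_congr rfl fun χ _ => ?_)
    simp only [S, map_sum, Finset.mul_sum, Finset.sum_div, hc, hx]
  have hsupp : ∑ χ : IrrCharacter G, (c χ : ℂ) * (c χ) * conj (S χ) / (x χ : ℂ)
      = (Nat.card D : ℂ) * (1 + (c χ₁ : ℂ) / x χ₁ + (c χ₂ : ℂ) / x χ₂ + (c χ₃ : ℂ) / x χ₃) := by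
    have hnt : trivIrr G ∉ B' := by simp [hB']
    rw [← Finset.sum_subset (Finset.subset_univ (insert (trivIrr G) B')) (fun χ _ hχ => by
      rw [Finset.mem_insert, not_or] at hχ
      rw [hzero χ hχ.1 hχ.2]; simp), Finset.sum_insert hnt, hSB _ hT, htc, htx]
    have hcube : ∀ χ ∈ B', (c χ : ℂ) * (c χ) * conj (S χ) / (x χ : ℂ)
        = (Nat.card D : ℂ) * ((c χ : ℂ) / x χ) := by
      intro χ hχ
      rw [hSB χ (Finset.mem_of_mem_erase (Finset.mem_filter.1 hχ).1)]
      rcases hone χ hχ with e | e <;> rw [e] <;>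
        simp only [map_mul, map_natCast, map_intCast] <;> push_cast <;> ring
    rw [Finset.sum_congr rfl hcube, hset, Finset.sum_insert (by simp [h12, h13]),
      Finset.sum_insert (by simp [h23]), Finset.sum_singleton]
    simp only [map_mul, map_natCast, map_intCast]
    push_cast
    ring
  have hm : ∀ χ ∈ B', 0 < x χ ∧ (c χ = 1 ∨ c χ = -1) ∧ (4 : ℤ) ∣ (x χ : ℤ) + 3 * c χ :=
    fun χ hχ => ⟨hx0 χ, hone χ hχ, h4 χ⟩
  obtain ⟨ha, he, ha4⟩ := hm χ₁ (by rw [hset]; simp)
  obtain ⟨hb, hf, hb4⟩ := hm χ₂ (by rw [hset]; simp)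
  obtain ⟨hg, hg', hg4⟩ := hm χ₃ (by rw [hset]; simp)
  refine ⟨x χ₁, x χ₂, x χ₃, c χ₁, c χ₂, c χ₃, ⟨ha, hb, hg⟩, he, hf, hg', ⟨ha4, hb4, hg4⟩, ?_, ?_⟩
  · rw [hset, Finset.sum_insert (by simp [h12, h13]), Finset.sum_insert (by simp [h23]),
      Finset.sum_singleton] at horth
    linarith
  · rw [hsupp] at hcount
    set N := (Subgroup.normalizer ((V : Subgroup G) : Set G)).index with hN
    have hGN : Nat.card G = N * (12 * Nat.card D) := by
      rw [← h.card_normalizer]; exact (Subgroup.index_mul_card _).symm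
    have hC4 : C = 4 * Nat.card D := h.card_core.1
    have hK3 : K = 3 * N := by
      refine Nat.eq_of_mul_eq_mul_right (show 0 < C from Nat.card_pos) ?_
      rw [hKC, hGN, hC4]; ring
    have hgoal : ((((1 : ℚ) + (c χ₁ : ℚ) / (x χ₁ : ℚ) + (c χ₂ : ℚ) / (x χ₂ : ℚ)
        + (c χ₃ : ℚ) / (x χ₃ : ℚ)) * (3 * (N : ℚ)) : ℚ) : ℂ) = ((8 : ℚ) : ℂ) := by
      have hD0 : (Nat.card D : ℂ) ≠ 0 := Nat.cast_ne_zero.2 Nat.card_pos.ne'
      have hN0 : (N : ℂ) ≠ 0 := Nat.cast_ne_zero.2 Subgroup.index_ne_zero_of_finite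
      rw [hK3, hGN] at hcount
      push_cast at hcount ⊢
      field_simp at hcount
      linear_combination (-1 / 3 : ℂ) * hcount
    exact_mod_cast hgoal

/-- There are one, three or five conjugates of the four-group. -/
lemma index_normalizer_le :
    (Subgroup.normalizer ((V : Subgroup G) : Set G)).index ≤ 5 := by
  obtain ⟨a, b, c, e, f, g, ⟨ha, hb, hc⟩, he, hf, hg, ⟨ha4, hb4, hc4⟩, hsum, heq⟩ :=
    h.degree_equations
  set N := (Subgroup.normalizer ((V : Subgroup G) : Set G)).index
  by_contra hN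
  push Not at hN
  have hN6 : (6 : ℚ) ≤ (N : ℚ) := by exact_mod_cast hN
  have hinv3 : ∀ n : ℕ, 3 ≤ n → (1 : ℚ) / n ≤ 1 / 3 := fun n hn => by
    gcongr; exact_mod_cast hn
  have hinv7 : ∀ n : ℕ, 7 ≤ n → (1 : ℚ) / n ≤ 1 / 7 := fun n hn => by
    gcongr; exact_mod_cast hn
  have hnn : ∀ n : ℕ, (0 : ℚ) ≤ 1 / n := fun n => by positivity
  have big : ∀ t : ℚ, 4 / 9 < t → t * (3 * (N : ℚ)) = 8 → False := fun t ht h8 => by
    nlinarith [mul_le_mul ht.le (show (18 : ℚ) ≤ 3 * N by linarith) (by norm_num) (by linarith)]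
  have two : ∀ p q r : ℕ, (4 : ℤ) ∣ (p : ℤ) - 3 → (4 : ℤ) ∣ (q : ℤ) - 3 →
      (1 : ℤ) - p - q + r = 0 → (1 - 1 / (p : ℚ) - 1 / q + 1 / r) * (3 * (N : ℚ)) = 8 → False := by
    intro p q r hp hq hsum h8
    refine big _ ?_ h8
    have hrn := hnn r
    rcases (show p = 3 ∨ 7 ≤ p by omega) with rfl | hp7
    · rcases (show q = 3 ∨ 7 ≤ q by omega) with rfl | hq7
      · obtain rfl : r = 5 := by omega
        norm_num
      · have := hinv7 q hq7
        push_cast
        linarith
    · have := hinv7 p hp7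
      have := hinv3 q (by omega)
      linarith
  have one' : ∀ p q r : ℕ, (4 : ℤ) ∣ (p : ℤ) - 3 →
      (1 - 1 / (p : ℚ) + 1 / q + 1 / r) * (3 * (N : ℚ)) = 8 → False := by
    intro p q r hp h8
    refine big _ ?_ h8
    have := hinv3 p (by omega)
    have := hnn q
    have := hnn r
    linarith
  rcases he with rfl | rfl <;> rcases hf with rfl | rfl <;> rcases hg with rfl | rfl <;>
    push_cast at heq
  · omega
  · exact one' c a b (by omega) (by linear_combination heq)
  · exact one' b a c (by omega) (by linear_combination heq)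
  · exact two b c a (by omega) (by omega) (by linarith) (by linear_combination heq)
  · exact one' a b c (by omega) (by linear_combination heq)
  · exact two a c b (by omega) (by omega) (by linarith) (by linear_combination heq)
  · exact two a b c (by omega) (by omega) (by linarith) (by linear_combination heq)
  · omega

/-- The action on the conjugates of a non-normal four-group. -/
theorem exists_hom_perm_five (hnn : ¬ (V : Subgroup G).Normal) :
    ∃ φ : G →* Equiv.Perm (Fin 5), Odd (Nat.card φ.ker) ∧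
      (∀ k ∈ φ.ker, k * v = v * k) ∧
      Nat.card G = 60 * Nat.card (centralizerPPrimeCore 2 v) := by
  classical
  have := Fact.mk Nat.prime_two
  set M := Subgroup.normalizer ((V : Subgroup G) : Set G) with hM
  have hMne : M ≠ ⊤ := fun e => hnn (Subgroup.normalizer_eq_top_iff.1 e)
  haveI := Fintype.ofFinite (G ⧸ M)
  set ψ : G →* Equiv.Perm (G ⧸ M) := MulAction.toPermHom G (G ⧸ M) with hψ
  have hker : ∀ k ∈ ψ.ker, ∀ g : G, g⁻¹ * k * g ∈ M := by
    intro k hk g
    have := congrArg (fun p : Equiv.Perm (G ⧸ M) => p (g : G ⧸ M)) (MonoidHom.mem_ker.1 hk)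
    simp only [hψ, MulAction.toPermHom_apply, MulAction.toPerm_apply, Equiv.Perm.coe_one,
      id_eq] at this
    rw [MulAction.Quotient.smul_coe, QuotientGroup.eq, smul_eq_mul] at this
    have h2 := inv_mem this
    simpa [mul_assoc] using h2
  have hodd : Odd (Nat.card ψ.ker) := by
    rw [Nat.odd_iff]
    by_contra hne
    obtain ⟨s, hs⟩ := exists_prime_orderOf_dvd_card' (G := ψ.ker) 2 (Nat.dvd_of_mod_eq_zero
      (by omega))
    have hs2 : orderOf (s : G) = 2 := by rw [Subgroup.orderOf_coe, hs]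
    have hall : ∀ g : G, g⁻¹ * (s : G) * g ∈ V := fun g => h.mem_of_normalize
      ⟨1, by
        rw [show g⁻¹ * (s : G) * g = g⁻¹ * (s : G) * g⁻¹⁻¹ by rw [inv_inv], orderOf_conj_eq, hs2,
          pow_one]⟩ (hker s s.2 g)
    refine hMne (Subgroup.eq_top_iff' M |>.2 fun g => ?_)
    have hs1 : (s : G) ≠ 1 := fun e => by rw [e, orderOf_one] at hs2; norm_num at hs2
    exact h.ti (by simpa using hall 1) hs1 (hall g)
  have h4 : 4 ∣ Nat.card G := by
    have := h.klein
    rw [← IsKleinFour.card_four (G := (V : Subgroup G))]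
    exact Subgroup.card_subgroup_dvd_card _
  have hdvd : Nat.card ψ.range ∣ (M.index).factorial := by
    have := Subgroup.card_subgroup_dvd_card ψ.range
    rwa [Nat.card_perm, ← Subgroup.index] at this
  have hGeq : Nat.card G = Nat.card ψ.ker * Nat.card ψ.range := by
    rw [← Subgroup.index_ker, mul_comm]; exact (Subgroup.index_mul_card _).symm
  have h4r : 4 ∣ (M.index).factorial := by
    refine dvd_trans ?_ hdvd
    refine (Nat.Coprime.pow_left 2 (Nat.coprime_two_left.2 hodd)).dvd_of_dvd_mul_left ?_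
    rw [← hGeq]; exact h4
  have hodd' : Odd M.index := by
    rw [Nat.odd_iff]
    have h2 : ¬ 2 ∣ M.index := fun hd => V.not_dvd_index
      (hd.trans (Subgroup.index_dvd_of_le (Subgroup.le_normalizer)))
    omega
  have hN5 : M.index = 5 := by
    have hle := h.index_normalizer_le
    rw [← hM] at hle
    have h0 : M.index ≠ 0 := Subgroup.index_ne_zero_of_finite
    rw [Nat.odd_iff] at hodd'
    by_contra hne
    interval_cases hi : M.index <;> simp_all [Nat.factorial]
  let eqv : G ⧸ M ≃ Fin 5 :=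
    (Fintype.equivFin _).trans (finCongr (by rw [← Nat.card_eq_fintype_card, ← Subgroup.index, hN5]))
  refine ⟨eqv.permCongrHom.toMonoidHom.comp ψ, ?_, ?_, ?_⟩
  · rwa [MonoidHom.ker_comp_of_injective _ _ eqv.permCongrHom.injective]
  · rw [MonoidHom.ker_comp_of_injective _ _ eqv.permCongrHom.injective]
    intro k hk
    have hkM : k ∈ M := by simpa using hker k hk 1
    have hV : k * v * k⁻¹ * v⁻¹ ∈ V :=
      mul_mem ((Subgroup.mem_normalizer_iff.1 hkM v).1 h.hvV) (inv_mem h.hvV)
    have hK : k * v * k⁻¹ * v⁻¹ ∈ ψ.ker := by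
      rw [show k * v * k⁻¹ * v⁻¹ = k * (v * k⁻¹ * v⁻¹) by group]
      exact mul_mem hk (Subgroup.Normal.conj_mem inferInstance _ (inv_mem hk) v)
    have h2 : orderOf (k * v * k⁻¹ * v⁻¹) ∣ 2 :=
      orderOf_dvd_of_pow_eq_one (by rw [pow_two, h.sq hV])
    have h3 : Odd (orderOf (k * v * k⁻¹ * v⁻¹)) := by
      refine hodd.of_dvd_nat ?_
      rw [← Subgroup.orderOf_mk (H := ψ.ker) _ hK]
      exact orderOf_dvd_natCard _
    rcases (Nat.dvd_prime Nat.prime_two).1 h2 with h1 | h1
    · exact mul_inv_eq_iff_eq_mul.1 (mul_inv_eq_one.1 (orderOf_eq_one_iff.1 h1))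
    · rw [h1] at h3; exact absurd h3 (by decide)
  · rw [← Subgroup.index_mul_card M, hN5, hM, h.card_normalizer]; ring

/-- Recognition of `A₅`. -/
theorem nonempty_mulEquiv (hnn : ¬ (V : Subgroup G).Normal)
    (hker : ∀ K : Subgroup G, K.Normal → Odd (Nat.card K) → (∀ k ∈ K, k * v = v * k) → K = ⊥) :
    Nonempty (G ≃* ↥(alternatingGroup (Fin 5))) := by
  obtain ⟨φ, hodd, hc, hcard⟩ := h.exists_hom_perm_five hnn
  have hinj : Function.Injective φ :=
    (MonoidHom.ker_eq_bot_iff φ).1 (hker φ.ker inferInstance hodd hc)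
  have hr : Nat.card φ.range = Nat.card G :=
    (Nat.card_congr (MonoidHom.ofInjective hinj).toEquiv).symm
  have h120 : Nat.card (Equiv.Perm (Fin 5)) = 120 := by
    rw [Nat.card_perm, Nat.card_fin]; rfl
  have hdvd := Subgroup.card_subgroup_dvd_card φ.range
  rw [hr, hcard, h120, show (120 : ℕ) = 60 * 2 from rfl,
    Nat.mul_dvd_mul_iff_left (by norm_num)] at hdvd
  have hD1 : Nat.card (centralizerPPrimeCore 2 v) = 1 := by
    rcases (Nat.dvd_prime Nat.prime_two).1 hdvd with h1 | h1
    · exact h1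
    · have := h.card_core.2
      rw [h1] at this
      exact absurd this (by decide)
  have hidx : φ.range.index = 2 := by
    have := φ.range.index_mul_card
    rw [hr, hcard, hD1, h120] at this
    omega
  exact ⟨(MonoidHom.ofInjective hinj).trans
    (MulEquiv.subgroupCongr (Equiv.Perm.eq_alternatingGroup_of_index_eq_two hidx))⟩

end KleinData

end Cfsg.Agent.Lib.InvChar
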