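import Cfsg.Agent.Lib.InvChar.TwoTimesSymFour

/-!
The candidates for the subgroup of index two.
-/

set_option autoImplicit false
open Cfsg

namespace Cfsg.Agent.Lib.InvChar.TwoSymFour

open Subgroup Equiv

variable {G : Type*} [Group G] [Finite G]

/-- An index two subgroup with a symmetric complement inside the centralizer. -/
structure Setup (t : G) where
  M : Subgroup G
  φ : Perm (Fin 4) →* ↥M
  ht : orderOf t = 2
  normal : M.Normal
  index : M.index = 2
  notMem : t ∉ M
  inj : Function.Injective φ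
  comm : ∀ s, t * (φ s : G) = (φ s : G) * t
  mem_range : ∀ x : ↥M, t * (x : G) = (x : G) * t → ∃ s, φ s = x
  cz : ∀ x : G, x * (φ z0 : G) = (φ z0 : G) * x → x * t = t * x
  cG : Nat.card ↥(centralizer ({t} : Set G)) = 48
  nc1 : ¬ IsConj t (φ z0 : G)
  nc2 : ¬ IsConj t (t * (φ z0 : G))
  cM : ∀ x : G, x * (φ z0 : G) = (φ z0 : G) * x → t * x = x * t

/-- Existence of a setup. -/
theorem exists_setup {t : G} (e : ↥(centralizer ({t} : Set G)) ≃* W) (d : Data e)
    (M : Subgroup G) (hMn : M.Normal) (hM2 : M.index = 2) (htM : t ∉ M) :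
    Nonempty (Setup t) := by
  classical
  have hxor : ∀ s : Perm (Fin 4), ∃ i, el e (i, s) ∈ M := by
    intro s
    by_cases h : el e (1, s) ∈ M
    · exact ⟨1, h⟩
    · refine ⟨u2, ?_⟩
      have := (Subgroup.mul_mem_iff_of_index_two hM2).mpr (iff_of_false htM h)
      have h' : el e (u2, s) = t * el e (1, s) := by
        rw [show ((u2, s) : W) = tW * (1, s) by simp [tW], el_mul, el_tW e d.ht]
      rw [h']; exact this
  have huniq : ∀ (s : Perm (Fin 4)) i j, el e (i, s) ∈ M → el e (j, s) ∈ M → i = j := by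
    intro s i j hi hj
    by_contra hne
    apply htM
    have := mul_mem hi (inv_mem hj)
    rw [← el_inv, ← el_mul] at this
    rw [← el_tW e d.ht]
    convert this using 2
    revert hne; revert s
    rcases u2_cases i with rfl | rfl <;> rcases u2_cases j with rfl | rfl <;> intro s _ _ hne <;>
      first
        | exact absurd rfl hne
        | simp [tW, show u2⁻¹ = u2 by decide]
  choose ε hε using hxor
  let φ : Perm (Fin 4) →* ↥M := MonoidHom.mk' (fun s => ⟨el e (ε s, s), hε s⟩) (by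
    intro a b
    apply Subtype.ext
    show el e (ε (a * b), a * b) = el e (ε a, a) * el e (ε b, b)
    rw [← el_mul, Prod.mk_mul_mk]
    congr 2
    refine huniq _ _ _ (hε _) ?_
    rw [← Prod.mk_mul_mk, el_mul]
    exact mul_mem (hε a) (hε b))
  have hzM : el e zW ∈ M := by
    obtain ⟨p, -, q, -, hpq⟩ := model_comm_exists
    rw [← hpq, el_mul, el_mul, el_mul, el_inv, el_inv]
    simp only [Subgroup.mul_mem_iff_of_index_two hM2, inv_mem_iff]
    tauto
  have hφz : (φ z0 : G) = el e zW := by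
    show el e (ε z0, z0) = el e (1, z0)
    rw [huniq z0 _ _ (hε z0) hzM]
  refine ⟨⟨M, φ, d.ht, hMn, hM2, htM, fun a b h => ?_, fun s => (el_comm e _).symm, fun x hx => ?_,
    fun x hx => ?_, card_centralizer e, ?_, ?_, fun x hx => ?_⟩⟩
  · exact congrArg Prod.snd (el_inj e (congrArg (fun x : ↥M => (x : G)) h))
  · obtain ⟨⟨i, s⟩, hq⟩ := el_surj e (mem_centralizer_singleton_iff.mpr hx.symm)
    refine ⟨s, Subtype.ext ?_⟩
    show el e (ε s, s) = (x : G)
    rw [huniq s _ i (hε s) (by rw [hq]; exact x.2), hq]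
  · rw [hφz] at hx
    exact mem_centralizer_singleton_iff.mp (d.cz_le (mem_centralizer_singleton_iff.mpr hx))
  · rw [hφz]; exact d.not_conj_tz
  · rw [hφz]; have := d.not_conj_ttz; rwa [el_mul, el_tW e d.ht] at this
  · rw [hφz] at hx
    exact (mem_centralizer_singleton_iff.mp (d.cz_le (mem_centralizer_singleton_iff.mpr hx))).symm

namespace Setup

variable {t : G} (S : Setup t)

omit [Finite G] in
theorem card_eq : 2 * Nat.card ↥S.M = Nat.card G := by
  rw [← S.index, Subgroup.index_mul_card]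

omit [Finite G] in
include S in
theorem mul_self : t * t = 1 := by rw [← pow_two, ← S.ht, pow_orderOf_eq_one]

omit [Finite G] in
theorem decomp (g : G) : g ∈ S.M ∨ t * g ∈ S.M := by
  by_cases h : g ∈ S.M
  · exact Or.inl h
  · exact Or.inr ((Subgroup.mul_mem_iff_of_index_two S.index).mpr (iff_of_false S.notMem h))

omit [Finite G] in
/-- The centralizer of the central involution inside `M` is dihedral. -/
theorem centralizer_iso :
    Nonempty (↥(centralizer ({S.φ z0} : Set ↥S.M)) ≃* DihedralGroup 4) := by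
  let f : DihedralGroup 4 →* ↥(centralizer ({S.φ z0} : Set ↥S.M)) :=
    (S.φ.comp dih).codRestrict _ (fun d => mem_centralizer_singleton_iff.mpr (by
      rw [MonoidHom.comp_apply, ← map_mul, ← map_mul, (dih_range _).mpr ⟨d, rfl⟩]))
  refine ⟨(MulEquiv.ofBijective f ⟨fun a b h => ?_, fun x => ?_⟩).symm⟩
  · exact dih_injective (S.inj (congrArg (fun w : ↥(centralizer ({S.φ z0} : Set ↥S.M)) => (w : ↥S.M)) h))
  · have hx := mem_centralizer_singleton_iff.mp x.2
    obtain ⟨s, hs⟩ := S.mem_range (x : ↥S.M) (S.cM _ (congrArg (fun w : ↥S.M => (w : G)) hx))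
    rw [← hs, ← map_mul, ← map_mul] at hx
    obtain ⟨d, hd⟩ := (dih_range s).mp (S.inj hx)
    exact ⟨d, Subtype.ext (by show S.φ (dih d) = _; rw [hd, hs])⟩

omit [Finite G] in
theorem orderOf_z : orderOf (S.φ z0) = 2 := by
  rw [orderOf_injective S.φ S.inj]
  exact orderOf_eq_prime (by rw [pow_two]; exact model_misc.1) model_misc.2.1

/-- The case with a normal complement cannot happen. -/
theorem not_complement (h : centralizer ({S.φ z0} : Set ↥S.M) ⊔ oddCore ↥S.M = ⊤) : False := by
  obtain ⟨e8⟩ := S.centralizer_iso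
  set O := oddCore ↥S.M with hO
  haveI hOn : O.Normal := Cfsg.pPrimeCore_normal 2 _
  set x := S.φ c3 with hx
  have hxO : x ∈ O := by
    obtain ⟨c, hc, o, ho, hco⟩ : ∃ c ∈ centralizer ({S.φ z0} : Set ↥S.M), ∃ o ∈ O, c * o = x := by
      have := h.ge (mem_top x)
      rw [← SetLike.mem_coe, Subgroup.mul_normal] at this
      exact this
    have h8 : c ^ 8 = 1 := by
      have h8' : Nat.card ↥(centralizer ({S.φ z0} : Set ↥S.M)) = 8 := by
        rw [Nat.card_congr e8.toEquiv, DihedralGroup.nat_card]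
      have : (⟨c, hc⟩ : ↥(centralizer ({S.φ z0} : Set ↥S.M))) ^ 8 = 1 := h8' ▸ pow_card_eq_one'
      exact congrArg (fun w : ↥(centralizer ({S.φ z0} : Set ↥S.M)) => (w : ↥S.M)) this
    have hq : (x : ↥S.M ⧸ O) ^ 8 = 1 := by
      rw [← hco, QuotientGroup.mk_mul, (QuotientGroup.eq_one_iff o).mpr ho, mul_one,
        ← QuotientGroup.mk_pow, h8, QuotientGroup.mk_one]
    have hq3 : (x : ↥S.M ⧸ O) ^ 3 = 1 := by
      rw [← QuotientGroup.mk_pow, hx, ← map_pow, model_misc.2.2.1, map_one, QuotientGroup.mk_one]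
    refine (QuotientGroup.eq_one_iff x).mp ?_
    calc (x : ↥S.M ⧸ O) = (x : ↥S.M ⧸ O) * ((x : ↥S.M ⧸ O) ^ 8) := by rw [hq, mul_one]
      _ = ((x : ↥S.M ⧸ O) ^ 3) ^ 3 := by rw [← pow_succ', ← pow_mul]
      _ = 1 := by rw [hq3, one_pow]
  set y := S.φ (c3 * z0 * c3⁻¹ * z0⁻¹) with hy
  have hyO : y ∈ O := by
    rw [hy, map_mul, map_mul, map_mul, map_inv, map_inv, ← hx, mul_assoc, mul_assoc, ← mul_assoc (S.φ z0)]
    exact mul_mem hxO (hOn.conj_mem _ (inv_mem hxO) _)
  have hy2 : orderOf y = 2 := by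
    rw [hy, orderOf_injective S.φ S.inj]
    exact orderOf_eq_prime (by rw [pow_two]; exact model_misc.2.2.2.2.1) model_misc.2.2.2.2.2.1
  have := (Cfsg.Agent.Lib.Components.pPrimeCore_coprime (G := ↥S.M) 2).coprime_dvd_left
    (Subgroup.orderOf_dvd_natCard _ hyO)
  rw [hy2] at this
  norm_num at this

/-- When `M` has order twenty-four the centralizer is everything. -/
theorem top_of_symFour (h : Nonempty (↥S.M ≃* Perm (Fin 4))) :
    centralizer ({t} : Set G) = ⊤ := by
  obtain ⟨e4⟩ := h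
  refine Subgroup.eq_top_of_card_eq _ ?_
  rw [← S.card_eq, S.cG, Nat.card_congr e4.toEquiv, Nat.card_eq_fintype_card, Fintype.card_perm,
    Fintype.card_fin]
  rfl

omit [Finite G] in
/-- An element of the centralizer is in the complement up to `t`. -/
theorem centralizer_cases {g : G} (hg : t * g = g * t) :
    ∃ s, g = (S.φ s : G) ∨ g = t * (S.φ s : G) := by
  rcases S.decomp g with h | h
  · obtain ⟨s, hs⟩ := S.mem_range ⟨g, h⟩ hg
    exact ⟨s, Or.inl (by rw [hs])⟩
  · obtain ⟨s, hs⟩ := S.mem_range ⟨t * g, h⟩ (by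
      show t * (t * g) = t * g * t
      rw [mul_assoc t g t, hg])
    exact ⟨s, Or.inr (by rw [hs]; show g = t * (t * g); rw [← mul_assoc, S.mul_self, one_mul])⟩

/-- Outside the case of order twenty-four nothing normal lies in the centralizer. -/
theorem normal_eq_bot (h24 : Nat.card ↥S.M ≠ 24) (N : Subgroup G) [hN : N.Normal]
    (hle : N ≤ centralizer ({t} : Set G)) : N = ⊥ := by
  have hcard : ∀ (_ : ∀ m : ↥S.M, ∃ s, S.φ s = m), False := fun h => h24 (by
    rw [← Nat.card_eq_of_bijective S.φ ⟨S.inj, h⟩, Nat.card_perm, Nat.card_fin]; rfl)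
  haveI := S.normal
  set N0 := (N.subgroupOf S.M).comap S.φ with hN0
  haveI hN0n : N0.Normal := inferInstance
  have hN0bot : N0 = ⊥ := by
    rw [eq_bot_iff]
    intro s hs
    by_contra hs1
    rw [Subgroup.mem_bot] at hs1
    obtain ⟨p, q, h⟩ := model_normal s hs1
    have hz : z0 ∈ N0 := by
      rcases h with h | h
      · exact h ▸ hN0n.conj_mem s hs p
      · exact h ▸ hN0n.conj_mem _ (mul_mem hs (hN0n.conj_mem s hs p)) q
    apply hcard
    intro m
    have hmem : m * S.φ z0 * m⁻¹ ∈ N.subgroupOf S.M := (hN.subgroupOf S.M).conj_mem _ hz m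
    have hin : ∀ y : ↥S.M, y ∈ N.subgroupOf S.M → ∃ u, S.φ u = y := fun y hy =>
      S.mem_range y (mem_centralizer_singleton_iff.mp (hle hy)).symm
    obtain ⟨u, hu⟩ := hin _ hmem
    have hu2 : u * u = 1 := S.inj (by
      rw [map_mul, map_one, hu, show m * S.φ z0 * m⁻¹ * (m * S.φ z0 * m⁻¹) = m * (S.φ z0 * S.φ z0) * m⁻¹ by group,
        ← map_mul, model_misc.1, map_one, mul_one, mul_inv_cancel])
    have hu1 : u ≠ 1 := fun h' => model_misc.2.1 (S.inj (by
      rw [h', map_one, eq_comm, conj_eq_one_iff] at hu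
      rw [hu, map_one]))
    obtain ⟨r, hr⟩ : ∃ r, r * u * r⁻¹ = z0 := by
      obtain ⟨r, hr | hr⟩ := model_invol4 u hu2 hu1
      · exact ⟨r, hr⟩
      · have ha : a0 ∈ N0 := by
          rw [← hr]
          exact hN0n.conj_mem u (show S.φ u ∈ N.subgroupOf S.M by rw [hu]; exact hmem) r
        obtain ⟨p1, p2, p3, hc⟩ := model_c4_prod
        have hc4 : c4 ∈ N0 := hc ▸ mul_mem (mul_mem (hN0n.conj_mem _ ha p1) (hN0n.conj_mem _ ha p2))
          (hN0n.conj_mem _ ha p3)
        obtain ⟨v, hv⟩ := hin _ ((hN.subgroupOf S.M).conj_mem _ hc4 m)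
        have hsq : v * v = u := S.inj (by
          rw [map_mul, hv, hu, show m * S.φ c4 * m⁻¹ * (m * S.φ c4 * m⁻¹) = m * (S.φ c4 * S.φ c4) * m⁻¹ by group,
            ← map_mul, model_c4_sq.1])
        exact model_c4_sq.2 v (hsq ▸ hu2) (hsq ▸ hu1) |>.imp fun r hr => hsq ▸ hr
    have hcz : (S.φ r * m) * S.φ z0 = S.φ z0 * (S.φ r * m) := by
      calc S.φ r * m * S.φ z0 = S.φ r * (m * S.φ z0 * m⁻¹) * (S.φ r)⁻¹ * (S.φ r * m) := by group
        _ = _ := by rw [← hu, ← map_inv, ← map_mul, ← map_mul, hr]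
    obtain ⟨v, hv⟩ := S.mem_range _ (S.cM _ (congrArg (fun w : ↥S.M => (w : G)) hcz))
    exact ⟨r⁻¹ * v, by rw [map_mul, map_inv, hv, inv_mul_cancel_left]⟩
  have hNM : ∀ n ∈ N, n ∈ S.M → n = 1 := by
    intro n hn hnM
    obtain ⟨s, hs⟩ := S.mem_range ⟨n, hnM⟩ (mem_centralizer_singleton_iff.mp (hle hn)).symm
    have hmem : s ∈ N0 := show S.φ s ∈ N.subgroupOf S.M by rw [hs]; exact hn
    rw [hN0bot, Subgroup.mem_bot] at hmem
    rw [hmem, map_one] at hs
    exact (congrArg (fun w : ↥S.M => (w : G)) hs).symm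
  rw [eq_bot_iff]
  intro k hk
  rw [Subgroup.mem_bot]
  by_contra hk1
  have hkt : t * k = k * t := (mem_centralizer_singleton_iff.mp (hle hk)).symm
  have hkM : ∀ m ∈ S.M, k * m = m * k := by
    intro m hm
    refine mul_inv_eq_iff_eq_mul.mp (mul_inv_eq_one.mp (hNM _ ?_ (mul_mem (S.normal.conj_mem m hm k) (inv_mem hm))))
    rw [mul_assoc, mul_assoc, ← mul_assoc m]
    exact mul_mem hk (hN.conj_mem _ (inv_mem hk) m)
  have hkout : k ∉ S.M := fun h => hk1 (hNM k hk h)
  obtain ⟨s, hs | hs⟩ := S.centralizer_cases hkt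
  · exact hkout (hs ▸ (S.φ s).2)
  · have hs1 : s = 1 := model_center4 s fun p => S.inj (by
      rw [map_mul, map_mul]
      refine Subtype.ext (mul_left_cancel (a := t) ?_)
      show t * ((S.φ s : G) * (S.φ p : G)) = t * ((S.φ p : G) * (S.φ s : G))
      rw [← mul_assoc, ← hs, hkM _ (S.φ p).2, hs, ← mul_assoc, ← S.comm p, mul_assoc])
    rw [hs1, map_one, OneMemClass.coe_one, mul_one] at hs
    rw [hs] at hkM
    exact hcard fun m => S.mem_range m (hkM m m.2)

/-- `M` is not symmetric of degree five. -/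
theorem not_symFive (h : Nonempty (↥S.M ≃* Perm (Fin 5))) : False := by
  obtain ⟨e5⟩ := h
  classical
  have h120 : Nat.card ↥S.M = 120 := by
    rw [Nat.card_congr e5.toEquiv, Nat.card_perm, Nat.card_fin]; rfl
  have hG : Nat.card G = 240 := by rw [← S.card_eq, h120]
  set C := centralizer ({t} : Set G) with hC
  have hidx : C.index = 5 := by
    have := C.card_mul_index
    rw [S.cG, hG] at this
    omega
  have hker : (MulAction.toPermHom G (G ⧸ C)).ker = ⊥ := by
    haveI : (MulAction.toPermHom G (G ⧸ C)).ker.Normal := MonoidHom.normal_ker _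
    refine S.normal_eq_bot (by omega) _ ?_
    rw [← Subgroup.normalCore_eq_ker]
    exact C.normalCore_le
  have hle := Nat.card_le_card_of_injective _ ((MonoidHom.ker_eq_bot_iff _).mp hker)
  rw [hG, Nat.card_perm, ← Subgroup.index, hidx] at hle
  norm_num [Nat.factorial] at hle

omit [Finite G] in
theorem card_le_centralizer_z : Nat.card ↥(centralizer ({S.φ z0} : Set ↥S.M)) = 8 := by
  obtain ⟨e8⟩ := S.centralizer_iso
  rw [Nat.card_congr e8.toEquiv, DihedralGroup.nat_card]

/-- In the simple case both classes of involutions of the complement fuse. -/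
theorem conj_a0 [IsSimpleGroup ↥S.M] {m : ℕ} (hcard : Nat.card ↥S.M = 2 ^ 3 * m) (hm : ¬ 2 ∣ m) (hm1 : m ≠ 0) :
    IsConj (S.φ z0) (S.φ a0) := by
  haveI : Fact (Nat.Prime 2) := ⟨Nat.prime_two⟩
  set C8 := centralizer ({S.φ z0} : Set ↥S.M) with hC8
  let P : Sylow 2 ↥S.M := Sylow.ofCard C8 (by
    rw [S.card_le_centralizer_z, hcard, Nat.factorization_mul (by norm_num) hm1, Finsupp.add_apply,
      Nat.Prime.factorization_pow Nat.prime_two, Finsupp.single_eq_same,
      Nat.factorization_eq_zero_of_not_dvd hm]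
    rfl)
  have hPc : (P : Subgroup ↥S.M) = C8 := rfl
  set Q := zpowers (S.φ c4) with hQ
  have hc4 : orderOf (S.φ c4) = 4 := by
    rw [orderOf_injective S.φ S.inj]
    exact orderOf_eq_prime_pow (p := 2) (n := 1) (by decide +kernel) (by decide +kernel)
  have hmemC : ∀ s, s * z0 = z0 * s → S.φ s ∈ C8 := fun s hs => mem_centralizer_singleton_iff.mpr (by
    rw [← map_mul, ← map_mul, hs])
  have hQP : Q ≤ (P : Subgroup ↥S.M) := by
    rw [hPc, hQ, zpowers_le]
    exact hmemC _ model_c4.2.1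
  have hrel : Q.relIndex (P : Subgroup ↥S.M) = 2 := by
    have h := (Q.subgroupOf (P : Subgroup ↥S.M)).card_mul_index
    rw [Nat.card_congr (subgroupOfEquivOfLe hQP).toEquiv, hQ, Nat.card_zpowers, hc4, hPc, S.card_le_centralizer_z] at h
    rw [Subgroup.relIndex, hPc, hQ]
    omega
  have hQinv : ∀ y ∈ Q, ∃ n : Fin 4, y = S.φ (c4 ^ (n : ℕ)) := by
    intro y hy
    classical
    rw [hQ, mem_zpowers_iff_mem_range_orderOf, Finset.mem_image] at hy
    obtain ⟨n, hn, rfl⟩ := hy
    rw [Finset.mem_range, hc4] at hn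
    exact ⟨⟨n, hn⟩, (map_pow S.φ c4 n).symm⟩
  have hao : orderOf (S.φ a0) = 2 := by
    rw [orderOf_injective S.φ S.inj]
    exact orderOf_eq_prime (by rw [pow_two]; exact model_misc.2.2.2.2.2.2.1) model_misc.2.2.2.2.2.2.2.1
  have haQ : S.φ a0 ∉ Q := fun h => by
    obtain ⟨n, hn⟩ := hQinv _ h
    exact model_c4.2.2.1 n (S.inj hn).symm
  rcases Cfsg.Agent.S0111.result P Q hQP hrel (S.φ a0) hao (hmemC _ model_c4.1) haQ with ⟨N, hN, hN2, -⟩ | ⟨g, hg⟩
  · exfalso
    rcases hN.eq_bot_or_eq_top with rfl | rfl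
    · rw [Subgroup.index_bot, hcard] at hN2
      omega
    · simp at hN2
  · obtain ⟨n, hn⟩ := hQinv _ hg
    have hsq : c4 ^ (n : ℕ) * c4 ^ (n : ℕ) = 1 := S.inj (by
      rw [map_mul, ← hn, map_one, show g * S.φ a0 * g⁻¹ * (g * S.φ a0 * g⁻¹) = g * (S.φ a0 * S.φ a0) * g⁻¹ by group,
        ← map_mul, model_misc.2.2.2.2.2.2.1, map_one, mul_one, mul_inv_cancel])
    rcases model_c4.2.2.2 n hsq with h | h
    · exfalso
      rw [h, map_one, conj_eq_one_iff] at hn
      exact model_misc.2.2.2.2.2.2.2.1 (S.inj (hn.trans (map_one S.φ).symm))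
    · exact (isConj_iff.mpr ⟨g, hn.trans (by rw [h])⟩ : IsConj (S.φ a0) (S.φ z0)).symm

omit [Finite G] in
/-- Then `t` fuses with its products by transpositions. -/
theorem fuse (hconj : IsConj (S.φ z0) (S.φ a0)) : IsConj t (t * (S.φ a0 : G)) := by
  obtain ⟨g, hg⟩ := isConj_iff.mp hconj
  have hg' : (g : G) * (S.φ z0 : G) * (g : G)⁻¹ = (S.φ a0 : G) := congrArg (fun w : ↥S.M => (w : G)) hg
  set z : G := (S.φ z0 : G) with hz
  set u := (g : G)⁻¹ * t * (g : G) with hu
  have huz : u * z = z * u := by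
    calc u * z = (g : G)⁻¹ * (t * ((g : G) * z * (g : G)⁻¹)) * (g : G) := by rw [hu]; group
      _ = (g : G)⁻¹ * ((g : G) * z * (g : G)⁻¹ * t) * (g : G) := by rw [hg', S.comm]
      _ = _ := by rw [hu]; group
  have htu : IsConj t u := isConj_iff.mpr ⟨(g : G)⁻¹, by rw [hu, inv_inv]⟩
  obtain ⟨s, hs⟩ := S.centralizer_cases (S.cM u huz)
  have hsD : s * z0 = z0 * s := S.inj (by
    apply Subtype.ext
    rw [map_mul, map_mul]
    show (S.φ s : G) * z = z * (S.φ s : G)
    rcases hs with h | h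
    · rw [← h]; exact huz
    · refine mul_left_cancel (a := t) ?_
      rw [← mul_assoc, ← h, huz, h, ← mul_assoc, ← mul_assoc, hz, S.comm z0])
  rcases model_D s hsD with rfl | rfl | ⟨d, hd, hds⟩
  · exfalso
    rcases hs with h | h <;> simp only [map_one, OneMemClass.coe_one, mul_one] at h
    · rw [h, isConj_one_left] at htu
      have := S.ht
      rw [htu, orderOf_one] at this
      norm_num at this
    · have hgt : t * (g : G) = (g : G) * t := by
        calc t * (g : G) = (g : G) * u := by rw [hu]; group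
          _ = _ := by rw [h]
      obtain ⟨r, hr⟩ := S.mem_range g hgt
      rw [← hr, ← map_inv, ← map_mul, ← map_mul] at hg
      exact model_a0_z0 r (S.inj hg)
  · exfalso
    rcases hs with h | h
    · exact S.nc1 (h ▸ htu)
    · exact S.nc2 (h ▸ htu)
  · have hφ : (S.φ d : G) * (S.φ s : G) * (S.φ d : G)⁻¹ = z * (S.φ s : G) := by
      have := congrArg (fun w => ((S.φ w : ↥S.M) : G)) hds
      simpa [map_mul, map_inv] using this
    have hd' : (S.φ d : G) * u * (S.φ d : G)⁻¹ = z * u := by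
      rcases hs with h | h
      · rw [h, hφ]
      · rw [h, ← mul_assoc (S.φ d : G), ← S.comm d, mul_assoc t, mul_assoc t, hφ, ← mul_assoc, ← mul_assoc, hz,
          S.comm z0]
    refine isConj_iff.mpr ⟨(g : G) * (S.φ d : G) * (g : G)⁻¹, ?_⟩
    calc (g : G) * (S.φ d : G) * (g : G)⁻¹ * t * ((g : G) * (S.φ d : G) * (g : G)⁻¹)⁻¹
        = (g : G) * ((S.φ d : G) * u * (S.φ d : G)⁻¹) * (g : G)⁻¹ := by rw [hu]; group
      _ = (g : G) * z * (g : G)⁻¹ * t := by rw [hd', hu]; group
      _ = _ := by rw [hg', S.comm]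

/-- `M` is not `SL₃(2)`. -/
theorem not_sl (h168 : Nat.card ↥S.M = 168) [IsSimpleGroup ↥S.M] : False := by
  classical
  have hconj := S.conj_a0 (m := 21) (by rw [h168]; norm_num) (by norm_num) (by norm_num)
  have hf := S.fuse hconj
  obtain ⟨p, hp, i1, j1, hi1, hj1⟩ := model_six
  let v : Option (Fin 6) → G := fun o => o.elim t fun i => t * (S.φ (p i * a0 * (p i)⁻¹) : G)
  have hv : Function.Injective v := by
    intro a b h
    match a, b with
    | none, none => rfl
    | none, some j =>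
      exfalso
      have : (S.φ (p j * a0 * (p j)⁻¹) : G) = 1 := mul_left_cancel (a := t) (by rw [mul_one]; exact h.symm)
      exact model_misc.2.2.2.2.2.2.2.1 (conj_eq_one_iff.mp (S.inj (Subtype.ext (this.trans (by simp)))))
    | some i, none =>
      exfalso
      have : (S.φ (p i * a0 * (p i)⁻¹) : G) = 1 := mul_left_cancel (a := t) (by rw [mul_one]; exact h)
      exact model_misc.2.2.2.2.2.2.2.1 (conj_eq_one_iff.mp (S.inj (Subtype.ext (this.trans (by simp)))))
    | some i, some j => exact congrArg some (hp (S.inj (Subtype.ext (mul_left_cancel h))))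
  have hvc : ∀ o, IsConj t (v o) := by
    intro o
    match o with
    | none => exact IsConj.refl t
    | some i =>
      refine hf.trans (isConj_iff.mpr ⟨(S.φ (p i) : G), ?_⟩)
      show _ = t * (S.φ (p i * a0 * (p i)⁻¹) : G)
      simp only [map_mul, map_inv, Subgroup.coe_mul, InvMemClass.coe_inv]
      rw [← mul_assoc (S.φ (p i) : G), ← S.comm (p i)]
      group
  choose g hg using fun o => isConj_iff.mp (hvc o)
  set C := centralizer ({t} : Set G) with hC
  have hgi : Function.Injective fun o => (g o : G ⧸ C) := by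
    intro a b h
    have h' := mem_centralizer_singleton_iff.mp (QuotientGroup.eq.mp h)
    apply hv
    calc v a = g a * t * (g a)⁻¹ := (hg a).symm
      _ = g b * ((g a)⁻¹ * g b)⁻¹ * t * (g a)⁻¹ := by group
      _ = g b * ((g a)⁻¹ * g b)⁻¹ * (t * ((g a)⁻¹ * g b)) * (g b)⁻¹ := by group
      _ = g b * ((g a)⁻¹ * g b)⁻¹ * (((g a)⁻¹ * g b) * t) * (g b)⁻¹ := by rw [h']
      _ = g b * t * (g b)⁻¹ := by group
      _ = v b := hg b
  have hidx : C.index = 7 := by
    have := C.card_mul_index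
    rw [S.cG, ← S.card_eq, h168] at this
    omega
  have hbij := (Nat.bijective_iff_injective_and_card _).mpr ⟨hgi, by
    rw [← Subgroup.index, hidx, Nat.card_eq_fintype_card]; simp⟩
  have hall : ∀ x : G, ∃ o, x * t * x⁻¹ = v o := by
    intro x
    obtain ⟨o, ho⟩ := hbij.2 (x : G ⧸ C)
    have h' := mem_centralizer_singleton_iff.mp (QuotientGroup.eq.mp ho)
    refine ⟨o, ?_⟩
    calc x * t * x⁻¹ = g o * ((g o)⁻¹ * x * t) * x⁻¹ := by group
      _ = g o * (t * ((g o)⁻¹ * x)) * x⁻¹ := by rw [h']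
      _ = g o * t * (g o)⁻¹ := by group
      _ = v o := hg o
  have hcomm : ∀ x : G, x * t * x⁻¹ * t = t * (x * t * x⁻¹) := by
    intro x
    obtain ⟨o, ho⟩ := hall x
    rw [ho]
    match o with
    | none => rfl
    | some i =>
      show t * (S.φ _ : G) * t = t * (t * (S.φ _ : G))
      rw [mul_assoc, S.comm]
  obtain ⟨x, hx⟩ := isConj_iff.mp (hvc (some i1))
  obtain ⟨y, hy⟩ := isConj_iff.mp (hvc (some j1))
  have hxy : (x * t * x⁻¹) * (y * t * y⁻¹) = (y * t * y⁻¹) * (x * t * x⁻¹) := by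
    calc x * t * x⁻¹ * (y * t * y⁻¹) = x * (t * (x⁻¹ * y * t * (x⁻¹ * y)⁻¹)) * x⁻¹ := by group
      _ = x * (x⁻¹ * y * t * (x⁻¹ * y)⁻¹ * t) * x⁻¹ := by rw [hcomm]
      _ = _ := by group
  rw [hx, hy] at hxy
  simp only [v, Option.elim, hi1, hj1] at hxy
  refine model_misc.2.2.2.2.2.2.2.2 (S.inj (Subtype.ext ?_))
  rw [map_mul, map_mul]
  show (S.φ a0 : G) * (S.φ a1 : G) = (S.φ a1 : G) * (S.φ a0 : G)
  have hl : ∀ p q : Perm (Fin 4), t * (S.φ p : G) * (t * (S.φ q : G)) = (S.φ p : G) * (S.φ q : G) := by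
    intro p q
    rw [S.comm p, mul_assoc, ← mul_assoc t t, S.mul_self, one_mul]
  rw [← hl, ← hl, hxy]

theorem model_double : ∀ σ : Perm (Fin 6), σ ^ 3 = 1 → σ ≠ 1 → ¬ σ.IsThreeCycle →
    σ.cycleType = {3, 3} := by
  intro σ h3 h1 hn
  have hall : ∀ n ∈ σ.cycleType, n = 3 := fun n hn' => by
    rcases (Nat.dvd_prime Nat.prime_three).mp
      ((Perm.dvd_of_mem_cycleType hn').trans (orderOf_dvd_of_pow_eq_one h3)) with h | h
    · have := Perm.two_le_of_mem_cycleType hn'
      omega
    · exact h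
  have hrep := Multiset.eq_replicate_card.mpr hall
  have hsum : σ.cycleType.sum ≤ 6 := by
    rw [Perm.sum_cycleType]
    exact (Finset.card_le_univ _).trans (by simp)
  rw [hrep, Multiset.sum_replicate, smul_eq_mul] at hsum
  have hne : σ.cycleType.card ≠ 0 := fun h => h1 (Perm.cycleType_eq_zero.mp (Multiset.card_eq_zero.mp h))
  have hne1 : σ.cycleType.card ≠ 1 := fun h => hn (by
    rw [Perm.IsThreeCycle, hrep, h]; rfl)
  rw [hrep, show σ.cycleType.card = 2 by omega]
  rfl

theorem double_isConj (x y : alternatingGroup (Fin 6)) (hx : (x : Perm (Fin 6)).cycleType = {3, 3})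
    (hy : (y : Perm (Fin 6)).cycleType = {3, 3}) : IsConj x y := by
  let d : Perm (Fin 6) := swap 0 1 * swap 1 2 * (swap 3 4 * swap 4 5)
  let τ : Perm (Fin 6) := swap 0 3 * swap 1 4 * swap 2 5
  have hd : d.cycleType = {3, 3} := model_double d (by decide +kernel) (by decide +kernel)
    (fun h => absurd h.card_support (by decide +kernel))
  have hτ : Perm.sign τ = -1 ∧ τ * d = d * τ := by decide +kernel
  have hda : d ∈ alternatingGroup (Fin 6) := show Perm.sign d = 1 by decide +kernel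
  have key : ∀ w : alternatingGroup (Fin 6), (w : Perm (Fin 6)).cycleType = {3, 3} → IsConj ⟨d, hda⟩ w := by
    intro w hw
    obtain ⟨g, hg⟩ := isConj_iff.mp (Perm.isConj_iff_cycleType_eq.mpr (hd.trans hw.symm))
    rcases Int.units_eq_one_or (Perm.sign g) with h | h
    · exact isConj_iff.mpr ⟨⟨g, h⟩, Subtype.ext hg⟩
    · refine isConj_iff.mpr ⟨⟨g * τ, show Perm.sign (g * τ) = 1 by rw [map_mul, h, hτ.1]; rfl⟩, Subtype.ext ?_⟩
      show g * τ * d * (g * τ)⁻¹ = (w : Perm (Fin 6))
      rw [mul_assoc g τ d, hτ.2, ← hg]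
      group
  exact (key x hx).symm.trans (key y hy)

/-- An automorphism of `A₆` fixing an element of order three comes from `S₆`. -/
theorem of_fix_three (φ : MulAut ↥(alternatingGroup (Fin 6))) (x : alternatingGroup (Fin 6))
    (h3 : x ^ 3 = 1) (h1 : x ≠ 1) (hfix : φ x = x) :
    ∃ σ : Perm (Fin 6), (MulAut.conjNormal σ : MulAut ↥(alternatingGroup (Fin 6))) = φ := by
  refine Cfsg.Agent.Lib.PGroups.AutAlternating.of_threeCycle (by norm_num) φ fun y hy => ?_
  have hconj : ∀ a b : alternatingGroup (Fin 6), IsConj a b →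
      (a : Perm (Fin 6)).cycleType = (b : Perm (Fin 6)).cycleType := fun a b hab =>
    Perm.isConj_iff_cycleType_eq.mp ((alternatingGroup (Fin 6)).subtype.map_isConj hab)
  by_cases hx3 : (x : Perm (Fin 6)).IsThreeCycle
  · have := hconj _ _ ((MulEquiv.toMonoidHom φ).map_isConj
      (alternatingGroup.isThreeCycle_isConj (by simp) hy hx3))
    show (φ y : Perm (Fin 6)).cycleType = {3}
    rw [show (φ y : Perm (Fin 6)).cycleType = (φ x : Perm (Fin 6)).cycleType from this, hfix]
    exact hx3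
  · by_contra hn
    have hx' := model_double _ (by rw [← SubgroupClass.coe_pow, h3, OneMemClass.coe_one])
      (fun h => h1 (Subtype.ext h)) hx3
    have hyo : y ^ 3 = 1 := Subtype.ext (by
      rw [SubgroupClass.coe_pow, ← hy.orderOf, pow_orderOf_eq_one]; rfl)
    have hy' : (φ y : Perm (Fin 6)).cycleType = {3, 3} := model_double _
      (by rw [← SubgroupClass.coe_pow, ← map_pow, hyo, map_one, OneMemClass.coe_one])
      (fun h => hy.ne_one (congrArg (fun w : alternatingGroup (Fin 6) => (w : Perm (Fin 6)))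
        (φ.injective ((Subtype.ext h : φ y = 1).trans (map_one φ).symm)))) hn
    have := hconj _ _ ((MulEquiv.toMonoidHom φ.symm).map_isConj (double_isConj _ _ hy' hx'))
    simp only [MulEquiv.coe_toMonoidHom, MulEquiv.symm_apply_apply] at this
    rw [show φ.symm x = x from φ.injective (by rw [MulEquiv.apply_symm_apply, hfix]), hx', hy] at this
    exact absurd this (by decide)

/-- When `M` is alternating of degree six, `G` is symmetric. -/
theorem symSix_of_altSix (h : Nonempty (↥S.M ≃* ↥(alternatingGroup (Fin 6)))) :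
    Nonempty (G ≃* Perm (Fin 6)) := by
  obtain ⟨ι⟩ := h
  haveI := S.normal
  have h360 : Nat.card ↥S.M = 360 := by
    rw [Nat.card_congr ι.toEquiv]
    have := two_mul_nat_card_alternatingGroup (α := Fin 6)
    rw [Nat.card_perm, Nat.card_fin, show Nat.factorial 6 = 720 from rfl] at this
    omega
  let Θ : G →* MulAut ↥(alternatingGroup (Fin 6)) :=
    MonoidHom.mk' (fun g => ι.symm.trans ((MulAut.conjNormal g : MulAut ↥S.M).trans ι)) (fun a b => by
      ext y; simp [map_mul, MulAut.mul_apply])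
  have hΘapp : ∀ g y, Θ g y = ι ((MulAut.conjNormal g : MulAut ↥S.M) (ι.symm y)) := fun g y => rfl
  have hΘinj : Function.Injective Θ := by
    rw [← MonoidHom.ker_eq_bot_iff]
    have hker : ∀ k ∈ Θ.ker, ∀ m : ↥S.M, k * (m : G) = (m : G) * k := by
      intro k hk m
      have := DFunLike.congr_fun (MonoidHom.mem_ker.mp hk) (ι m)
      rw [hΘapp, MulEquiv.symm_apply_apply, MulAut.one_apply] at this
      exact mul_inv_eq_iff_eq_mul.mp ((MulAut.conjNormal_apply k m).symm.trans
        (congrArg (fun w : ↥S.M => (w : G)) (ι.injective this)))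
    haveI : Θ.ker.Normal := MonoidHom.normal_ker _
    exact S.normal_eq_bot (by omega) _ fun k hk =>
      mem_centralizer_singleton_iff.mpr (S.cz k (hker k hk _))
  set C6 := (MulAut.conjNormal : Perm (Fin 6) →* MulAut ↥(alternatingGroup (Fin 6))) with hC6
  have hrange : ∀ g, Θ g ∈ C6.range := by
    have hm : ∀ g ∈ S.M, Θ g ∈ C6.range := by
      intro g hg
      refine ⟨((ι ⟨g, hg⟩ : alternatingGroup (Fin 6)) : Perm (Fin 6)), MulEquiv.ext fun y => Subtype.ext ?_⟩
      rw [hΘapp, show (MulAut.conjNormal g : MulAut ↥S.M) (ι.symm y) = ⟨g, hg⟩ * ι.symm y * ⟨g, hg⟩⁻¹ from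
        Subtype.ext (by simp [MulAut.conjNormal_apply]), map_mul, map_mul, map_inv, MulEquiv.apply_symm_apply]
      simp [hC6, MulAut.conjNormal_apply]
    have hΘt : Θ t ∈ C6.range := by
      refine of_fix_three (Θ t) (ι (S.φ c3)) ?_ ?_ ?_
      · rw [← map_pow, ← map_pow, model_misc.2.2.1, map_one, map_one]
      · intro h1
        rw [← map_one ι, ι.injective.eq_iff, ← map_one S.φ] at h1
        exact model_misc.2.2.2.1 (S.inj h1)
      · rw [hΘapp, MulEquiv.symm_apply_apply]
        refine congrArg ι (Subtype.ext ?_)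
        rw [MulAut.conjNormal_apply, S.comm, mul_inv_cancel_right]
    intro g
    rcases S.decomp g with h | h
    · exact hm g h
    · rw [show g = t * (t * g) by rw [← mul_assoc, S.mul_self, one_mul], map_mul]
      exact mul_mem hΘt (hm _ h)
  have hCinj : Function.Injective C6 :=
    Cfsg.Agent.Lib.PGroups.AutAlternating.conjNormal_injective (by norm_num)
  let f : G →* Perm (Fin 6) := (MonoidHom.ofInjective hCinj).symm.toMonoidHom.comp (Θ.codRestrict C6.range hrange)
  have hf : Function.Injective f := fun a b h =>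
    hΘinj (congrArg (fun w : ↥C6.range => (w : MulAut ↥(alternatingGroup (Fin 6))))
      ((MonoidHom.ofInjective hCinj).symm.injective h))
  refine ⟨MulEquiv.ofBijective f ((Nat.bijective_iff_injective_and_card f).mpr ⟨hf, ?_⟩)⟩
  rw [← S.card_eq, h360, Nat.card_perm, Nat.card_fin]
  rfl

end Setup

end Cfsg.Agent.Lib.InvChar.TwoSymFour
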