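import Mathlib
import Cfsg.Prelude
import Cfsg.Agent.Lib.InvChar.ZStarChar

/-!
# Generalized characters of norm three vanishing on elements of odd order
-/

set_option autoImplicit false

namespace Cfsg.Agent.Lib.InvChar

open Cfsg Cfsg.Agent.Lib.Characters
open scoped ComplexConjugate

universe u

variable {G : Type u} [Group G] [Fintype G]

/-- A generalized character of norm three containing the principal character once. -/
lemma norm_three_decomp {F : G → ℂ} (hF : IsGeneralizedCharacter G F)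
    (h3 : classInner F F = 3) (h1 : classInner F (fun _ => 1) = 1) :
    ∃ (α β : IrrCharacter G) (c d : ℤ), α ≠ β ∧ α ≠ trivIrr G ∧ β ≠ trivIrr G ∧
      c * c = 1 ∧ d * d = 1 ∧ classInner F (α : G → ℂ) = c ∧ classInner F (β : G → ℂ) = d ∧
      ∀ g, F g = 1 + c * (α : G → ℂ) g + d * (β : G → ℂ) g := by
  classical
  haveI := Fintype.ofFinite (IrrCharacter G)
  obtain ⟨m, hm, hmi⟩ := IsGeneralizedCharacter.exists_int_decomp hF
  have hm1 : m (trivIrr G) = 1 := by
    have h := hmi (trivIrr G)
    rw [show ((trivIrr G : IrrCharacter G) : G → ℂ) = fun _ => 1 from rfl, h1] at h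
    exact_mod_cast h.symm
  have hsq : ∑ χ : IrrCharacter G, m χ * m χ = 3 := by
    have h := h3
    rw [hm, classInner_sum_sum] at h
    simp only [map_intCast] at h
    exact_mod_cast h
  set T := (Finset.univ.erase (trivIrr G)).filter (fun χ => m χ ≠ 0) with hT
  have hTsum : ∑ χ ∈ T, m χ * m χ = 2 := by
    rw [← Finset.add_sum_erase _ _ (Finset.mem_univ (trivIrr G)), hm1] at hsq
    rw [hT, Finset.sum_filter_of_ne]
    · linarith
    · intro χ _ h h0
      exact h (by rw [h0, mul_zero])
  have hge : ∀ χ ∈ T, 1 ≤ m χ * m χ := fun χ hχ => by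
    have := (Finset.mem_filter.1 hχ).2
    have := mul_self_pos.2 this
    omega
  have hcard : T.card = 2 := by
    have hle := Finset.card_nsmul_le_sum T (fun χ => m χ * m χ) 1 hge
    rw [hTsum, nsmul_eq_mul, mul_one] at hle
    have hle' : T.card ≤ 2 := by exact_mod_cast hle
    rcases Nat.lt_or_ge T.card 2 with h | h
    · exfalso
      rcases Nat.lt_or_ge T.card 1 with h0 | h0
      · rw [Finset.card_eq_zero.1 (by omega : T.card = 0)] at hTsum
        simp at hTsum
      · obtain ⟨χ, hχ⟩ := Finset.card_eq_one.1 (by omega : T.card = 1)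
        rw [hχ, Finset.sum_singleton] at hTsum
        have : -2 < m χ ∧ m χ < 2 := ⟨by nlinarith, by nlinarith⟩
        rcases this with ⟨ha, hb⟩
        interval_cases (m χ) <;> simp at hTsum
    · omega
  obtain ⟨α, β, hne, hTeq⟩ := Finset.card_eq_two.1 hcard
  have hα : α ∈ T := by rw [hTeq]; simp
  have hβ : β ∈ T := by rw [hTeq]; simp
  have hαβ : m α * m α + m β * m β = 2 := by
    rw [hTeq, Finset.sum_pair hne] at hTsum; exact hTsum
  have h1a := hge α hα
  have h1b := hge β hβ
  have hz : ∀ χ, χ ≠ trivIrr G → χ ≠ α → χ ≠ β → m χ = 0 := by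
    intro χ h1 h2 h3
    by_contra h
    have : χ ∈ T := Finset.mem_filter.2 ⟨Finset.mem_erase.2 ⟨h1, Finset.mem_univ _⟩, h⟩
    rw [hTeq] at this
    simp [h2, h3] at this
  have hαt := Finset.ne_of_mem_erase (Finset.mem_filter.1 hα).1
  have hβt := Finset.ne_of_mem_erase (Finset.mem_filter.1 hβ).1
  refine ⟨α, β, m α, m β, hne, hαt, hβt, by omega, by omega, hmi α, hmi β, fun g => ?_⟩
  conv_lhs => rw [hm]
  rw [Finset.sum_apply, ← Finset.add_sum_erase _ _ (Finset.mem_univ (trivIrr G)),
    Finset.sum_eq_add_of_mem α β (Finset.mem_erase.2 ⟨hαt, Finset.mem_univ _⟩)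
      (Finset.mem_erase.2 ⟨hβt, Finset.mem_univ _⟩) hne
      (fun χ hχ h => by rw [hz χ (Finset.ne_of_mem_erase hχ) h.1 h.2]; simp)]
  simp only [Pi.smul_apply, smul_eq_mul, hm1, trivIrr_apply, Int.cast_one, one_mul]
  ring

/-- A class function vanishing on elements of order prime to `p` has, in each block, coefficient
vector orthogonal to the degrees. -/
lemma finsum_block_classInner_mul_degree {p : ℕ} [Fact p.Prime] {M : Ideal AlgInt}
    (hM : IsPModular p M) {B : Set (IrrCharacter G)} (hB : IsPBlock M B) (F : G → ℂ)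
    (hF : ∀ g, ¬ p ∣ orderOf g → F g = 0) :
    ∑ᶠ χ ∈ B, classInner F ((χ : IrrCharacter G) : G → ℂ) * (χ : G → ℂ) 1 = 0 := by
  classical
  haveI := Fintype.ofFinite (IrrCharacter G)
  rw [Lib.Blocks.finsum_irr_eq_sum_ite]
  have key : ∀ g, (F g) * ∑ χ : IrrCharacter G,
      (if χ ∈ B then (χ : G → ℂ) 1 * conj ((χ : G → ℂ) g) else 0) = 0 := by
    intro g
    by_cases hg : p ∣ orderOf g
    · have h := Cfsg.Agent.S0907.result p M hM B hB 1 g (by simp [(Fact.out : p.Prime).ne_one]) hg
      rw [Lib.Blocks.finsum_irr_eq_sum_ite] at h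
      rw [h, mul_zero]
    · rw [hF g hg, zero_mul]
  calc ∑ χ : IrrCharacter G, (if χ ∈ B then classInner F (χ : G → ℂ) * (χ : G → ℂ) 1 else 0)
      = ∑ χ : IrrCharacter G, (Nat.card G : ℂ)⁻¹ * ∑ g, F g *
          (if χ ∈ B then (χ : G → ℂ) 1 * conj ((χ : G → ℂ) g) else 0) := by
        refine Finset.sum_congr rfl fun χ _ => ?_
        split_ifs
        · rw [classInner, mul_assoc, Finset.sum_mul]
          refine congrArg _ (Finset.sum_congr rfl fun g _ => ?_)
          ring
        · simp
    _ = (Nat.card G : ℂ)⁻¹ * ∑ g, F g * ∑ χ : IrrCharacter G,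
          (if χ ∈ B then (χ : G → ℂ) 1 * conj ((χ : G → ℂ) g) else 0) := by
        rw [← Finset.mul_sum, Finset.sum_comm]
        simp only [Finset.mul_sum]
    _ = 0 := by simp [key]

/-- The product equation for an isolated involution. -/
lemma product_equation {u : G} (hu : IsIsolatedInvolution u) {F : G → ℂ}
    (hF : ∀ g, Odd (orderOf g) → F g = 0) {α β : IrrCharacter G} {c d : ℂ}
    (hdec : ∀ g, F g = 1 + c * (α : G → ℂ) g + d * (β : G → ℂ) g) :
    1 + c * ((α : G → ℂ) u * (α : G → ℂ) u / (α : G → ℂ) 1) +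
      d * ((β : G → ℂ) u * (β : G → ℂ) u / (β : G → ℂ) 1) = 0 := by
  have hG : (Nat.card G : ℂ) ≠ 0 := natCard_ne_zero_complex
  have h0 : ∑ h : G, F (u * (h * u * h⁻¹)) = 0 :=
    Finset.sum_eq_zero fun h _ => hF _ (Lib.Involutions.odd_mul_conj hu h)
  simp only [hdec, Finset.sum_add_distrib, ← Finset.mul_sum, Finset.sum_const, Finset.card_univ,
    nsmul_eq_mul, mul_one, Lib.Blocks.sum_char_mul_conj α.2, Lib.Blocks.sum_char_mul_conj β.2,
    ← Nat.card_eq_fintype_card] at h0
  refine (mul_eq_zero.1 ?_).resolve_left hG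
  linear_combination h0

/-- The elementary algebra concluding the Brauer–Suzuki argument. -/
lemma eq_of_equations {A B a b : ℂ} (hA : A ≠ 0) (hB : B ≠ 0) (h1 : A + B = -1)
    (h2 : a * a / A + b * b / B = -1) (h3 : b = 1 + a ∨ b = -(1 + a)) : a = A := by
  have hb : b * b = (1 + a) * (1 + a) := by rcases h3 with h | h <;> rw [h] <;> ring
  rw [div_add_div _ _ hA hB, div_eq_iff (mul_ne_zero hA hB), hb] at h2
  have hB' : B = -1 - A := by linear_combination h1
  subst hB'
  have : (a - A) ^ 2 = 0 := by linear_combination -h2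
  exact sub_eq_zero.1 (pow_eq_zero_iff (by norm_num) |>.1 this)

end Cfsg.Agent.Lib.InvChar
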