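import Mathlib
import Cfsg.Prelude
import Cfsg.Agent.Lib.InvChar.BrauerSuzukiCore

/-!
# Brauer–Suzuki: quaternion Sylow subgroups of order at least sixteen
-/

set_option autoImplicit false

namespace Cfsg.Agent.Lib.InvChar

open Cfsg Cfsg.Agent.Lib.Characters Cfsg.Agent.Lib.Involutions
open scoped ComplexConjugate

universe u

variable {G : Type u} [Group G] [Fintype G]

/-- In a cyclic group `⟨y⟩` two elements of order four are equal or inverse. -/
lemma eq_or_inv_of_order_four {y z z' : G} (hz : z ∈ Subgroup.zpowers y)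
    (hz' : z' ∈ Subgroup.zpowers y) (ho : orderOf z = 4) (ho' : orderOf z' = 4) :
    z' = z ∨ z' = z⁻¹ := by
  have key : ∀ w ∈ Subgroup.zpowers y, orderOf w = 4 →
      Subgroup.zpowers w = Subgroup.zpowers (y ^ (orderOf y / 4)) := by
    intro w hw ho
    have h4y : 4 ∣ orderOf y := ho ▸ orderOf_dvd_of_mem_zpowers hw
    obtain ⟨i, hi⟩ := Subgroup.mem_zpowers_iff.1 hw
    have hdvd : ((orderOf y / 4 : ℕ) : ℤ) ∣ i := by
      have h : (y ^ i) ^ (4 : ℤ) = 1 := by
        rw [hi, show (4 : ℤ) = ((4 : ℕ) : ℤ) from rfl, zpow_natCast, ← ho, pow_orderOf_eq_one]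
      rw [← zpow_mul, ← orderOf_dvd_iff_zpow_eq_one] at h
      refine Int.dvd_of_mul_dvd_mul_right (a := 4) (by norm_num) ?_
      rwa [show ((orderOf y / 4 : ℕ) : ℤ) * 4 = orderOf y by
        exact_mod_cast Nat.div_mul_cancel h4y]
    obtain ⟨l, hl⟩ := hdvd
    have hsub : Subgroup.zpowers w ≤ Subgroup.zpowers (y ^ (orderOf y / 4)) :=
      Subgroup.zpowers_le.2 ⟨l, by
        show (y ^ (orderOf y / 4)) ^ l = w
        rw [← hi, hl, zpow_mul, zpow_natCast]⟩
    have hfin : Finite ↥(Subgroup.zpowers (y ^ (orderOf y / 4))) := inferInstance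
    refine Subgroup.eq_of_le_of_card_ge hsub ?_
    rw [Nat.card_zpowers, Nat.card_zpowers, ho]
    refine Nat.le_of_dvd (by norm_num) (orderOf_dvd_of_pow_eq_one ?_)
    rw [← pow_mul, Nat.div_mul_cancel h4y, pow_orderOf_eq_one]
  have heq : Subgroup.zpowers z = Subgroup.zpowers z' := (key z hz ho).trans (key z' hz' ho').symm
  have hmem : z' ∈ Subgroup.zpowers z := heq ▸ Subgroup.mem_zpowers z'
  classical
  obtain ⟨i, hi, rfl⟩ : ∃ i, i < 4 ∧ z ^ i = z' := by
    have := (mem_zpowers_iff_mem_range_orderOf).1 hmem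
    rw [ho] at this
    simpa using this
  have h4 : z ^ 4 = 1 := by rw [← ho]; exact pow_orderOf_eq_one z
  interval_cases i
  · simp at ho'
  · left; exact pow_one z
  · exfalso
    have h2 : (z ^ 2) ^ 2 = 1 := by rw [← pow_mul]; exact h4
    have := orderOf_dvd_of_pow_eq_one h2
    rw [ho'] at this
    norm_num at this
  · right
    exact eq_inv_of_mul_eq_one_left (by rw [← pow_succ]; exact h4)

/-- **Brauer–Suzuki**, order at least sixteen: some non-principal irreducible character has the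
central involution in its kernel. -/
lemma exists_char_big (S : Sylow 2 G) (k : ℕ) (a s u : G) (ha : a ∈ S) (hs : s ∈ S)
    (hord : orderOf a = 2 ^ (k + 3)) (hua : u = a ^ (2 ^ (k + 2)))
    (hu : IsIsolatedInvolution u) (hinv : s * a * s⁻¹ = a⁻¹)
    (hcen : ∀ x ∈ S, Commute x (a ^ (2 ^ (k + 1))) → x ∈ Subgroup.zpowers a)
    (hbig : ∀ x ∈ S, orderOf x = 2 ^ (k + 3) → x ∈ Subgroup.zpowers a) :
    ∃ χ : IrrCharacter G, χ ≠ trivIrr G ∧ (χ : G → ℂ) u = (χ : G → ℂ) 1 := by
  classical
  have : Fact (Nat.Prime 2) := ⟨Nat.prime_two⟩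
  set x4 := a ^ (2 ^ (k + 1)) with hx4
  have hx4o : orderOf x4 = 4 := by
    rw [hx4, orderOf_pow' _ (by positivity), hord,
      Nat.gcd_eq_right (pow_dvd_pow 2 (by omega)), Nat.pow_div (by omega) (by norm_num),
      show k + 3 - (k + 1) = 2 by omega]
  have hsx : s * x4 * s⁻¹ = x4⁻¹ := by rw [hx4, ← conj_pow, hinv, inv_pow]
  set C := Subgroup.centralizer ({x4} : Set G) with hC
  have haC : a ∈ C := Subgroup.mem_centralizer_singleton_iff.2
    ((Commute.refl a).pow_right _).eq
  have hA2 : IsPGroup 2 ↥(Subgroup.zpowers (⟨a, haC⟩ : C)) :=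
    IsPGroup.of_card (by rw [Nat.card_zpowers, ← Subgroup.orderOf_coe, hord])
  set a' : C := ⟨a, haC⟩ with ha'
  have hord' : orderOf a' = 2 ^ (k + 3) := by rw [← Subgroup.orderOf_coe]; exact hord
  -- `⟨a⟩` is a Sylow subgroup of `C`
  obtain ⟨P, hP⟩ := hA2.exists_le_sylow
  have hPA : (P : Subgroup C) = Subgroup.zpowers a' := by
    refine (Subgroup.eq_of_le_of_card_ge hP ?_).symm
    obtain ⟨R, hR⟩ := (P.2.map C.subtype).exists_le_sylow
    obtain ⟨g, hg⟩ := MulAction.exists_smul_eq G R S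
    have hgS : ∀ x : C, x ∈ (P : Subgroup C) → g * (x : G) * g⁻¹ ∈ S := by
      intro x hx
      rw [← hg]
      exact ⟨(x : G), hR ⟨x, hx, rfl⟩, rfl⟩
    have hga : g * a * g⁻¹ ∈ Subgroup.zpowers a :=
      hbig _ (hgS a' (hP (Subgroup.mem_zpowers a'))) (by rw [orderOf_conj_eq, hord])
    have hgx : g * x4 * g⁻¹ = x4 ∨ g * x4 * g⁻¹ = x4⁻¹ := by
      refine eq_or_inv_of_order_four (y := a) (Subgroup.pow_mem _ (Subgroup.mem_zpowers a) _) ?_ hx4o
        (by rw [orderOf_conj_eq, hx4o])
      rw [hx4, ← conj_pow]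
      exact Subgroup.pow_mem _ hga _
    have hsub : ((P : Subgroup C).map C.subtype).map (MulAut.conj g).toMonoidHom
        ≤ Subgroup.zpowers a := by
      rintro _ ⟨_, ⟨x, hx, rfl⟩, rfl⟩
      refine hcen _ (hgS x hx) ?_
      have hcx : Commute (g * (x : G) * g⁻¹) (g * x4 * g⁻¹) :=
        (show Commute (x : G) x4 from Subgroup.mem_centralizer_singleton_iff.1 x.2).map
          (MulAut.conj g).toMonoidHom
      rcases hgx with h | h <;> rw [h] at hcx
      · exact hcx
      · simpa using hcx.inv_right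
    have h := Subgroup.card_le_of_le hsub
    rw [Subgroup.card_map_of_injective (MulAut.conj g).injective,
      Subgroup.card_map_of_injective C.subtype_injective, Nat.card_zpowers, hord] at h
    rwa [Nat.card_zpowers, hord']
  have haP : a' ∈ (P : Subgroup C) := hPA ▸ Subgroup.mem_zpowers a'
  have hcyc : IsCyclic P := by
    have : IsCyclic ↥(Subgroup.zpowers a') := inferInstance
    rw [← hPA] at this
    exact this
  have hCcard : 2 ∣ Nat.card C := by
    refine dvd_trans ?_ (orderOf_dvd_natCard a')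
    rw [hord', pow_succ]
    exact dvd_mul_left 2 _
  have hNC : Subgroup.normalizer ((P : Subgroup C) : Set C) ≤
      Subgroup.centralizer ((P : Subgroup C) : Set C) :=
    hcyc.normalizer_le_centralizer ((Nat.minFac_eq_two_iff _).2 hCcard)
  -- the linear character of order four
  let μ : ℂˣ := Units.mk0 Complex.I Complex.I_ne_zero
  have hμ2 : μ ^ 2 = -1 := Units.ext (by simp [μ])
  have hμ4 : μ ^ 4 = 1 := by
    rw [show 4 = 2 * 2 from rfl, pow_mul, hμ2]; simp
  have hμo : orderOf μ = 2 ^ 2 := by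
    refine orderOf_eq_prime_pow (p := 2) (n := 1) ?_ (by norm_num [hμ4])
    rw [pow_one, hμ2]
    intro h
    have := congrArg Units.val h
    norm_num at this
  let a'' : ↥(P : Subgroup C) := ⟨a', haP⟩
  have hgen : ∀ x : ↥(P : Subgroup C), x ∈ Subgroup.zpowers a'' := by
    rintro ⟨x, hx⟩
    obtain ⟨i, hi⟩ := Subgroup.mem_zpowers_iff.1 (show x ∈ Subgroup.zpowers a' from hPA ▸ hx)
    exact ⟨i, Subtype.ext (by simpa [a''] using hi)⟩
  have hdvd : orderOf μ ∣ orderOf a'' := by
    have : orderOf a'' = 2 ^ (k + 3) := by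
      rw [← Subgroup.orderOf_coe]
      exact hord'
    rw [hμo, this]
    exact pow_dvd_pow 2 (by omega)
  let T := MonoidHom.transferSylow P hNC
  let lam : C →* ℂˣ := (monoidHomOfForallMemZpowers hgen hdvd).comp T
  set μ' := lam a' with hμ'
  have hidxodd : Odd (P : Subgroup C).index :=
    Nat.odd_iff.2 (Nat.two_dvd_ne_zero.1 P.not_dvd_index)
  have hμ'eq : μ' = μ ^ (P : Subgroup C).index := by
    show monoidHomOfForallMemZpowers hgen hdvd (T a') = _
    rw [show T a' = a'' ^ (P : Subgroup C).index from Subtype.ext (congrArg Subtype.val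
      (MonoidHom.transferSylow_eq_pow P hNC a' haP)), map_pow,
      monoidHomOfForallMemZpowers_apply_gen]
  have hμ'sq : μ' ^ 2 = -1 := by
    obtain ⟨i, hi⟩ := hidxodd
    rw [hμ'eq, hi, ← pow_mul, mul_comm, pow_mul, hμ2, Odd.neg_one_pow ⟨i, rfl⟩]
  have hlam4 : ∀ c : C, lam c ^ 4 = 1 := by
    intro c
    show (monoidHomOfForallMemZpowers hgen hdvd) (T c) ^ 4 = 1
    obtain ⟨i, hi⟩ := hgen (T c)
    have hi' : T c = a'' ^ i := hi.symm
    rw [hi', map_zpow, monoidHomOfForallMemZpowers_apply_gen, ← zpow_natCast, ← zpow_mul,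
      mul_comm, zpow_mul, zpow_natCast, hμ4, one_zpow]
  have hlamodd : ∀ c : C, Odd (orderOf c) → lam c = 1 := by
    intro c hc
    have h1 : lam c ^ orderOf c = 1 := by rw [← map_pow, pow_orderOf_eq_one, map_one]
    have h := pow_gcd_eq_one.2 ⟨h1, hlam4 c⟩
    rwa [show Nat.gcd (orderOf c) 4 = 1 from
      Nat.Coprime.pow_right 2 (Nat.coprime_two_right.2 hc), pow_one] at h
  -- `x4` is a power of every element outside the kernel
  have hx4mem : ∀ c : C, lam c ≠ 1 → x4 ∈ Subgroup.zpowers (c : G) := by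
    intro c hc
    obtain ⟨t, m, hm, htm⟩ := Nat.exists_eq_two_pow_mul_odd (orderOf_pos c).ne'
    set e := c ^ m with he
    have he2 : IsPGroup 2 ↥(Subgroup.zpowers e) := by
      have hd : orderOf e ∣ 2 ^ t := orderOf_dvd_of_pow_eq_one (by
        rw [he, ← pow_mul, mul_comm, ← htm, pow_orderOf_eq_one])
      obtain ⟨l, -, hl⟩ := (Nat.dvd_prime_pow Nat.prime_two).1 hd
      exact IsPGroup.of_card (by rw [Nat.card_zpowers, hl])
    have hle : lam e ≠ 1 := by
      intro h
      rw [he, map_pow] at h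
      apply hc
      have := pow_gcd_eq_one.2 ⟨h, hlam4 c⟩
      rwa [show Nat.gcd m 4 = 1 from Nat.Coprime.pow_right 2 (Nat.coprime_two_right.2 hm),
        pow_one] at this
    obtain ⟨R, hR⟩ := he2.exists_le_sylow
    obtain ⟨w, hw⟩ := MulAction.exists_smul_eq C R P
    have hwe : w * e * w⁻¹ ∈ (P : Subgroup C) := by
      rw [← hw]; exact ⟨e, hR (Subgroup.mem_zpowers e), rfl⟩
    obtain ⟨j, hj⟩ := Subgroup.mem_zpowers_iff.1
      (show w * e * w⁻¹ ∈ Subgroup.zpowers a' from hPA ▸ hwe)
    have hj4 : ¬ (4 : ℤ) ∣ j := by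
      rintro ⟨i, rfl⟩
      apply hle
      have h1 : lam (w * e * w⁻¹) = lam e := by
        rw [map_mul, map_mul, map_inv, mul_comm (lam w), mul_inv_cancel_right]
      rw [← h1, ← hj, map_zpow, zpow_mul, ← hμ', zpow_ofNat, hlam4 a', one_zpow]
    have hg : Int.gcd j (2 ^ (k + 3) : ℕ) ∣ 2 ^ (k + 1) := by
      obtain ⟨l, -, hl⟩ := (Nat.dvd_prime_pow Nat.prime_two).1
        (Int.natCast_dvd_natCast.1 (Int.gcd_dvd_right j ((2 ^ (k + 3) : ℕ) : ℤ)))
      rw [hl]
      refine pow_dvd_pow 2 ?_
      by_contra hlt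
      apply hj4
      have h1 : ((2 ^ l : ℕ) : ℤ) ∣ j := hl ▸ Int.gcd_dvd_left j _
      refine dvd_trans ?_ h1
      exact_mod_cast (pow_dvd_pow 2 (by omega : 2 ≤ l))
    obtain ⟨d, hd⟩ := hg
    have hx : x4 ∈ Subgroup.zpowers (a ^ j) := by
      refine ⟨Int.gcdA j (2 ^ (k + 3) : ℕ) * d, ?_⟩
      show (a ^ j) ^ _ = x4
      have hb := Int.gcd_eq_gcd_ab j (2 ^ (k + 3) : ℕ)
      rw [hx4, hd, ← zpow_natCast a, ← zpow_mul, Nat.cast_mul, hb, add_mul, zpow_add, ← hord]
      rw [mul_assoc ((orderOf a : ℕ) : ℤ), zpow_mul a (orderOf a : ℤ), zpow_natCast,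
        pow_orderOf_eq_one, one_zpow, mul_one, ← mul_assoc]
    obtain ⟨i, hi⟩ := hx
    refine ⟨(m : ℤ) * i, ?_⟩
    show (c : G) ^ _ = x4
    have e1 : ((w : G) * (e : G) * (w : G)⁻¹) = a ^ j := by
      have := congrArg Subtype.val hj
      simpa using this.symm
    have hwx : Commute (w : G) x4 := Subgroup.mem_centralizer_singleton_iff.1 w.2
    have e2 : (e : G) ^ i = x4 := by
      have hi' : (a ^ j) ^ i = x4 := hi
      rw [← e1, conj_zpow] at hi'
      calc (e : G) ^ i = (w : G)⁻¹ * ((w : G) * (e : G) ^ i * (w : G)⁻¹) * w := by group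
        _ = (w : G)⁻¹ * (x4 * w) := by rw [hi', mul_assoc]
        _ = x4 := by rw [← hwx.eq]; group
    rw [zpow_mul, zpow_natCast, ← e2, he]
    simp
  -- conjugation by `s` inverts the character
  have hsC : ∀ c : G, c ∈ C → s⁻¹ * c * s ∈ C := by
    intro c hc
    refine Subgroup.mem_centralizer_singleton_iff.2 ?_
    have hcx : Commute c x4⁻¹ :=
      (show Commute c x4 from Subgroup.mem_centralizer_singleton_iff.1 hc).inv_right
    rw [← hsx] at hcx
    have := hcx.map (MulAut.conj s⁻¹).toMonoidHom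
    simpa [mul_assoc] using this.eq
  have hlams : ∀ c : C, lam ⟨_, hsC c c.2⟩ = (lam c)⁻¹ := by
    let φ : C →* C :=
      { toFun := fun c => ⟨_, hsC c c.2⟩
        map_one' := Subtype.ext (by simp)
        map_mul' := fun x y => Subtype.ext (by simp [mul_assoc]) }
    have hcomp := MonoidHom.ker_transferSylow_isComplement' P hNC
    intro c
    obtain ⟨⟨⟨q, hq⟩, ⟨p, hp⟩⟩, hqp⟩ := hcomp.2 c
    simp only at hqp
    subst hqp
    have hqodd : Odd (orderOf q) := by
      refine Odd.of_dvd_nat ?_ ((orderOf_dvd_iff_pow_eq_one.2 (by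
        exact congrArg Subtype.val (pow_card_eq_one' (x := (⟨q, hq⟩ : T.ker))))))
      exact Nat.odd_iff.2 (Nat.two_dvd_ne_zero.1
        (MonoidHom.not_dvd_card_ker_transferSylow P hNC))
    show lam (φ (q * p)) = _
    rw [map_mul, map_mul, map_mul, hlamodd q hqodd,
      hlamodd (φ q) (Odd.of_dvd_nat hqodd (orderOf_map_dvd φ q)), one_mul, one_mul]
    obtain ⟨i, rfl⟩ := Subgroup.mem_zpowers_iff.1
      (show p ∈ Subgroup.zpowers a' from hPA ▸ hp)
    have hφa : φ a' = a'⁻¹ := by
      apply Subtype.ext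
      show s⁻¹ * a * s = a⁻¹
      calc s⁻¹ * a * s = s⁻¹ * (a⁻¹)⁻¹ * s := by rw [inv_inv]
        _ = s⁻¹ * (s * a * s⁻¹)⁻¹ * s := by rw [hinv]
        _ = a⁻¹ := by group
    rw [map_zpow, hφa, inv_zpow, map_inv]
  -- the generalized character
  let lamC : C →* ℂ := (Units.coeHom ℂ).comp lam
  let θ : C → ℂ := (fun _ => 1) - (lamC : C → ℂ)
  have hlamC : IsIrrCharacter C (lamC : C → ℂ) := isIrrCharacter_monoidHom lamC
  have hθg : IsGeneralizedCharacter C θ :=
    ⟨_, _, IsIrrCharacter.isCharacter isIrrCharacter_one, IsIrrCharacter.isCharacter hlamC, rfl⟩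
  set F := indFun C θ with hF
  have hFg : IsGeneralizedCharacter G F := IsGeneralizedCharacter.indFun C hθg
  have hθ0 : ∀ c : C, lam c = 1 → θ c = 0 := fun c h => by simp [θ, lamC, h]
  have hzero : ∀ g : G, (Odd (orderOf g) ∨ g = u) → F g = 0 := by
    intro g hg
    rw [hF, indFun_apply]
    convert mul_zero _
    refine Finset.sum_eq_zero fun x _ => ?_
    by_cases hm : x⁻¹ * g * x ∈ C
    · rw [extendByZero_of_mem _ _ hm]
      apply hθ0
      by_contra hne
      have h4 := orderOf_dvd_of_mem_zpowers (hx4mem ⟨_, hm⟩ hne)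
      have e : orderOf (x⁻¹ * g * x) = orderOf g := by
        simpa using orderOf_conj_eq x⁻¹ g
      rw [hx4o] at h4
      simp only [e] at h4
      rcases hg with h | rfl
      · exact absurd (dvd_trans (by norm_num) h4) (Nat.two_dvd_ne_zero.2 (Nat.odd_iff.1 h))
      · rw [hu.1] at h4
        norm_num at h4
    · rw [extendByZero_of_not_mem _ _ hm]
  have hval : ∀ c : C, lam c ≠ 1 → F (c : G) = θ c + θ ⟨_, hsC c c.2⟩ := by
    intro c hc
    have hsplit : ∀ x : G, extendByZero C θ (x⁻¹ * (c : G) * x) =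
        (if x ∈ C then θ c else 0) + (if s⁻¹ * x ∈ C then θ ⟨_, hsC c c.2⟩ else 0) := by
      intro x
      have hclθ : IsClassFunction C θ := IsGeneralizedCharacter.isClassFunction hθg
      have hsnC : s ∉ C := by
        intro h
        have : s * x4 * s⁻¹ = x4 := by
          rw [(show Commute s x4 from Subgroup.mem_centralizer_singleton_iff.1 h).eq,
            mul_inv_cancel_right]
        rw [hsx] at this
        have h2 : x4 ^ 2 = 1 := by rw [pow_two]; nth_rw 1 [← this]; exact inv_mul_cancel x4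
        have := orderOf_dvd_of_pow_eq_one h2
        rw [hx4o] at this
        norm_num at this
      by_cases hx : x ∈ C
      · rw [if_pos hx, if_neg (fun h => hsnC (by
          have := C.mul_mem hx (C.inv_mem h); simpa [mul_assoc] using this)), add_zero]
        rw [extendByZero_of_mem _ _ (C.mul_mem (C.mul_mem (C.inv_mem hx) c.2) hx)]
        have := hclθ c ⟨x, hx⟩⁻¹
        convert this using 2
        exact Subtype.ext (by simp)
      · rw [if_neg hx, zero_add]
        by_cases hsx' : s⁻¹ * x ∈ C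
        · rw [if_pos hsx']
          have e : x⁻¹ * (c : G) * x = (s⁻¹ * x)⁻¹ * (s⁻¹ * (c : G) * s) * (s⁻¹ * x) := by group
          have hm : x⁻¹ * (c : G) * x ∈ C :=
            e ▸ C.mul_mem (C.mul_mem (C.inv_mem hsx') (hsC c c.2)) hsx'
          rw [extendByZero_of_mem _ _ hm]
          have := hclθ ⟨_, hsC c c.2⟩ ⟨_, hsx'⟩⁻¹
          convert this using 2
          exact Subtype.ext (by simp [mul_assoc])
        · rw [if_neg hsx']
          by_cases hm : x⁻¹ * (c : G) * x ∈ C
          · rw [extendByZero_of_mem _ _ hm]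
            apply hθ0
            by_contra hne
            have h1 := hx4mem ⟨_, hm⟩ hne
            obtain ⟨i, hi⟩ := Subgroup.mem_zpowers_iff.1 (hx4mem c hc)
            have h2 : x⁻¹ * x4 * x ∈ Subgroup.zpowers (x⁻¹ * (c : G) * x) := by
              refine ⟨i, ?_⟩
              show (x⁻¹ * (c : G) * x) ^ i = _
              rw [← hi]
              have := conj_zpow (a := x⁻¹) (b := (c : G)) (i := i)
              simpa using this
            have ho : orderOf (x⁻¹ * x4 * x) = 4 := by
              rw [← hx4o]; simpa using orderOf_conj_eq x⁻¹ x4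
            rcases eq_or_inv_of_order_four h1 h2 hx4o ho with h | h
            · apply hx
              refine Subgroup.mem_centralizer_singleton_iff.2 ?_
              calc x * x4 = x * (x⁻¹ * x4 * x) := by rw [h]
                _ = x4 * x := by group
            · apply hsx'
              refine Subgroup.mem_centralizer_singleton_iff.2 ?_
              calc s⁻¹ * x * x4 = s⁻¹ * x * (x⁻¹ * x4 * x)⁻¹ := by rw [h, inv_inv]
                _ = s⁻¹ * x4⁻¹ * x := by group
                _ = s⁻¹ * (s * x4 * s⁻¹) * x := by rw [hsx]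
                _ = x4 * (s⁻¹ * x) := by group
          · rw [extendByZero_of_not_mem _ _ hm]
    have hC0 : (Nat.card C : ℂ) ≠ 0 := by exact_mod_cast Nat.card_pos.ne'
    rw [hF, indFun_apply, Finset.sum_congr rfl fun x _ => hsplit x, Finset.sum_add_distrib,
      ← Finset.sum_filter, ← Finset.sum_filter, Finset.sum_const, Finset.sum_const,
      nsmul_eq_mul, nsmul_eq_mul]
    have c1 : (Finset.univ.filter (fun x : G => x ∈ C)).card = Nat.card C := by
      rw [← Fintype.card_subtype, Nat.card_eq_fintype_card]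
    have c2 : (Finset.univ.filter (fun x : G => s⁻¹ * x ∈ C)).card = Nat.card C := by
      rw [← Fintype.card_subtype, ← Nat.card_eq_fintype_card]
      exact Nat.card_congr ((Equiv.mulLeft s⁻¹).subtypeEquiv (fun x => Iff.rfl))
    rw [c1, c2]
    field_simp
  -- norm and multiplicity of the principal character
  have hlam1 : (lamC : C → ℂ) ≠ fun _ => 1 := by
    intro h
    have h2 := congrFun h a'
    have h1 : μ' = 1 := Units.ext h2
    rw [h1, one_pow] at hμ'sq
    have := congrArg Units.val hμ'sq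
    norm_num at this
  let lamC' : C →* ℂ := (Units.coeHom ℂ).comp lam⁻¹
  have hlamC' : IsIrrCharacter C (lamC' : C → ℂ) := isIrrCharacter_monoidHom lamC'
  have hlam1' : (lamC' : C → ℂ) ≠ fun _ => 1 := by
    intro h
    apply hlam1
    funext c
    have h2 : ((lam c)⁻¹ : ℂˣ) = 1 := Units.ext (congrFun h c)
    have : lam c = 1 := inv_eq_one.1 h2
    simp [lamC, this]
  have hne : (lamC : C → ℂ) ≠ (lamC' : C → ℂ) := by
    intro h
    have h1 : μ' = μ'⁻¹ := Units.ext (congrFun h a')
    rw [eq_inv_iff_mul_eq_one, ← pow_two, hμ'sq] at h1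
    have := congrArg Units.val h1
    norm_num at this
  have h3 : classInner F F = 3 := by
    rw [hF, classInner_indFun C θ (isClassFunction_indFun C θ)]
    have e : classInner θ (fun c : C => indFun C θ (c : G))
        = classInner θ ((θ + (fun _ => 1)) - (lamC' : C → ℂ)) := by
      unfold classInner
      congr 1
      refine Finset.sum_congr rfl fun c _ => ?_
      by_cases hc : lam c = 1
      · simp [hθ0 c hc]
      · congr 2
        show F (c : G) = _
        rw [hval c hc]
        simp only [θ, lamC, lamC', Pi.sub_apply, Pi.add_apply, MonoidHom.comp_apply,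
          MonoidHom.inv_apply, hlams c]
        ring
    rw [e]
    simp only [θ, classInner_sub_left, classInner_sub_right, classInner_add_right,
      IsIrrCharacter.classInner_self isIrrCharacter_one, IsIrrCharacter.classInner_self hlamC,
      IsIrrCharacter.classInner_ne hlamC isIrrCharacter_one hlam1,
      IsIrrCharacter.classInner_ne isIrrCharacter_one hlamC hlam1.symm,
      IsIrrCharacter.classInner_ne isIrrCharacter_one hlamC' hlam1'.symm,
      IsIrrCharacter.classInner_ne hlamC hlamC' hne]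
    norm_num
  have h1 : classInner F (fun _ => 1) = 1 := by
    rw [hF, classInner_indFun C θ (fun _ _ => rfl)]
    show classInner θ (fun _ => 1) = 1
    simp only [θ, classInner_sub_left, IsIrrCharacter.classInner_self isIrrCharacter_one,
      IsIrrCharacter.classInner_ne hlamC isIrrCharacter_one hlam1, sub_zero]
  obtain ⟨α, β, c, d, -, hαt, -, hc, hd, -, -, hdec⟩ := norm_three_decomp hFg h3 h1
  have hc' : (c : ℂ) * c = 1 := by exact_mod_cast hc
  have hd' : (d : ℂ) * d = 1 := by exact_mod_cast hd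
  have hA0 := IsIrrCharacter.apply_one_ne_zero α.2
  have hB0 := IsIrrCharacter.apply_one_ne_zero β.2
  have e1 := hdec 1
  rw [hzero 1 (Or.inl (by simp))] at e1
  have e2 := hdec u
  rw [hzero u (Or.inr rfl)] at e2
  have e3 := product_equation hu (fun g h => hzero g (Or.inl h)) hdec
  have hcne : (c : ℂ) ≠ 0 := left_ne_zero_of_mul_eq_one hc'
  have hdne : (d : ℂ) ≠ 0 := left_ne_zero_of_mul_eq_one hd'
  refine ⟨α, hαt, mul_left_cancel₀ hcne (eq_of_equations (b := (d : ℂ) * (β : G → ℂ) u)
    (B := (d : ℂ) * (β : G → ℂ) 1) (mul_ne_zero hcne hA0) (mul_ne_zero hdne hB0)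
    (by linear_combination -e1) ?_ (Or.inr (by linear_combination -e2)))⟩
  have q1 : (c : ℂ) * (α : G → ℂ) u * ((c : ℂ) * (α : G → ℂ) u) / ((c : ℂ) * (α : G → ℂ) 1)
      = (c : ℂ) * ((α : G → ℂ) u * (α : G → ℂ) u / (α : G → ℂ) 1) := by
    field_simp
  have q2 : (d : ℂ) * (β : G → ℂ) u * ((d : ℂ) * (β : G → ℂ) u) / ((d : ℂ) * (β : G → ℂ) 1)
      = (d : ℂ) * ((β : G → ℂ) u * (β : G → ℂ) u / (β : G → ℂ) 1) := by
    field_simp
  rw [q1, q2]
  linear_combination e3

end Cfsg.Agent.Lib.InvChar
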