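import Mathlib
import Cfsg.Prelude
import Cfsg.Agent.Lib.InvChar.BrauerSuzukiCore
import Cfsg.Agent.Lib.Characters.BrauerMain

/-!
# A generalized character used for quaternion Sylow subgroups of order eight
-/

set_option autoImplicit false

namespace Cfsg.Agent.Lib.InvChar

open Cfsg Cfsg.Agent.Lib.Characters
open scoped ComplexConjugate commutatorElement

universe u

/-- An elementary group is the product of a `2`-subgroup and a commuting subgroup of odd order. -/
lemma elementary_two_decomp {E : Type u} [Group E] [Finite E] {p : ℕ} (hp : p.Prime)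
    (h : IsElementary p E) :
    ∃ P O : Subgroup E, IsPGroup 2 ↥P ∧ Odd (Nat.card O) ∧
      (∀ a ∈ P, ∀ b ∈ O, a * b = b * a) ∧ Subgroup.IsComplement' O P := by
  have : Fact (Nat.Prime 2) := ⟨Nat.prime_two⟩
  obtain ⟨x, hx, hcop, k, hk⟩ := h
  have hcard : orderOf x * p ^ k = Nat.card E := by
    rw [← hk, ← Nat.card_zpowers, Subgroup.card_mul_index]
  by_cases hp2 : p = 2
  · subst hp2
    obtain ⟨S⟩ : Nonempty (Sylow 2 E) := inferInstance
    have hodd : Odd (Nat.card ↥(Subgroup.zpowers x)) := by
      rw [Nat.card_zpowers]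
      exact Nat.coprime_two_right.1 hcop
    refine ⟨S, Subgroup.zpowers x, S.2, hodd, ?_, ?_⟩
    · intro a _ b hb
      exact Subgroup.mem_center_iff.1 (Subgroup.zpowers_le.2 hx hb) a
    · have hS : Nat.card ↥(S : Subgroup E) = 2 ^ k := by
        have h1 := Sylow.card_eq_multiplicity S
        rw [← hcard, Nat.factorization_mul (orderOf_pos x).ne' (by positivity), Finsupp.add_apply,
          Nat.factorization_eq_zero_of_not_dvd (Nat.two_dvd_ne_zero.2 (Nat.odd_iff.1
            (Nat.coprime_two_right.1 hcop))), zero_add, Nat.Prime.factorization_pow Nat.prime_two,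
          Finsupp.single_eq_same] at h1
        exact h1
      refine Subgroup.isComplement'_of_coprime ?_ ?_
      · rw [Nat.card_zpowers, hS, hcard]
      · rw [Nat.card_zpowers, hS]
        exact hcop.pow_right k
  · have hpodd : Odd p := hp.odd_of_ne_two hp2
    obtain ⟨t, m, hm, htm⟩ := Nat.exists_eq_two_pow_mul_odd (orderOf_pos x).ne'
    have hxm : x ^ m ∈ Subgroup.center E := Subgroup.pow_mem _ hx _
    have hord : orderOf (x ^ m) = 2 ^ t := by
      rw [orderOf_pow' _ hm.pos.ne', htm, Nat.gcd_eq_right (dvd_mul_left m _),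
        Nat.mul_div_cancel _ hm.pos]
    have hP : IsPGroup 2 ↥(Subgroup.zpowers (x ^ m)) :=
      IsPGroup.of_card (by rw [Nat.card_zpowers, hord])
    have hidx : ¬ 2 ∣ (Subgroup.zpowers (x ^ m)).index := by
      intro hd
      have hmul := (Subgroup.zpowers (x ^ m)).card_mul_index
      rw [Nat.card_zpowers, hord, ← hcard, htm, mul_assoc] at hmul
      rw [Nat.eq_of_mul_eq_mul_left (by positivity) hmul] at hd
      exact Nat.two_dvd_ne_zero.2 (Nat.odd_iff.1 (hm.mul hpodd.pow)) hd
    let S : Sylow 2 E := hP.toSylow hidx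
    have hSeq : (S : Subgroup E) = Subgroup.zpowers (x ^ m) := rfl
    have hScen : (S : Subgroup E) ≤ Subgroup.center E := hSeq ▸ Subgroup.zpowers_le.2 hxm
    have hNC : Subgroup.normalizer ((S : Subgroup E) : Set E) ≤
        Subgroup.centralizer ((S : Subgroup E) : Set E) := fun n _ =>
      Subgroup.mem_centralizer_iff.2 fun a ha => (Subgroup.mem_center_iff.1 (hScen ha) n).symm
    refine ⟨S, (MonoidHom.transferSylow S hNC).ker, S.2, ?_, ?_,
      MonoidHom.ker_transferSylow_isComplement' S hNC⟩
    · exact Nat.odd_iff.2 (Nat.two_dvd_ne_zero.1 (MonoidHom.not_dvd_card_ker_transferSylow S hNC))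
    · intro a ha b _
      exact (Subgroup.mem_center_iff.1 (hScen ha) b).symm

/-- The character value of the central involution determines the multiplicity of `-1`. -/
lemma half_sub_integral {K : Type u} [Group K] [Finite K] {u : K} (hu : orderOf u = 2)
    (η : IrrCharacter K) : ∃ n : ℤ, (η : K → ℂ) 1 - (η : K → ℂ) u = 2 * n := by
  classical
  haveI := Fintype.ofFinite K
  set U := Subgroup.zpowers u
  haveI := Fintype.ofFinite U
  obtain ⟨k, hk⟩ := IsCharacter.exists_classInner_nat
    (IsCharacter.restrict (irr_isCharacter η) U) (irr_isCharacter (trivIrr ↥U))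
  obtain ⟨d, hd⟩ := IsCharacter.exists_apply_one (irr_isCharacter η)
  have hcard : Nat.card U = 2 := by rw [Nat.card_zpowers, hu]
  obtain ⟨w, hw, huniq⟩ := Nat.card_eq_two_iff' (1 : U) |>.1 hcard
  have hw' : w = ⟨u, Subgroup.mem_zpowers u⟩ := (huniq _ (by
    intro h
    have := congrArg Subtype.val h
    simp only [OneMemClass.coe_one] at this
    rw [this, orderOf_one] at hu
    norm_num at hu)).symm
  have huniv : (Finset.univ : Finset U) = {1, w} := by
    ext x
    simp only [Finset.mem_univ, Finset.mem_insert, Finset.mem_singleton, true_iff]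
    by_cases hx : x = 1
    · exact Or.inl hx
    · exact Or.inr (huniq x hx)
  rw [classInner, hcard, huniv, Finset.sum_pair hw.symm, hw'] at hk
  simp only [trivIrr_apply, map_one, mul_one, OneMemClass.coe_one] at hk
  refine ⟨(d : ℤ) - k, ?_⟩
  push_cast
  linear_combination (-2 : ℂ) * hk + 2 * hd

/-- The function `±L` on the elements with odd image modulo a central involution `u`. -/
noncomputable def signFun {K : Type u} [Group K] (u : K) (L : K → ℂ) : K → ℂ := fun c =>
  if Odd (orderOf c) then L c else if Odd (orderOf (u * c)) then - L c else 0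

variable {K : Type u} [Group K] [Finite K] {u : K}

lemma signFun_isClassFunction (hc : ∀ g, g * u = u * g) {L : K → ℂ} (hL : IsClassFunction K L) :
    IsClassFunction K (signFun u L) := by
  intro g h
  have e : u * (h * g * h⁻¹) = h * (u * g) * h⁻¹ := by
    rw [← mul_assoc, ← mul_assoc, ← hc h, ← mul_assoc]
  unfold signFun
  rw [hL g h, e, Lib.Involutions.orderOf_conj_eq, Lib.Involutions.orderOf_conj_eq]

/-- **The generalized character** used in the Brauer–Suzuki argument for `Q₈`. -/
lemma isGeneralizedCharacter_signFun (hu : orderOf u = 2) (hc : ∀ g, g * u = u * g)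
    (huniq : ∀ t : K, orderOf t = 2 → t = u)
    (hfac : ∀ P : Subgroup K, IsPGroup 2 ↥P → Nat.card P ∣ 8)
    (h8 : ∀ P : Subgroup K, Nat.card P = 8 → ∃ x ∈ P, ∃ y ∈ P, x⁻¹ * y⁻¹ * x * y = u)
    {L : K → ℂ} (hL : IsGeneralizedCharacter K L) (hLu : ∀ c, L (u * c) = L c)
    (hL2 : ∀ c, ¬ Odd (orderOf c) → ¬ Odd (orderOf (u * c)) → L c = 2) :
    IsGeneralizedCharacter K (signFun u L) := by
  classical
  have : Fact (Nat.Prime 2) := ⟨Nat.prime_two⟩
  refine isGeneralizedCharacter_of_elementary
    (signFun_isClassFunction hc (IsGeneralizedCharacter.isClassFunction hL)) fun E p hp hE => ?_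
  haveI := Fintype.ofFinite E
  have hLE : IsGeneralizedCharacter E (fun e : E => L e) := IsGeneralizedCharacter.comp hL E.subtype
  by_cases huE : u ∈ E
  swap
  · -- then `E` has odd order
    have hodd : ∀ e : E, Odd (orderOf e) := by
      intro e
      by_contra h
      obtain ⟨w, hw⟩ := exists_prime_orderOf_dvd_card' (G := E) 2
        ((even_iff_two_dvd.1 (Nat.not_odd_iff_even.1 h)).trans (orderOf_dvd_natCard e))
      exact huE (huniq w (by rw [Subgroup.orderOf_coe, hw]) ▸ w.2)
    convert hLE using 1
    funext e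
    exact if_pos (by rw [Subgroup.orderOf_coe]; exact hodd e)
  obtain ⟨P, O, hP, hO, hPO, hcompl⟩ := elementary_two_decomp hp hE
  -- the projections
  let φ : O × P →* E :=
    { toFun := fun x => (x.1 : E) * (x.2 : E)
      map_one' := by simp
      map_mul' := fun x y => by
        simp only [Prod.fst_mul, Prod.snd_mul, Subgroup.coe_mul]
        calc (x.1 : E) * y.1 * ((x.2 : E) * y.2) = (x.1 : E) * ((y.1 : E) * x.2) * y.2 := by group
          _ = _ := by rw [← hPO _ x.2.2 _ y.1.2]; group }
  let ψ : O × P ≃* E := MulEquiv.ofBijective φ hcompl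
  let πO : E →* O := (MonoidHom.fst O P).comp ψ.symm.toMonoidHom
  let πP : E →* P := (MonoidHom.snd O P).comp ψ.symm.toMonoidHom
  have hsplit : ∀ e : E, ((πO e : E) * (πP e : E)) = e := fun e => ψ.apply_symm_apply e
  have hproj : ∀ (o : O) (q : P), πO ((o : E) * q) = o ∧ πP ((o : E) * q) = q := by
    intro o q
    have : ψ.symm ((o : E) * q) = (o, q) := ψ.symm_apply_apply (o, q)
    exact ⟨congrArg Prod.fst this, congrArg Prod.snd this⟩
  have hOodd : ∀ o : O, Odd (orderOf ((o : E) : K)) := fun o => by
    rw [Subgroup.orderOf_coe, Subgroup.orderOf_coe]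
    exact hO.of_dvd_nat (orderOf_dvd_natCard o)
  set u' : E := ⟨u, huE⟩
  have hu'2 : orderOf u' = 2 := by rw [← Subgroup.orderOf_coe]; exact hu
  have hu'P : u' ∈ P := by
    have h1 : πO u' = 1 := by
      rw [← orderOf_eq_one_iff]
      refine Nat.eq_one_of_dvd_coprimes ?_ (orderOf_map_dvd πO u') (orderOf_dvd_natCard _)
      rw [hu'2]
      exact Nat.coprime_two_left.2 hO
    have := hsplit u'
    rw [h1, OneMemClass.coe_one, one_mul] at this
    rw [← this]
    exact (πP u').2
  set uP : P := ⟨u', hu'P⟩
  have huP2 : orderOf uP = 2 := by rw [← Subgroup.orderOf_coe]; exact hu'2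
  have huPne : uP ≠ 1 := fun h => by rw [h, orderOf_one] at huP2; norm_num at huP2
  obtain ⟨t, ht⟩ := IsPGroup.iff_card.1 hP
  set P' : Subgroup K := P.map E.subtype
  have hP'card : Nat.card P' = Nat.card P := Subgroup.card_map_of_injective E.subtype_injective
  have hdvd8 : Nat.card P ∣ 8 := hP'card ▸ hfac P' (hP.map _)
  have h2le : 2 ∣ Nat.card P := huP2 ▸ orderOf_dvd_natCard uP
  -- values of `signFun`
  have hodd_iff : ∀ e : E, Odd (orderOf ((e : E) : K)) ↔ πP e = 1 := by
    intro e
    constructor
    · intro h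
      rw [← orderOf_eq_one_iff]
      refine Nat.eq_one_of_dvd_coprimes ?_ (orderOf_map_dvd πP e) (orderOf_dvd_natCard _)
      rw [ht, ← Subgroup.orderOf_coe]
      exact (Nat.coprime_two_right.2 h).pow_right t
    · intro h
      have := hsplit e
      rw [h, OneMemClass.coe_one, mul_one] at this
      rw [← this]
      exact hOodd _
  have hπu : ∀ e : E, πP (u' * e) = uP * πP e := by
    intro e
    rw [map_mul]
    congr 1
    have := (hproj 1 uP).2
    simpa using this
  have huodd_iff : ∀ e : E, Odd (orderOf (u * (e : K))) ↔ πP e = uP := by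
    intro e
    rw [show u * (e : K) = ((u' * e : E) : K) from rfl, hodd_iff, hπu]
    constructor
    · intro h
      have h2 : uP * uP = 1 := by rw [← pow_two, ← huP2, pow_orderOf_eq_one]
      calc πP e = uP * uP * πP e := by rw [h2, one_mul]
        _ = uP := by rw [mul_assoc, h, mul_one]
    · intro h
      rw [h, ← pow_two, ← huP2, pow_orderOf_eq_one]
  have hLval : ∀ e : E, πP e = 1 ∨ πP e = uP → L (e : K) = L ((πO e : E) : K) := by
    intro e he
    have hs := hsplit e
    rcases he with h | h <;> rw [h] at hs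
    · rw [OneMemClass.coe_one, mul_one] at hs; rw [hs]
    · conv_lhs => rw [← hs]
      show L (((πO e : E) : K) * u) = _
      rw [hc, hLu]
  -- the quotient `θ` on `O`
  set m : ℂ := (Nat.card P : ℂ) / 2 with hm
  have hm0 : m ≠ 0 := div_ne_zero (by exact_mod_cast Nat.card_pos.ne') two_ne_zero
  haveI := Fintype.ofFinite O
  let θ : O → ℂ := fun o => (L ((o : E) : K) - 2) / m
  have hθ : IsGeneralizedCharacter O θ := by
    rw [isGeneralizedCharacter_iff_classInner_int]
    refine ⟨fun o q => ?_, fun μ => ?_⟩
    · have hcl := IsGeneralizedCharacter.isClassFunction hL ((o : E) : K) ((q : E) : K)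
      simp only [θ, Subgroup.coe_mul, Subgroup.coe_inv, hcl]
    · have hT : IsGeneralizedCharacter E ((fun e : E => L e) - ((2 : ℤ) : ℂ) • fun _ => (1 : ℂ)) :=
        IsGeneralizedCharacter.sub hLE (IsGeneralizedCharacter.intCast_smul
          (IsCharacter.isGeneralizedCharacter (irr_isCharacter (trivIrr E))) 2)
      obtain ⟨k, hk⟩ := IsGeneralizedCharacter.exists_classInner_int hT
        (IsCharacter.isGeneralizedCharacter (IsCharacter.comp (irr_isCharacter μ) πO))
      refine ⟨k, ?_⟩
      rw [← hk, classInner, classInner, ← ψ.toEquiv.sum_comp, Fintype.sum_prod_type]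
      have hterm : ∀ (o : O) (q : P),
          (L ((ψ (o, q) : E) : K) - 2) * conj ((μ : O → ℂ) (πO (ψ (o, q)))) =
          if q = 1 ∨ q = uP then (L ((o : E) : K) - 2) * conj ((μ : O → ℂ) o) else 0 := by
        intro o q
        have e1 : πO (ψ (o, q)) = o := (hproj o q).1
        have e2 : πP (ψ (o, q)) = q := (hproj o q).2
        rw [e1]
        split_ifs with hq
        · rw [hLval (ψ (o, q)) (by rw [e2]; exact hq), e1]
        · rw [hL2 _ (fun h => hq (Or.inl (e2.symm.trans ((hodd_iff _).1 h))))
            (fun h => hq (Or.inr (e2.symm.trans ((huodd_iff _).1 h))))]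
          simp
      simp only [Pi.sub_apply, Pi.smul_apply, smul_eq_mul, mul_one, Function.comp_apply,
        Int.cast_ofNat, MulEquiv.toEquiv_eq_coe, MulEquiv.coe_toEquiv, hterm]
      have hsum : ∀ o : O, (∑ q : P, if q = 1 ∨ q = uP then (L ((o : E) : K) - 2) *
          conj ((μ : O → ℂ) o) else 0) = 2 * ((L ((o : E) : K) - 2) * conj ((μ : O → ℂ) o)) := by
        intro o
        rw [← Finset.sum_filter]
        rw [show (Finset.univ.filter fun q : P => q = 1 ∨ q = uP) = {1, uP} from by ext q; simp,
          Finset.sum_pair huPne.symm]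
        ring
      simp only [hsum, ← Finset.mul_sum]
      have hcard : (Nat.card E : ℂ) = Nat.card O * Nat.card P := by
        rw [← Nat.cast_mul, ← Nat.card_prod]
        exact_mod_cast (Nat.card_congr ψ.toEquiv).symm
      simp only [θ, div_eq_mul_inv, hm, hcard, mul_inv_rev, inv_inv]
      rw [Finset.mul_sum, Finset.mul_sum, Finset.mul_sum]
      refine Finset.sum_congr rfl fun o _ => ?_
      ring
  -- the functions on `P`
  let δ : P → ℂ := fun q => if q = 1 then 1 else if q = uP then -1 else 0
  haveI := Fintype.ofFinite P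
  have hδsum : ∀ η : IrrCharacter P, ∑ q : P, δ q * conj ((η : P → ℂ) q)
      = conj ((η : P → ℂ) 1 - (η : P → ℂ) uP) := by
    intro η
    rw [Finset.sum_eq_add_of_mem 1 uP (Finset.mem_univ _) (Finset.mem_univ _) huPne.symm
      (fun q _ h => by simp [δ, h.1, h.2])]
    simp [δ, huPne, sub_eq_add_neg]
  have hcl : ∀ c : ℂ, IsClassFunction P (c • δ) := by
    intro c q r
    have e1 : r * q * r⁻¹ = 1 ↔ q = 1 := conj_eq_one_iff
    have e2 : r * q * r⁻¹ = uP ↔ q = uP := by
      have hcu : r * uP * r⁻¹ = uP := by
        apply Subtype.ext; apply Subtype.ext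
        show ((r : E) : K) * u * ((r : E) : K)⁻¹ = u
        rw [hc, mul_inv_cancel_right]
      constructor
      · intro h
        calc q = r⁻¹ * (r * q * r⁻¹) * r := by group
          _ = r⁻¹ * (r * uP * r⁻¹) * r := by rw [h, hcu]
          _ = uP := by group
      · rintro rfl; exact hcu
    simp only [Pi.smul_apply, δ, e1, e2]
  have hW : IsGeneralizedCharacter P (m • δ) := by
    rw [isGeneralizedCharacter_iff_classInner_int]
    refine ⟨hcl m, fun η => ?_⟩
    obtain ⟨n, hn⟩ := half_sub_integral huP2 η
    refine ⟨n, ?_⟩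
    rw [classInner_smul_left, classInner, hδsum, hn, map_mul, map_intCast, map_ofNat, hm]
    field_simp
  have hV : IsGeneralizedCharacter P ((2 : ℂ) • δ) := by
    rcases (show Nat.card P = 2 ∨ Nat.card P = 4 ∨ Nat.card P = 8 by
      have := Nat.le_of_dvd (by norm_num) hdvd8
      obtain ⟨i, hi3, hi⟩ := (Nat.dvd_prime_pow Nat.prime_two).1 (show Nat.card P ∣ 2 ^ 3 from hdvd8)
      rw [hi] at h2le ⊢
      interval_cases i <;> simp at h2le ⊢) with h | h | h
    · have e : (2 : ℂ) • δ = ((2 : ℤ) : ℂ) • (m • δ) := by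
        rw [hm, h, smul_smul]; norm_num
      rw [e]
      exact IsGeneralizedCharacter.intCast_smul hW 2
    · convert hW using 2
      rw [hm, h]; norm_num
    · rw [isGeneralizedCharacter_iff_classInner_int]
      refine ⟨hcl 2, fun η => ?_⟩
      obtain ⟨n, hn⟩ := half_sub_integral huP2 η
      obtain ⟨d, hd⟩ := IsCharacter.exists_apply_one (irr_isCharacter η)
      -- `n` is even
      have heven : Even n := by
        obtain ⟨hd1, hd8⟩ : (∃ d' : ℕ, (η : P → ℂ) 1 = d' ∧ d' ∣ 8) ∧ True := by
          obtain ⟨d', -, h1, h2⟩ := IsIrrCharacter.exists_degree_dvd η.2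
          exact ⟨⟨d', h1, h ▸ h2⟩, trivial⟩
        obtain ⟨d', hd', hdvd'⟩ := hd1
        have hdd : d = d' := by exact_mod_cast hd.symm.trans hd'
        subst hdd
        -- the involution acts as a scalar
        have hsq : (η : P → ℂ) uP * (η : P → ℂ) uP = (η : P → ℂ) 1 * (η : P → ℂ) 1 := by
          have h943 := Cfsg.Agent.S0943.result η uP uP (fun x y hx hy => by
            have hcu : ∀ r : P, r * uP * r⁻¹ = uP := fun r => by
              apply Subtype.ext; apply Subtype.ext
              show ((r : E) : K) * u * ((r : E) : K)⁻¹ = u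
              rw [hc, mul_inv_cancel_right]
            obtain ⟨r, rfl⟩ := isConj_iff.1 hx
            obtain ⟨r', rfl⟩ := isConj_iff.1 hy
            rw [hcu, hcu])
          rw [show uP * uP = 1 by rw [← pow_two, ← huP2, pow_orderOf_eq_one]] at h943
          exact h943
        rcases eq_or_eq_neg_of_sq_eq_sq ((η : P → ℂ) uP) ((η : P → ℂ) 1)
          (by rw [pow_two, pow_two, hsq]) with h1 | h1
        · rw [h1, sub_self] at hn
          have : n = 0 := by exact_mod_cast (mul_eq_zero.1 hn.symm).resolve_left two_ne_zero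
          simp [this]
        · rw [h1, hd] at hn
          have hnd : (d : ℤ) = n := by
            have : (2 : ℂ) * d = 2 * n := by linear_combination hn
            exact_mod_cast mul_left_cancel₀ two_ne_zero this
          rw [← hnd]
          rcases Nat.eq_zero_or_pos d with h0 | hpos
          · exact absurd (by rw [hd, h0, Nat.cast_zero]) (IsIrrCharacter.apply_one_ne_zero η.2)
          have hd1 : d ≠ 1 := by
            rintro rfl
            have hx := h8 P' (hP'card.trans h)
            obtain ⟨_, ⟨x, hxP, rfl⟩, _, ⟨y, hyP, rfl⟩, hxy⟩ := hx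
            have hcomm : uP ∈ commutator P := by
              have e : uP = ⁅(⟨x, hxP⟩ : P)⁻¹, (⟨y, hyP⟩ : P)⁻¹⁆ := by
                apply Subtype.ext; apply Subtype.ext
                simp only [commutatorElement_def, inv_inv, Subgroup.coe_mul, Subgroup.coe_inv]
                exact hxy.symm
              rw [e]
              exact Subgroup.commutator_mem_commutator (Subgroup.mem_top _) (Subgroup.mem_top _)
            have hv := IsCharacter.apply_of_mem_commutator (irr_isCharacter η) (by simpa using hd)
              hcomm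
            rw [h1, hd] at hv
            norm_num at hv
          obtain ⟨i, -, hi⟩ := (Nat.dvd_prime_pow Nat.prime_two).1
            (show d ∣ 2 ^ 3 from hdvd')
          have : i ≠ 0 := by rintro rfl; exact hd1 (by simpa using hi)
          refine (Int.even_coe_nat d).2 ?_
          rw [hi]
          exact Nat.even_pow.2 ⟨even_two, this⟩
      obtain ⟨r, rfl⟩ := heven
      refine ⟨r, ?_⟩
      rw [classInner_smul_left, classInner, hδsum, hn, map_mul, map_intCast, map_ofNat, h]
      push_cast
      ring_nf
  -- assemble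
  have hfin : IsGeneralizedCharacter E (((2 : ℂ) • δ) ∘ πP + (θ ∘ πO) * ((m • δ) ∘ πP)) :=
    IsGeneralizedCharacter.add (IsGeneralizedCharacter.comp hV πP)
      (IsGeneralizedCharacter.mul (IsGeneralizedCharacter.comp hθ πO)
        (IsGeneralizedCharacter.comp hW πP))
  convert hfin using 1
  funext e
  simp only [Pi.add_apply, Pi.mul_apply, Function.comp_apply, Pi.smul_apply, smul_eq_mul, δ, θ]
  unfold signFun
  by_cases h1 : πP e = 1
  · rw [if_pos ((hodd_iff e).2 h1), if_pos h1, hLval e (Or.inl h1)]
    field_simp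
    ring
  · rw [if_neg (fun h => h1 ((hodd_iff e).1 h)), if_neg h1]
    by_cases h2 : πP e = uP
    · rw [if_pos ((huodd_iff e).2 h2), if_pos h2, hLval e (Or.inr h2)]
      field_simp
      ring
    · rw [if_neg (fun h => h2 ((huodd_iff e).1 h)), if_neg h2]
      ring

end Cfsg.Agent.Lib.InvChar
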