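import Mathlib
import Cfsg.Prelude
import Cfsg.Agent.Lib.InvChar.QuaternionBrauer
import Cfsg.Agent.S0948
import Cfsg.Agent.S0950
import Cfsg.Agent.Lib.Blocks.Quotient
import Cfsg.Agent.Lib.Blocks.KleinFour

/-!
# Brauer–Suzuki: quaternion Sylow subgroups of order eight
-/

set_option autoImplicit false
set_option linter.unusedSectionVars false

namespace Cfsg.Agent.Lib.InvChar

open Cfsg Cfsg.Agent.Lib.Characters Cfsg.Agent.Lib.Involutions
open scoped ComplexConjugate

universe u

/-- With a Klein four Sylow subgroup a principal block character takes at an element of even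
order its value at some involution. -/
lemma klein_singular_value {Q : Type u} [Group Q] [Finite Q] {M : Ideal AlgInt}
    (hM : IsPModular 2 M) (P : Sylow 2 Q) (hP : IsKleinFour (P : Subgroup Q))
    {χ : IrrCharacter Q} (hχ : χ ∈ principalBlock M Q) {g : Q} (hg : ¬ Odd (orderOf g)) :
    ∃ i : Q, orderOf i = 2 ∧ (χ : Q → ℂ) g = (χ : Q → ℂ) i := by
  classical
  have : Fact (Nat.Prime 2) := ⟨Nat.prime_two⟩
  have h4 : ∀ w : Q, orderOf w ≠ 4 := by
    intro w hw
    obtain ⟨R, hR⟩ := (IsPGroup.of_card (G := ↥(Subgroup.zpowers w)) (p := 2) (n := 2)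
      (by rw [Nat.card_zpowers, hw]; norm_num)).exists_le_sylow
    obtain ⟨x, hx⟩ := MulAction.exists_smul_eq Q R P
    have hmem : x * w * x⁻¹ ∈ (P : Subgroup Q) := by
      rw [← hx]; exact ⟨w, hR (Subgroup.mem_zpowers w), rfl⟩
    have h2 := congrArg Subtype.val
      (IsKleinFour.mul_self (G := (P : Subgroup Q)) ⟨_, hmem⟩)
    have h3 : (x * w * x⁻¹) ^ 2 = 1 := by rw [pow_two]; exact h2
    have := orderOf_dvd_of_pow_eq_one h3
    rw [orderOf_conj_eq, hw] at this
    norm_num at this
  have h2o : 2 ∣ orderOf g := even_iff_two_dvd.1 (Nat.not_odd_iff_even.1 hg)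
  obtain ⟨m, hm⟩ := h2o
  have hmodd : Odd m := by
    by_contra h
    obtain ⟨q, rfl⟩ := even_iff_two_dvd.1 (Nat.not_odd_iff_even.1 h)
    have hq : q ≠ 0 := by rintro rfl; exact (orderOf_pos g).ne' (by simpa using hm)
    exact h4 (g ^ q) (by
      rw [orderOf_pow' _ hq, hm, Nat.gcd_eq_right ⟨4, by ring⟩,
        show 2 * (2 * q) = 4 * q by ring, Nat.mul_div_cancel _ (Nat.pos_of_ne_zero hq)])
  set i := g ^ m with hi
  have hi2 : orderOf i = 2 := by
    rw [hi, orderOf_pow' _ hmodd.pos.ne', hm, Nat.gcd_eq_right (dvd_mul_left m 2),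
      Nat.mul_div_cancel _ hmodd.pos]
  refine ⟨i, hi2, ?_⟩
  set v := g ^ (m + 1) with hv
  have hgv : g = i * v := by
    rw [hi, hv, ← pow_add, show m + (m + 1) = orderOf g + 1 by omega, pow_succ, pow_orderOf_eq_one,
      one_mul]
  have hvodd : Odd (orderOf v) := by
    refine hmodd.of_dvd_nat (orderOf_dvd_of_pow_eq_one ?_)
    obtain ⟨r, hr⟩ := hmodd
    rw [hv, ← pow_mul, show (m + 1) * m = orderOf g * (r + 1) by rw [hm, hr]; ring, pow_mul,
      pow_orderOf_eq_one, one_pow]
  set K := Subgroup.centralizer ({i} : Set Q) with hK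
  have hvK : v ∈ K := Subgroup.mem_centralizer_singleton_iff.2
    (((Commute.refl g).pow_pow (m + 1) m).eq)
  obtain ⟨R, hR⟩ := (IsPGroup.of_card (G := ↥(Subgroup.zpowers i)) (p := 2) (n := 1)
    (by rw [Nat.card_zpowers, hi2, pow_one])).exists_le_sylow
  obtain ⟨x, hx⟩ := MulAction.exists_smul_eq Q P R
  let e : (R : Subgroup Q) ≃* (P : Subgroup Q) := (R.equiv P)
  have hRK : IsKleinFour (R : Subgroup Q) :=
    ⟨by rw [Nat.card_congr e.toEquiv, IsKleinFour.card_four],
     by rw [Monoid.exponent_eq_of_mulEquiv e, IsKleinFour.exponent_two]⟩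
  have hiR : i ∈ (R : Subgroup Q) := hR (Subgroup.mem_zpowers i)
  have hRle : (R : Subgroup Q) ≤ K := fun r hr => Subgroup.mem_centralizer_singleton_iff.2
    (congrArg Subtype.val ((IsKleinFour.isMulCommutative (G := (R : Subgroup Q))).is_comm.comm
      ⟨r, hr⟩ ⟨i, hiR⟩))
  haveI := Fintype.ofFinite K
  let e' : ((R.subtype hRle : Sylow 2 K) : Subgroup K) ≃* (R : Subgroup Q) :=
    Subgroup.subgroupOfEquivOfLe hRle
  have hRK' : IsKleinFour ((R.subtype hRle : Sylow 2 K) : Subgroup K) :=
    ⟨by rw [Nat.card_congr e'.toEquiv, IsKleinFour.card_four],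
     by rw [Monoid.exponent_eq_of_mulEquiv e', IsKleinFour.exponent_two]⟩
  have hiK : i ∈ K := Subgroup.mem_centralizer_singleton_iff.2 rfl
  obtain ⟨k, hk⟩ := Lib.Blocks.exists_pow_index_pPrimeCore_of_klein (R.subtype hRle) hRK'
    (z := ⟨i, hiK⟩) hiR
    (fun h => by
      have := congrArg Subtype.val h
      simp only [OneMemClass.coe_one] at this
      rw [this, orderOf_one] at hi2
      norm_num at hi2)
    (fun y => Subtype.ext (Subgroup.mem_centralizer_singleton_iff.1 y.2))
  haveI : (pPrimeCore 2 K).Normal := (Lib.Cores.pPrimeCore_mem 2 K).1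
  have hmem : (⟨v, hvK⟩ : K) ∈ pPrimeCore 2 K :=
    Lib.Blocks.mem_of_index_eq_pow Nat.prime_two _ hk
      (by rw [Subgroup.orderOf_mk]; exact Nat.two_dvd_ne_zero.2 (Nat.odd_iff.1 hvodd))
  rw [hgv]
  exact Cfsg.Agent.S0942.result 2 M hM i ⟨1, by rw [hi2, pow_one]⟩ v ⟨⟨v, hvK⟩, hmem, rfl⟩ χ hχ

variable {G : Type u} [Group G] [Fintype G]

/-- **Brauer–Suzuki**, order eight: some non-principal irreducible character has the central
involution in its kernel. -/
lemma exists_char_q8 (S : Sylow 2 G) (e : (S : Subgroup G) ≃* QuaternionGroup 2) (u : G)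
    (huS : u ∈ S) (hu : IsIsolatedInvolution u)
    (hnc : ∀ N : Subgroup G, N.Normal → ¬ Subgroup.IsComplement' N (S : Subgroup G)) :
    ∃ χ : IrrCharacter G, χ ≠ trivIrr G ∧ (χ : G → ℂ) u = (χ : G → ℂ) 1 := by
  classical
  have : Fact (Nat.Prime 2) := ⟨Nat.prime_two⟩
  obtain ⟨M, hM⟩ := exists_isPModular_two
  haveI := Lib.Blocks.isPrime_of_isPModular hM
  have hu2 := hu.1
  have hu1 : u ≠ 1 := fun h => by rw [h, orderOf_one] at hu2; norm_num at hu2
  have huu : u * u = 1 := invol_mul_self hu2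
  have hq8 : ∀ x y : QuaternionGroup 2, x ^ 2 = 1 → y ^ 2 = 1 → x ≠ 1 → y ≠ 1 → x = y := by decide
  have hq8sq : ∀ x : QuaternionGroup 2, (x ^ 2) ^ 2 = 1 := by decide
  have hq8comm : ∃ x y : QuaternionGroup 2, x⁻¹ * y⁻¹ * x * y ≠ 1 ∧
      (x⁻¹ * y⁻¹ * x * y) ^ 2 = 1 := by decide
  have hSuniq : ∀ x ∈ S, x * x = 1 → x ≠ 1 → x = u := by
    intro x hx hx2 hx1
    have h := hq8 (e ⟨x, hx⟩) (e ⟨u, huS⟩)
      (by rw [← map_pow, show (⟨x, hx⟩ : (S : Subgroup G)) ^ 2 = 1 from
        Subtype.ext (by rw [SubmonoidClass.coe_pow, pow_two]; exact hx2), map_one])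
      (by rw [← map_pow, show (⟨u, huS⟩ : (S : Subgroup G)) ^ 2 = 1 from
        Subtype.ext (by rw [SubmonoidClass.coe_pow, pow_two]; exact huu), map_one])
      (fun h => hx1 (congrArg Subtype.val (e.injective (h.trans e.map_one.symm))))
      (fun h => hu1 (congrArg Subtype.val (e.injective (h.trans e.map_one.symm))))
    exact congrArg Subtype.val (e.injective h)
  set C := Subgroup.centralizer ({u} : Set G) with hC
  have huC : u ∈ C := Subgroup.mem_centralizer_singleton_iff.2 rfl
  have hSC : (S : Subgroup G) ≤ C := fun s hs => Subgroup.mem_centralizer_singleton_iff.2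
    (mul_inv_eq_iff_eq_mul.1 (eq_of_conj_mem hu S.2 huS (mul_mem (mul_mem hs huS) (inv_mem hs))))
  set SC : Sylow 2 C := S.subtype hSC with hSCdef
  set u' : C := ⟨u, huC⟩ with hu'
  have hu'2 : orderOf u' = 2 := by rw [← Subgroup.orderOf_coe]; exact hu2
  have hu'u' : u' * u' = 1 := Subtype.ext huu
  have hu'c : ∀ g : C, g * u' = u' * g := fun g =>
    Subtype.ext (Subgroup.mem_centralizer_singleton_iff.1 g.2)
  have huniqC : ∀ t : C, orderOf t = 2 → t = u' := by
    intro t ht
    obtain ⟨R, hR⟩ := (IsPGroup.of_card (G := ↥(Subgroup.zpowers t)) (p := 2) (n := 1)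
      (by rw [Nat.card_zpowers, ht, pow_one])).exists_le_sylow
    obtain ⟨w, hw⟩ := MulAction.exists_smul_eq C R SC
    have hmem : w * t * w⁻¹ ∈ (SC : Subgroup C) := by
      rw [← hw]; exact ⟨t, hR (Subgroup.mem_zpowers t), rfl⟩
    have h2 : orderOf (w * t * w⁻¹) = 2 := by rw [orderOf_conj_eq, ht]
    have h : w * t * w⁻¹ = u' := Subtype.ext (hSuniq _ hmem
      (congrArg Subtype.val (invol_mul_self h2))
      (fun hh => by
        have : w * t * w⁻¹ = 1 := Subtype.ext hh
        rw [this, orderOf_one] at h2; norm_num at h2))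
    calc t = w⁻¹ * (w * t * w⁻¹) * w := by group
      _ = u' := by rw [h, mul_assoc, ← hu'c w, inv_mul_cancel_left]
  have hS8 : Nat.card (S : Subgroup G) = 8 := by
    rw [Nat.card_congr e.toEquiv, Nat.card_eq_fintype_card, QuaternionGroup.card]
  have hSC8 : Nat.card (SC : Subgroup C) = 8 :=
    (Nat.card_congr (Subgroup.subgroupOfEquivOfLe hSC).toEquiv).trans hS8
  have hfac : ∀ P : Subgroup C, IsPGroup 2 ↥P → Nat.card P ∣ 8 := by
    intro P hP
    obtain ⟨R, hR⟩ := hP.exists_le_sylow
    refine hSC8 ▸ (Subgroup.card_dvd_of_le hR).trans ?_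
    rw [Sylow.card_eq_multiplicity R, Sylow.card_eq_multiplicity SC]
  have h8 : ∀ P : Subgroup C, Nat.card P = 8 → ∃ x ∈ P, ∃ y ∈ P, x⁻¹ * y⁻¹ * x * y = u' := by
    intro P hP
    obtain ⟨R, hR⟩ := (IsPGroup.of_card (G := ↥P) (p := 2) (n := 3) hP).exists_le_sylow
    have hPR : P = (R : Subgroup C) := Subgroup.eq_of_le_of_card_ge hR (by
      rw [hP, Sylow.card_eq_multiplicity R, ← Sylow.card_eq_multiplicity SC, hSC8])
    obtain ⟨x, y, hne, hsq⟩ := hq8comm
    let f : QuaternionGroup 2 ≃* (P : Subgroup C) :=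
      (e.symm.trans (Subgroup.subgroupOfEquivOfLe hSC).symm).trans
        ((SC.equiv R).trans (MulEquiv.subgroupCongr hPR.symm))
    refine ⟨f x, (f x).2, f y, (f y).2, huniqC _ ?_⟩
    have h1 : ((f x : C))⁻¹ * ((f y : C))⁻¹ * (f x : C) * (f y : C)
        = ((f (x⁻¹ * y⁻¹ * x * y) : (P : Subgroup C)) : C) := by
      simp only [map_mul, map_inv, Subgroup.coe_mul, Subgroup.coe_inv]
    rw [h1, Subgroup.orderOf_coe, f.orderOf_eq]
    exact orderOf_eq_prime hsq hne
  -- the quotient by the central involution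
  set U : Subgroup C := Subgroup.zpowers u' with hU
  haveI hUn : U.Normal := ⟨fun w hw g => by
    obtain ⟨i, rfl⟩ := hw
    refine ⟨i, ?_⟩
    rw [(show Commute g u' from hu'c g).zpow_right i, mul_inv_cancel_right]⟩
  have hUmem : ∀ w, w ∈ U ↔ w = 1 ∨ w = u' := by
    intro w
    constructor
    · intro hw
      obtain ⟨i, hi, rfl⟩ : ∃ i, i < 2 ∧ u' ^ i = w := by
        have := (mem_zpowers_iff_mem_range_orderOf).1 hw
        rw [hu'2] at this
        simpa using this
      interval_cases i <;> simp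
    · rintro (rfl | rfl)
      · exact U.one_mem
      · exact Subgroup.mem_zpowers u'
  set π := QuotientGroup.mk' U with hπ
  have hπu : ∀ c : C, π (u' * c) = π c := by
    intro c
    rw [map_mul, show π u' = 1 from (QuotientGroup.eq_one_iff u').2 (Subgroup.mem_zpowers u'),
      one_mul]
  set P0 : Sylow 2 (C ⧸ U) := SC.mapSurjective (QuotientGroup.mk'_surjective U) with hP0
  have hP0mem : ∀ q ∈ (P0 : Subgroup (C ⧸ U)), ∃ x : C, (x : G) ∈ S ∧ π x = q := by
    rintro q ⟨x, hx, rfl⟩
    exact ⟨x, hx, rfl⟩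
  have hS4 : ∀ x ∈ S, x * x = 1 ∨ x * x = u := by
    intro x hx
    by_cases h1 : x * x = 1
    · exact Or.inl h1
    · refine Or.inr (hSuniq _ (mul_mem hx hx) ?_ h1)
      have := congrArg (fun t : QuaternionGroup 2 => ((e.symm t : (S : Subgroup G)) : G))
        (hq8sq (e ⟨x, hx⟩))
      simpa [← map_pow, pow_two] using this
  have hP0sq : ∀ q ∈ (P0 : Subgroup (C ⧸ U)), q * q = 1 := by
    intro q hq
    obtain ⟨x, hx, rfl⟩ := hP0mem q hq
    rw [← map_mul]
    refine (QuotientGroup.eq_one_iff _).2 ((hUmem _).2 ?_)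
    rcases hS4 _ hx with h | h
    · exact Or.inl (Subtype.ext h)
    · exact Or.inr (Subtype.ext h)
  have hCcard : Nat.card C = Nat.card (C ⧸ U) * 2 := by
    rw [Subgroup.card_eq_card_quotient_mul_card_subgroup U, hU, Nat.card_zpowers, hu'2]
  have hP04 : Nat.card (P0 : Subgroup (C ⧸ U)) = 4 := by
    have h2 := Sylow.card_eq_multiplicity SC
    rw [hSC8, hCcard, Nat.factorization_mul Nat.card_pos.ne' two_ne_zero, Finsupp.add_apply,
      Nat.Prime.factorization_self Nat.prime_two, pow_succ] at h2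
    rw [Sylow.card_eq_multiplicity P0]
    omega
  have hP0K : IsKleinFour (P0 : Subgroup (C ⧸ U)) := by
    refine ⟨hP04, ?_⟩
    have hd : Monoid.exponent (P0 : Subgroup (C ⧸ U)) ∣ 2 :=
      Monoid.exponent_dvd_of_forall_pow_eq_one fun q => Subtype.ext (by
        rw [SubmonoidClass.coe_pow, pow_two]; exact hP0sq _ q.2)
    refine ((Nat.dvd_prime Nat.prime_two).1 hd).resolve_left fun h1 => ?_
    have := Monoid.exp_eq_one_iff.1 h1
    rw [Nat.card_of_subsingleton (1 : (P0 : Subgroup (C ⧸ U)))] at hP04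
    norm_num at hP04
  have hone : ∀ s t : C ⧸ U, orderOf s = 2 → orderOf t = 2 → IsConj s t := by
    suffices h : ∀ s : C ⧸ U, orderOf s = 2 → ∀ t, orderOf t = 2 → t ∈ (P0 : Subgroup (C ⧸ U)) →
        IsConj s t by
      intro s t hs ht
      obtain ⟨R, hR⟩ := (IsPGroup.of_card (G := ↥(Subgroup.zpowers t)) (p := 2) (n := 1)
        (by rw [Nat.card_zpowers, ht, pow_one])).exists_le_sylow
      obtain ⟨w, hw⟩ := MulAction.exists_smul_eq (C ⧸ U) R P0
      have hmem : w * t * w⁻¹ ∈ (P0 : Subgroup (C ⧸ U)) := by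
        rw [← hw]; exact ⟨t, hR (Subgroup.mem_zpowers t), rfl⟩
      exact (h s hs _ (by rw [orderOf_conj_eq, ht]) hmem).trans
        (isConj_iff.2 ⟨w⁻¹, by group⟩)
    intro s hs t ht htP
    obtain ⟨R, hR⟩ := (IsPGroup.of_card (G := ↥(Subgroup.zpowers s)) (p := 2) (n := 1)
      (by rw [Nat.card_zpowers, hs, pow_one])).exists_le_sylow
    obtain ⟨w, hw⟩ := MulAction.exists_smul_eq (C ⧸ U) R P0
    have hsmem : w * s * w⁻¹ ∈ (P0 : Subgroup (C ⧸ U)) := by
      rw [← hw]; exact ⟨s, hR (Subgroup.mem_zpowers s), rfl⟩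
    refine (isConj_iff.2 ⟨w, rfl⟩ : IsConj s _).trans ?_
    obtain ⟨x, hx, hxs⟩ := hP0mem _ hsmem
    obtain ⟨y, hy, hyt⟩ := hP0mem t htP
    have hord : ∀ x : C, (x : G) ∈ S → orderOf (π x) = 2 → (x : G) * x = u ∧ orderOf (x : G) = 4 := by
      intro x hx hx2
      have hne : x ≠ 1 ∧ x ≠ u' := by
        constructor <;> intro h <;> rw [h] at hx2
        · rw [map_one, orderOf_one] at hx2; norm_num at hx2
        · rw [show π u' = 1 from (QuotientGroup.eq_one_iff u').2 (Subgroup.mem_zpowers u'),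
            orderOf_one] at hx2
          norm_num at hx2
      have hxx : (x : G) * x = u := (hS4 _ hx).resolve_left fun h =>
        hne.2 (Subtype.ext (hSuniq _ hx h fun h1 => hne.1 (Subtype.ext h1)))
      refine ⟨hxx, orderOf_eq_prime_pow (p := 2) (n := 1) ?_ ?_⟩
      · rw [pow_one, pow_two, hxx]; exact hu1
      · rw [show 2 ^ (1 + 1) = 2 * 2 from rfl, pow_mul, pow_two, pow_two, hxx, huu]
    obtain ⟨hxx, hx4⟩ := hord x hx (by rw [hxs, orderOf_conj_eq, hs])
    obtain ⟨hyy, hy4⟩ := hord y hy (by rw [hyt, ht])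
    obtain ⟨n, hn, hneq⟩ := Cfsg.Agent.S0950.result S e hnc (Subgroup.zpowers (x : G))
      (Subgroup.zpowers (y : G)) (Subgroup.zpowers_le.2 hx) (Subgroup.zpowers_le.2 hy)
      (by rw [Nat.card_zpowers, hx4]) (by rw [Nat.card_zpowers, hy4])
    have hnu : n * u * n⁻¹ = u :=
      eq_of_conj_mem hu S.2 huS ((Subgroup.mem_normalizer_iff.1 hn u).1 huS)
    have hnC : n ∈ C := Subgroup.mem_centralizer_singleton_iff.2 (mul_inv_eq_iff_eq_mul.1 hnu)
    have hmemy : n * x * n⁻¹ ∈ Subgroup.zpowers (y : G) := by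
      rw [hneq]; exact ⟨x, Subgroup.mem_zpowers _, rfl⟩
    obtain ⟨i, hi, hieq⟩ : ∃ i, i < 4 ∧ (y : G) ^ i = n * x * n⁻¹ := by
      have := (mem_zpowers_iff_mem_range_orderOf).1 hmemy
      rw [hy4] at this
      simpa using this
    have hconj : π (⟨n, hnC⟩ * x * ⟨n, hnC⟩⁻¹) = π y := by
      have hord4 : orderOf (n * (x : G) * n⁻¹) = 4 := by rw [orderOf_conj_eq, hx4]
      interval_cases i
      · rw [← hieq] at hord4; simp at hord4
      · congr 1; apply Subtype.ext
        simpa using hieq.symm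
      · exfalso
        rw [← hieq] at hord4
        have : orderOf ((y : G) ^ 2) ∣ 2 := orderOf_dvd_of_pow_eq_one (by
          rw [← pow_mul, show 2 * 2 = orderOf (y : G) by rw [hy4], pow_orderOf_eq_one])
        rw [hord4] at this
        norm_num at this
      · rw [← hπu y]; congr 1; apply Subtype.ext
        have : (y : G) ^ 3 = u * y := by rw [pow_succ, pow_two, hyy]
        rw [this] at hieq
        simpa using hieq.symm
    rw [← hxs, ← hyt, ← hconj, map_mul, map_mul, map_inv]
    exact isConj_iff.2 ⟨π ⟨n, hnC⟩, rfl⟩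
  -- the characters of the quotient
  obtain ⟨ζ₂, ζ₃, ζ₄, ε, hε, hn2, hn3, h23, h24, h34, hblk, hval, -, -, -, hrel⟩ :=
    Cfsg.Agent.S0948.result M hM P0 hP0K hone
  let ψ : Fin 3 → IrrCharacter (C ⧸ U) := ![ζ₂, ζ₃, ζ₄]
  let δ : Fin 3 → ℤ := ![1, ε, -1]
  have hn4 : (ζ₄ : C ⧸ U → ℂ) ≠ fun _ => 1 := by
    intro h
    obtain ⟨z, hz⟩ := exists_prime_orderOf_dvd_card' (G := (P0 : Subgroup (C ⧸ U))) 2
      (by rw [hP04]; norm_num)
    have := (hval (z : C ⧸ U) (by rw [Subgroup.orderOf_coe, hz])).2.2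
    rw [h] at this
    norm_num at this
  have hψne : ∀ j, (ψ j : C ⧸ U → ℂ) ≠ fun _ => 1 := by
    intro j; fin_cases j <;> assumption
  have hψinj : Function.Injective ψ := by
    intro i j h
    fin_cases i <;> fin_cases j <;> simp_all [ψ]
  have hψB : ∀ j, ψ j ∈ principalBlock M (C ⧸ U) := by
    intro j; rw [hblk]; fin_cases j <;> simp [ψ]
  have hδsq : ∀ j, ((δ j : ℂ)) * (δ j : ℂ) = 1 := by
    intro j
    have : δ j * δ j = 1 := by
      fin_cases j <;> rcases hε with h | h <;> simp [δ, h]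
    exact_mod_cast this
  have hψval : ∀ j i, orderOf i = 2 → (ψ j : C ⧸ U → ℂ) i = (δ j : ℂ) := by
    intro j i hi
    obtain ⟨a, b, c⟩ := hval i hi
    fin_cases j <;> simp [ψ, δ, a, b, c]
  haveI := Fintype.ofFinite (C ⧸ U)
  let L : Fin 3 → (C ⧸ U) → ℂ := fun j => (fun _ => 1) + (δ j : ℂ) • (ψ j : C ⧸ U → ℂ)
  have hLeven : ∀ j q, ¬ Odd (orderOf q) → L j q = 2 := by
    intro j q hq
    obtain ⟨i, hi, hqi⟩ := klein_singular_value hM P0 hP0K (hψB j) hq
    show 1 + (δ j : ℂ) * (ψ j : C ⧸ U → ℂ) q = 2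
    rw [hqi, hψval j i hi, hδsq]
    norm_num
  have hrel' : ∀ q : C ⧸ U, (if Odd (orderOf q) then (0 : ℂ) else 4)
      = 1 + ∑ j, (δ j : ℂ) * (ψ j : C ⧸ U → ℂ) q := by
    intro q
    split_ifs with hq
    · rw [← hrel q hq, Fin.sum_univ_three]
      simp [ψ, δ]; ring
    · have h := fun j => hLeven j q hq
      simp only [L, Pi.add_apply, Pi.smul_apply, smul_eq_mul] at h
      rw [Fin.sum_univ_three]
      linear_combination -(h 0) - (h 1) - (h 2)
  have hψ1 : ∀ j, classInner (ψ j : C ⧸ U → ℂ) (fun _ => 1) = 0 := fun j =>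
    IsIrrCharacter.classInner_ne (ψ j).2 isIrrCharacter_one (hψne j)
  have hψ1' : ∀ j, classInner (fun _ => 1) (ψ j : C ⧸ U → ℂ) = 0 := fun j =>
    IsIrrCharacter.classInner_ne isIrrCharacter_one (ψ j).2 (hψne j).symm
  have hL1 : ∀ j, classInner (L j) (fun _ => 1) = 1 := by
    intro j
    rw [classInner_add_left, classInner_smul_left, hψ1,
      IsIrrCharacter.classInner_self isIrrCharacter_one]
    simp
  have hLL : ∀ i j, classInner (L i) (L j) = if i = j then 2 else 1 := by
    intro i j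
    rw [classInner_add_left, classInner_add_right, classInner_add_right, classInner_smul_left,
      classInner_smul_left, classInner_smul_right, classInner_smul_right, hψ1, hψ1',
      IsIrrCharacter.classInner_self isIrrCharacter_one, classInner_irr]
    split_ifs with h h' h'
    · subst h'; rw [map_intCast]; linear_combination hδsq i
    · exact absurd (hψinj h) h'
    · exact absurd (congrArg ψ h') h
    · simp
  have hp : ∑ q : C ⧸ U, (if Odd (orderOf q) then (0 : ℂ) else 4) = Nat.card (C ⧸ U) := by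
    simp only [hrel', Finset.sum_add_distrib]
    rw [Finset.sum_comm, Finset.sum_eq_zero (s := (Finset.univ : Finset (Fin 3))) (fun j _ => ?_)]
    · simp
    · have := hψ1 j
      simp only [classInner, map_one, mul_one] at this
      rw [← Finset.mul_sum, (mul_eq_zero.1 this).resolve_left
        (inv_ne_zero natCard_ne_zero_complex), mul_zero]
  -- parity on `C`
  have hπodd : ∀ c : C, Odd (orderOf (π c)) ↔ Odd (orderOf c) ∨ Odd (orderOf (u' * c)) := by
    intro c
    constructor
    · intro h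
      have hmem : c ^ orderOf (π c) ∈ U := by
        rw [← QuotientGroup.eq_one_iff, QuotientGroup.mk_pow]
        exact pow_orderOf_eq_one (π c)
      rcases (hUmem _).1 hmem with h1 | h1
      · exact Or.inl (h.of_dvd_nat (orderOf_dvd_of_pow_eq_one h1))
      · refine Or.inr (h.of_dvd_nat (orderOf_dvd_of_pow_eq_one ?_))
        obtain ⟨r, hr⟩ := h
        rw [(show Commute u' c from (hu'c c).symm).mul_pow, h1, hr, pow_succ, pow_mul, pow_two,
          hu'u', one_pow, one_mul, hu'u']
    · rintro (h | h)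
      · exact h.of_dvd_nat (orderOf_map_dvd π c)
      · exact h.of_dvd_nat (hπu c ▸ orderOf_map_dvd π (u' * c))
  have hnotboth : ∀ c : C, Odd (orderOf c) → ¬ Odd (orderOf (u' * c)) := by
    intro c h1 h2
    obtain ⟨r, hr⟩ := h1.mul h2
    have h := (show Commute u' c from (hu'c c).symm).mul_pow (orderOf c * orderOf (u' * c))
    rw [pow_mul c, pow_orderOf_eq_one, one_pow, mul_one, mul_comm, pow_mul, pow_orderOf_eq_one,
      one_pow, mul_comm, hr, pow_succ, pow_mul, pow_two, hu'u', one_pow, one_mul] at h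
    exact hu1 (congrArg Subtype.val h.symm)
  haveI := Fintype.ofFinite C
  have hsumπ : ∀ f : C ⧸ U → ℂ, ∑ c : C, f (π c) = 2 * ∑ q, f q := by
    intro f
    rw [← Finset.sum_fiberwise Finset.univ (fun c : C => π c) (fun c => f (π c)), Finset.mul_sum]
    refine Finset.sum_congr rfl fun q _ => ?_
    obtain ⟨c, rfl⟩ := QuotientGroup.mk'_surjective U q
    have hfib : Finset.univ.filter (fun x : C => π x = π c) = {c, u' * c} := by
      ext x
      simp only [Finset.mem_filter, Finset.mem_univ, true_and, Finset.mem_insert,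
        Finset.mem_singleton]
      constructor
      · intro h
        have hx : x * c⁻¹ ∈ U := by
          rw [← QuotientGroup.eq_one_iff]
          show π (x * c⁻¹) = 1
          rw [map_mul, h, map_inv, mul_inv_cancel]
        rcases (hUmem _).1 hx with h1 | h1
        · exact Or.inl (mul_inv_eq_one.1 h1)
        · exact Or.inr (mul_inv_eq_iff_eq_mul.1 h1)
      · rintro (rfl | rfl)
        · rfl
        · exact hπu c
    rw [hfib, Finset.sum_pair (fun h => hu1 (congrArg Subtype.val (right_eq_mul.1 h))), hπu]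
    ring
  have hpair : ∀ T : C → ℂ, ∀ H : C ⧸ U → ℂ, (∀ c, T c + T (u' * c) = H (π c)) →
      ∑ c, T c = ∑ q, H q := by
    intro T H h
    have h1 : ∑ c, T c = ∑ c, T (u' * c) := (Equiv.sum_comp (Equiv.mulLeft u') T).symm
    have h2 : ∑ c, (T c + T (u' * c)) = 2 * ∑ q, H q := by simp only [h]; exact hsumπ H
    rw [Finset.sum_add_distrib, ← h1] at h2
    linear_combination h2 / 2
  -- the generalized characters of `C`
  let k : Fin 3 → C → ℂ := fun j c => L j (π c) - signFun u' (fun x => L j (π x)) c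
  have hkval : ∀ j c, (Odd (orderOf c) → k j c = 0) ∧
      (Odd (orderOf (u' * c)) → k j c = 2 * L j (π c)) ∧
      (¬ Odd (orderOf (π c)) → k j c = 2) := by
    intro j c
    refine ⟨fun h => ?_, fun h => ?_, fun h => ?_⟩ <;> simp only [k, signFun]
    · rw [if_pos h, sub_self]
    · rw [if_neg (fun h' => hnotboth c h' h), if_pos h]; ring
    · rw [hπodd, not_or] at h
      rw [if_neg h.1, if_neg h.2, hLeven j (π c) (by rw [hπodd, not_or]; exact h), sub_zero]
  have hkg : ∀ j, IsGeneralizedCharacter C (k j) := by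
    intro j
    have hL : IsGeneralizedCharacter C (fun x => L j (π x)) :=
      IsGeneralizedCharacter.comp (IsGeneralizedCharacter.add
        (IsCharacter.isGeneralizedCharacter (irr_isCharacter (trivIrr (C ⧸ U))))
        (IsGeneralizedCharacter.intCast_smul
          (IsCharacter.isGeneralizedCharacter (irr_isCharacter (ψ j))) (δ j))) π
    exact IsGeneralizedCharacter.sub hL (isGeneralizedCharacter_signFun hu'2 hu'c huniqC hfac h8 hL
      (fun c => by show L j (π (u' * c)) = _; rw [hπu])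
      (fun c h1 h2 => hLeven j _ (by rw [hπodd, not_or]; exact ⟨h1, h2⟩)))
  have hCc : (Nat.card C : ℂ) = 2 * Nat.card (C ⧸ U) := by rw [hCcard]; push_cast; ring
  have hQ0 : (Nat.card (C ⧸ U) : ℂ) ≠ 0 := natCard_ne_zero_complex
  have hk1 : ∀ j, classInner (k j) (fun _ => 1) = 1 := by
    intro j
    have hs := hpair (fun c => k j c * conj (1 : ℂ)) (fun q => 2 * L j q) (fun c => by
      simp only [map_one, mul_one]
      by_cases h : Odd (orderOf (π c))
      · rcases (hπodd c).1 h with h1 | h1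
        · rw [(hkval j c).1 h1, (hkval j (u' * c)).2.1 (by rwa [← mul_assoc, hu'u', one_mul]), hπu,
            zero_add]
        · rw [(hkval j c).2.1 h1, (hkval j (u' * c)).1 h1, add_zero]
      · rw [(hkval j c).2.2 h, (hkval j (u' * c)).2.2 (by rwa [hπu]), hLeven j _ h]; ring)
    have hL := hL1 j
    rw [classInner, hCc, hs, ← Finset.mul_sum]
    simp only [classInner, map_one, mul_one] at hL
    rw [mul_inv, mul_mul_mul_comm, hL]
    norm_num
  have hkk : ∀ i j, classInner (k i) (k j) = if i = j then 3 else 1 := by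
    intro i j
    have hs := hpair (fun c => k i c * conj (k j c))
      (fun q => 4 * (L i q * conj (L j q)) - 2 * (if Odd (orderOf q) then (0 : ℂ) else 4))
      (fun c => by
      by_cases h : Odd (orderOf (π c))
      · rw [if_pos h]
        rcases (hπodd c).1 h with h1 | h1
        · have h2 : Odd (orderOf (u' * (u' * c))) := by rwa [← mul_assoc, hu'u', one_mul]
          simp only [(hkval i c).1 h1, (hkval i (u' * c)).2.1 h2, (hkval j (u' * c)).2.1 h2, hπu,
            map_mul, map_ofNat]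
          ring
        · simp only [(hkval i c).2.1 h1, (hkval j c).2.1 h1, (hkval i (u' * c)).1 h1, map_mul,
            map_ofNat]
          ring
      · rw [if_neg h]
        simp only [(hkval i c).2.2 h, (hkval j c).2.2 h,
          (hkval i (u' * c)).2.2 (by rwa [hπu]), (hkval j (u' * c)).2.2 (by rwa [hπu]),
          hLeven i _ h, hLeven j _ h, map_ofNat]
        ring)
    have hL := hLL i j
    rw [classInner, hCc, hs, Finset.sum_sub_distrib, ← Finset.mul_sum, ← Finset.mul_sum, hp]
    rw [classInner, inv_mul_eq_iff_eq_mul₀ hQ0] at hL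
    rw [hL]
    field_simp
    split_ifs <;> ring
  -- induction to `G`
  set T : Set G := {g | g ∈ C ∧ ¬ Odd (orderOf g)} with hT
  have hkT : ∀ j (c : C), (c : G) ∉ T → k j c = 0 := by
    intro j c hc
    simp only [hT, Set.mem_setOf_eq, c.2, true_and, not_not, Subgroup.orderOf_coe] at hc
    exact (hkval j c).1 hc
  have hTI : ∀ t : C, (t : G) ∈ T → ∀ x : G, x ∉ C → x⁻¹ * (t : G) * x ∉ T := by
    rintro t ⟨-, ht⟩ x hx ⟨hm, -⟩
    have h2 : 2 ∣ orderOf (t : G) := even_iff_two_dvd.1 (Nat.not_odd_iff_even.1 ht)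
    set r := orderOf (t : G) / 2
    have ho : orderOf ((t : G) ^ r) = 2 := orderOf_pow_orderOf_div (orderOf_pos _).ne' h2
    have hmem : ∀ y ∈ C, orderOf y = 2 → y = u := fun y hy hy2 =>
      congrArg Subtype.val (huniqC ⟨y, hy⟩ (by rw [Subgroup.orderOf_mk]; exact hy2))
    have h1 := hmem _ (C.pow_mem t.2 r) ho
    have h3 := hmem _ (C.pow_mem hm r) (by
      rw [show x⁻¹ * (t : G) * x = x⁻¹ * t * x⁻¹⁻¹ by rw [inv_inv], conj_pow, orderOf_conj_eq, ho])
    rw [show x⁻¹ * (t : G) * x = x⁻¹ * t * x⁻¹⁻¹ by rw [inv_inv], conj_pow, h1, inv_inv] at h3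
    apply hx
    refine Subgroup.mem_centralizer_singleton_iff.2 ?_
    calc x * u = x * (x⁻¹ * u * x) := by rw [h3]
      _ = u * x := by group
  let F : Fin 3 → G → ℂ := fun j => indFun C (k j)
  have hFg : ∀ j, IsGeneralizedCharacter G (F j) := fun j => IsGeneralizedCharacter.indFun C (hkg j)
  have hF0 : ∀ j g, Odd (orderOf g) → F j g = 0 := by
    intro j g hg
    simp only [F, indFun_apply]
    convert mul_zero _
    refine Finset.sum_eq_zero fun x _ => ?_
    by_cases hm : x⁻¹ * g * x ∈ C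
    · rw [extendByZero_of_mem _ _ hm]
      refine (hkval j _).1 ?_
      rw [Subgroup.orderOf_mk, show x⁻¹ * g * x = x⁻¹ * g * x⁻¹⁻¹ by rw [inv_inv], orderOf_conj_eq]
      exact hg
    · rw [extendByZero_of_not_mem _ _ hm]
  have huT : (u' : G) ∈ T := ⟨huC, by show ¬ Odd (orderOf u); rw [hu2]; norm_num⟩
  have hFu : ∀ j, F j u = 2 * L j 1 := by
    intro j
    show indFun C (k j) (u' : G) = _
    rw [indFun_eq_self C T (IsGeneralizedCharacter.isClassFunction (hkg j)) (hkT j) u'
      (hTI u' huT), (hkval j u').2.1 (by rw [hu'u', orderOf_one]; exact odd_one)]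
    rw [show π u' = 1 from (QuotientGroup.eq_one_iff u').2 (Subgroup.mem_zpowers u')]
  have hFF : ∀ i j, classInner (F i) (F j) = if i = j then 3 else 1 := by
    intro i j
    rw [← hkk i j]
    exact classInner_indFun_indFun_eq C T (IsGeneralizedCharacter.isClassFunction (hkg j)) (hkT j)
      (fun t ht => hTI t (by by_contra h; exact ht (hkT i t h)))
  have hF1 : ∀ j, classInner (F j) (fun _ => 1) = 1 := by
    intro j
    show classInner (indFun C (k j)) _ = 1
    rw [classInner_indFun C _ (fun _ _ => rfl)]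
    exact hk1 j
  choose α β a b hne hαt hβt ha hb hαF hβF hdec using fun j =>
    norm_three_decomp (hFg j) (by rw [hFF j j, if_pos rfl]) (hF1 j)
  have hA0 : ∀ χ : IrrCharacter G, (χ : G → ℂ) 1 ≠ 0 := fun χ =>
    IsIrrCharacter.apply_one_ne_zero χ.2
  have hdeg : ∀ j, 1 + (a j : ℂ) * (α j : G → ℂ) 1 + (b j : ℂ) * (β j : G → ℂ) 1 = 0 :=
    fun j => by rw [← hdec j 1]; exact hF0 j 1 (by simp)
  have ha0 : ∀ j, (a j : ℂ) ≠ 0 := fun j => Int.cast_ne_zero.2 (left_ne_zero_of_mul_eq_one (ha j))
  have hb0 : ∀ j, (b j : ℂ) ≠ 0 := fun j => Int.cast_ne_zero.2 (left_ne_zero_of_mul_eq_one (hb j))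
  -- different generalized characters have different constituents
  have hdisj : ∀ i j, i ≠ j →
      α i ≠ α j ∧ α i ≠ β j ∧ β i ≠ α j ∧ β i ≠ β j := by
    intro i j hij
    have hinner : classInner (F i) (F j) = 1 + (a i : ℂ) * classInner (α i : G → ℂ) (F j)
        + (b i : ℂ) * classInner (β i : G → ℂ) (F j) := by
      have e : F i = (fun _ => 1) + (a i : ℂ) • (α i : G → ℂ) + (b i : ℂ) • (β i : G → ℂ) := by
        funext g; simp [hdec i g]
      rw [e, classInner_add_left, classInner_add_left, classInner_smul_left, classInner_smul_left,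
        ← classInner_conj_symm (F j) (fun _ => 1), hF1, map_one]
    rw [hFF, if_neg hij] at hinner
    have hcj : ∀ χ : IrrCharacter G, classInner (χ : G → ℂ) (F j)
        = (if χ = α j then (a j : ℂ) else 0) + (if χ = β j then (b j : ℂ) else 0) +
          (if χ = trivIrr G then 1 else 0) := by
      intro χ
      have e : F j = (trivIrr G : G → ℂ) + (a j : ℂ) • (α j : G → ℂ) + (b j : ℂ) • (β j : G → ℂ) := by
        funext g; simp [hdec j g]
      rw [e, classInner_add_right, classInner_add_right, classInner_smul_right,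
        classInner_smul_right, classInner_irr, classInner_irr, classInner_irr, map_intCast,
        map_intCast]
      split_ifs <;> ring
    rw [hcj, hcj, if_neg (hαt i), if_neg (hβt i)] at hinner
    by_cases h1 : α i = α j
    · rw [if_pos h1, if_neg (h1 ▸ hne j), if_neg (fun h => hne i (h1.trans h.symm))] at hinner
      by_cases h2 : β i = β j
      · rw [if_pos h2] at hinner
        have hi := hdeg i; have hj := hdeg j
        rw [h1, h2] at hi
        exfalso
        rcases mul_self_eq_one_iff.1 (ha i) with a1 | a1 <;>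
          rcases mul_self_eq_one_iff.1 (ha j) with a2 | a2 <;>
          rcases mul_self_eq_one_iff.1 (hb i) with b1 | b1 <;>
          rcases mul_self_eq_one_iff.1 (hb j) with b2 | b2 <;>
          simp only [a1, a2, b1, b2, Int.cast_one, Int.cast_neg] at hi hj hinner <;>
          first
          | (norm_num at hinner; done)
          | exact hA0 (β j) (by linear_combination (hi - hj) / 2)
          | exact hA0 (β j) (by linear_combination (hj - hi) / 2)
          | exact hA0 (α j) (by linear_combination (hi - hj) / 2)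
          | exact hA0 (α j) (by linear_combination (hj - hi) / 2)
      · exfalso
        rw [if_neg h2] at hinner
        exact mul_ne_zero (ha0 i) (ha0 j) (by linear_combination -hinner)
    · by_cases h2 : α i = β j
      · exfalso
        rw [if_neg h1, if_pos h2, if_neg (fun h : β i = β j => hne i (h2.trans h.symm))] at hinner
        by_cases h3 : β i = α j
        · rw [if_pos h3] at hinner
          have hi := hdeg i; have hj := hdeg j
          rw [h2, h3] at hi
          rcases mul_self_eq_one_iff.1 (ha i) with a1 | a1 <;>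
            rcases mul_self_eq_one_iff.1 (ha j) with a2 | a2 <;>
            rcases mul_self_eq_one_iff.1 (hb i) with b1 | b1 <;>
            rcases mul_self_eq_one_iff.1 (hb j) with b2 | b2 <;>
            simp only [a1, a2, b1, b2, Int.cast_one, Int.cast_neg] at hi hj hinner <;>
            first
            | (norm_num at hinner; done)
            | exact hA0 (β j) (by linear_combination (hi - hj) / 2)
            | exact hA0 (β j) (by linear_combination (hj - hi) / 2)
            | exact hA0 (α j) (by linear_combination (hi - hj) / 2)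
            | exact hA0 (α j) (by linear_combination (hj - hi) / 2)
        · rw [if_neg h3] at hinner
          exact mul_ne_zero (ha0 i) (hb0 j) (by linear_combination -hinner)
      · rw [if_neg h1, if_neg h2] at hinner
        refine ⟨h1, h2, fun h => ?_, fun h => ?_⟩
        · rw [if_pos h, if_neg (h ▸ hne j)] at hinner
          exact mul_ne_zero (hb0 i) (ha0 j) (by linear_combination -hinner)
        · rw [if_pos h, if_neg (fun h' => hne j (h'.symm.trans h))] at hinner
          exact mul_ne_zero (hb0 i) (hb0 j) (by linear_combination -hinner)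
  haveI := Fintype.ofFinite (IrrCharacter G)
  have hB0 : ∀ j, α j ∈ principalBlock M G ∧ β j ∈ principalBlock M G := by
    intro j
    have h := finsum_block_classInner_mul_degree hM Lib.Blocks.isPBlock_principalBlock (F j)
      (fun g hg => hF0 j g (Nat.odd_iff.2 (Nat.two_dvd_ne_zero.1 hg)))
    rw [Lib.Blocks.finsum_irr_eq_sum_ite] at h
    have hterm : ∀ χ : IrrCharacter G, (if χ ∈ principalBlock M G then
        classInner (F j) (χ : G → ℂ) * (χ : G → ℂ) 1 else 0) =
        (if χ = trivIrr G then 1 else 0) +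
        (if χ = α j then (if α j ∈ principalBlock M G then (a j : ℂ) * (α j : G → ℂ) 1 else 0) else 0) +
        (if χ = β j then (if β j ∈ principalBlock M G then (b j : ℂ) * (β j : G → ℂ) 1 else 0) else 0) := by
      intro χ
      by_cases hχ1 : χ = trivIrr G
      · subst hχ1
        rw [if_pos (show trivIrr G ∈ principalBlock M G from
          Lib.Blocks.self_mem_blockOf (trivIrr G)), if_pos rfl, if_neg (hαt j).symm,
          if_neg (hβt j).symm]
        show classInner (F j) (fun _ => 1) * 1 = _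
        rw [hF1]; ring
      · by_cases hχa : χ = α j
        · subst hχa
          rw [if_neg hχ1, if_pos rfl, if_neg (hne j), hαF]; ring
        · by_cases hχb : χ = β j
          · subst hχb
            rw [if_neg hχ1, if_neg hχa, if_pos rfl, hβF]; ring
          · rw [if_neg hχ1, if_neg hχa, if_neg hχb]
            have e : F j = (trivIrr G : G → ℂ) + (a j : ℂ) • (α j : G → ℂ)
                + (b j : ℂ) • (β j : G → ℂ) := by funext g; simp [hdec j g]
            rw [e, classInner_add_left, classInner_add_left, classInner_smul_left,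
              classInner_smul_left, classInner_irr, classInner_irr, classInner_irr,
              if_neg (Ne.symm hχ1), if_neg (Ne.symm hχa), if_neg (Ne.symm hχb)]
            simp
    rw [Finset.sum_congr rfl fun χ _ => hterm χ, Finset.sum_add_distrib, Finset.sum_add_distrib,
      Finset.sum_ite_eq' Finset.univ, Finset.sum_ite_eq' Finset.univ,
      Finset.sum_ite_eq' Finset.univ] at h
    simp only [Finset.mem_univ, if_true] at h
    have hd := hdeg j
    constructor <;> by_contra hn <;> rw [if_neg hn] at h <;>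
      [skip; skip]
    · split_ifs at h
      · exact mul_ne_zero (ha0 j) (hA0 (α j)) (by linear_combination hd - h)
      · norm_num at h
    · split_ifs at h
      · exact mul_ne_zero (hb0 j) (hA0 (β j)) (by linear_combination hd - h)
      · norm_num at h
  -- integral values
  have hint : ∀ χ : IrrCharacter G, ∃ v d : ℤ, (χ : G → ℂ) u = v ∧ (χ : G → ℂ) 1 = d ∧
      (2 : ℤ) ∣ d - v := by
    intro χ
    obtain ⟨n, hn⟩ := half_sub_integral hu2 χ
    obtain ⟨d, hd⟩ := IsCharacter.exists_apply_one (irr_isCharacter χ)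
    refine ⟨(d : ℤ) - 2 * n, d, ?_, by rw [hd]; norm_num, ⟨n, by ring⟩⟩
    push_cast; rw [← hd]; linear_combination -hn
  choose v dg hv hdg hvd using hint
  choose z hz using fun j => IsCharacter.exists_apply_one (irr_isCharacter (ψ j))
  set Z : Fin 3 → ℤ := fun j => δ j * z j with hZ
  have hZsum : ∑ j, Z j = -1 := by
    have h := hrel' 1
    rw [if_pos (by simp)] at h
    have h' : ((∑ j, Z j : ℤ) : ℂ) = ((-1 : ℤ) : ℂ) := by
      push_cast [hZ]
      simp only [hz] at h
      linear_combination -h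
    exact_mod_cast h'
  have hab : ∀ j, a j * v (α j) + b j * v (β j) = 1 + 2 * Z j := by
    intro j
    have h := hdec j u
    rw [hFu, hv, hv] at h
    simp only [L, Pi.add_apply, Pi.smul_apply, smul_eq_mul, hz] at h
    have h' : ((a j * v (α j) + b j * v (β j) : ℤ) : ℂ) = ((1 + 2 * Z j : ℤ) : ℂ) := by
      push_cast [hZ]
      linear_combination -h
    exact_mod_cast h'
  -- the section bound
  haveI := Fintype.ofFinite (IrrCharacter C)
  haveI := Fintype.ofFinite (IrrCharacter (C ⧸ U))
  have hint' : ∀ η : IrrCharacter C, ∃ d : ℤ, (η : C → ℂ) 1 = d ∧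
      ((η : C → ℂ) u' = d ∨ (η : C → ℂ) u' = -d) := by
    intro η
    obtain ⟨d, hd⟩ := IsCharacter.exists_apply_one (irr_isCharacter η)
    refine ⟨d, by rw [hd]; norm_num, ?_⟩
    have h943 := Cfsg.Agent.S0943.result η u' u' (fun x y hx hy => by
      have hcu : ∀ r : C, r * u' * r⁻¹ = u' := fun r => by rw [hu'c, mul_inv_cancel_right]
      obtain ⟨r, rfl⟩ := isConj_iff.1 hx
      obtain ⟨r', rfl⟩ := isConj_iff.1 hy
      rw [hcu, hcu])
    rw [hu'u', hd] at h943
    rcases eq_or_eq_neg_of_sq_eq_sq ((η : C → ℂ) u') (d : ℂ)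
      (by rw [pow_two, pow_two, h943]) with h | h
    · exact Or.inl (by rw [h]; norm_num)
    · exact Or.inr (by rw [h]; norm_num)
  choose e1 he1 heu using hint'
  have hsec : ∑ χ : IrrCharacter G, (if χ ∈ principalBlock M G then v χ ^ 2 else 0)
      = ∑ η : IrrCharacter C, (if η ∈ principalBlock M C then e1 η ^ 2 else 0) := by
    have h := Lib.Blocks.sum_principal_section (G := G) (p := 2) hM (x := u)
      ⟨1, by rw [hu2, pow_one]⟩ (y := (1 : C)) (by simp)
    simp only [OneMemClass.coe_one, mul_one, hv, he1, map_intCast] at h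
    have h' : ((∑ χ : IrrCharacter G, (if χ ∈ principalBlock M G then v χ ^ 2 else 0) : ℤ) : ℂ)
        = ((∑ η : IrrCharacter C, (if η ∈ principalBlock M C then e1 η ^ 2 else 0) : ℤ) : ℂ) := by
      push_cast
      simp only [pow_two]
      convert h using 3
    exact_mod_cast h'
  set Bp := Finset.univ.filter (fun η : IrrCharacter C =>
    η ∈ principalBlock M C ∧ (η : C → ℂ) u' = (e1 η : ℂ)) with hBp
  have hplus : ∑ η : IrrCharacter C, (if η ∈ principalBlock M C then e1 η ^ 2 else 0)
      = 2 * ∑ η ∈ Bp, e1 η ^ 2 := by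
    have h := Cfsg.Agent.S0907.result 2 M hM _
      (Lib.Blocks.isPBlock_principalBlock (G := C)) 1 u' (by simp) (by rw [hu'2])
    rw [Lib.Blocks.finsum_irr_eq_sum_ite] at h
    have h0 : ((∑ η : IrrCharacter C, (if η ∈ principalBlock M C then
        (if (η : C → ℂ) u' = (e1 η : ℂ) then e1 η ^ 2 else -(e1 η ^ 2)) else 0) : ℤ) : ℂ)
        = ((0 : ℤ) : ℂ) := by
      push_cast
      refine Eq.trans (Finset.sum_congr rfl fun η _ => ?_) h
      split_ifs with hB hu
      · push_cast; rw [he1, hu, map_intCast]; ring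
      · push_cast; rw [he1, (heu η).resolve_left hu, map_neg, map_intCast]; ring
      · rfl
    have h0' : ∑ η : IrrCharacter C, (if η ∈ principalBlock M C then
        (if (η : C → ℂ) u' = (e1 η : ℂ) then e1 η ^ 2 else -(e1 η ^ 2)) else 0) = 0 := by
      exact_mod_cast h0
    rw [Finset.mul_sum, hBp, Finset.sum_filter]
    refine Eq.trans ((add_zero _).symm.trans (congrArg (HAdd.hAdd _) h0'.symm)) ?_
    rw [← Finset.sum_add_distrib]
    refine Finset.sum_congr rfl fun η _ => ?_
    by_cases hB : η ∈ principalBlock M C <;> by_cases hu : (η : C → ℂ) u' = (e1 η : ℂ) <;>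
      simp [hB, hu] <;> ring
  set BQ := insert (trivIrr (C ⧸ U)) (Finset.univ.image ψ) with hBQ
  let lift : IrrCharacter (C ⧸ U) → IrrCharacter C := fun ξ =>
    ⟨_, IsIrrCharacter.comp_surjective ξ.2 π (QuotientGroup.mk'_surjective U)⟩
  have hUp : IsPGroup 2 ↥U := IsPGroup.of_card (n := 1) (by
    rw [hU, Nat.card_zpowers, hu'2, pow_one])
  have hBpsub : Bp ⊆ BQ.image lift := by
    intro η hη
    obtain ⟨hηB, hηu⟩ := (Finset.mem_filter.1 hη).2
    obtain ⟨ξ, hξ, heq⟩ := IsIrrCharacter.exists_quotient η.2 U (fun w hw => by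
      rcases (hUmem w).1 hw with rfl | rfl
      · rfl
      · rw [hηu, he1])
    refine Finset.mem_image.2 ⟨⟨ξ, hξ⟩, ?_, Subtype.ext heq.symm⟩
    have hiff := Lib.Blocks.sameBlock_comp_mk_iff U hM hUp
      (fun x _ => Subgroup.mem_centralizer_iff.2 fun w hw => by
        rcases (hUmem w).1 hw with rfl | rfl
        · simp
        · exact (hu'c x).symm) (trivIrr (C ⧸ U)) ⟨ξ, hξ⟩
    have hmem : (⟨ξ, hξ⟩ : IrrCharacter (C ⧸ U)) ∈ principalBlock M (C ⧸ U) := by
      refine hiff.2 ?_
      show SameBlock M ((fun _ => (1 : ℂ)) ∘ π) (ξ ∘ π)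
      rw [← heq]
      exact hηB
    rw [hblk] at hmem
    rw [hBQ, Finset.mem_insert, Finset.mem_image]
    rcases hmem with h | h | h | h
    · exact Or.inl (Subtype.ext h)
    · exact Or.inr ⟨0, Finset.mem_univ _, h.symm⟩
    · exact Or.inr ⟨1, Finset.mem_univ _, h.symm⟩
    · exact Or.inr ⟨2, Finset.mem_univ _, h.symm⟩
  have hBpbound : ∑ η ∈ Bp, e1 η ^ 2 ≤ 1 + ∑ j, Z j ^ 2 := by
    have hlift : ∀ ξ (n : ℤ), (ξ : IrrCharacter (C ⧸ U)).1 1 = (n : ℂ) → e1 (lift ξ) = n := by
      intro ξ n h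
      have h2 := he1 (lift ξ)
      have h3 : ((lift ξ : IrrCharacter C) : C → ℂ) 1 = (n : ℂ) := by
        show (ξ : C ⧸ U → ℂ) (π 1) = _
        rw [map_one]; exact h
      exact_mod_cast h2.symm.trans h3
    refine (Finset.sum_le_sum_of_subset_of_nonneg hBpsub fun _ _ _ => sq_nonneg _).trans ?_
    refine (Finset.sum_image_le_of_nonneg fun _ _ => sq_nonneg _).trans ?_
    rw [hBQ, Finset.sum_insert (by
      simp only [Finset.mem_image, Finset.mem_univ, true_and, not_exists]
      intro j h
      exact hψne j (congrArg Subtype.val h)), Finset.sum_image (fun i _ j _ h => hψinj h),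
      hlift (trivIrr _) 1 (by simp), one_pow]
    refine add_le_add le_rfl (le_of_eq (Finset.sum_congr rfl fun j _ => ?_))
    rw [hlift (ψ j) (z j) (by rw [hz]; norm_num), hZ, mul_pow]
    have : δ j ^ 2 = 1 := by
      have := hδsq j
      rw [pow_two]; exact_mod_cast this
    rw [this, one_mul]
  have hlow : 1 + ∑ j, (v (α j) ^ 2 + v (β j) ^ 2)
      ≤ ∑ χ : IrrCharacter G, (if χ ∈ principalBlock M G then v χ ^ 2 else 0) := by
    let f : Fin 3 × Bool → IrrCharacter G := fun x => if x.2 then α x.1 else β x.1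
    have hfinj : Function.Injective f := by
      rintro ⟨i, x⟩ ⟨j, y⟩ h
      by_cases hij : i = j
      · subst hij
        cases x <;> cases y <;> simp [f] at h ⊢
        · exact hne i h.symm
        · exact hne i h
      · obtain ⟨h1, h2, h3, h4⟩ := hdisj i j hij
        cases x <;> cases y <;> simp [f, h1, h2, h3, h4] at h
    have hsub : insert (trivIrr G) (Finset.univ.image f) ⊆
        Finset.univ.filter (fun χ => χ ∈ principalBlock M G) := by
      intro χ hχ
      refine Finset.mem_filter.2 ⟨Finset.mem_univ _, ?_⟩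
      rcases Finset.mem_insert.1 hχ with rfl | h
      · exact Lib.Blocks.self_mem_blockOf (trivIrr G)
      · obtain ⟨⟨j, x⟩, -, rfl⟩ := Finset.mem_image.1 h
        cases x <;> simp [f, (hB0 j).1, (hB0 j).2]
    rw [← Finset.sum_filter]
    refine le_trans (le_of_eq ?_) (Finset.sum_le_sum_of_subset_of_nonneg hsub
      fun _ _ _ => sq_nonneg _)
    rw [Finset.sum_insert (by
      simp only [Finset.mem_image, Finset.mem_univ, true_and, not_exists]
      rintro ⟨j, x⟩ h
      cases x <;> simp [f] at h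
      · exact hβt j h
      · exact hαt j h), Finset.sum_image (fun i _ j _ h => hfinj h), Fintype.sum_prod_type]
    have hv1 : v (trivIrr G) = 1 := by
      have := hv (trivIrr G)
      rw [trivIrr_apply] at this
      exact_mod_cast this.symm
    rw [hv1, one_pow]
    congr 1
    refine Finset.sum_congr rfl fun j _ => ?_
    simp [f]
  -- conclusion
  set D : Fin 3 → ℤ := fun j => a j * v (α j) - b j * v (β j) with hD
  have hDodd : ∀ j, Odd (D j) := fun j =>
    ⟨Z j - b j * v (β j), by rw [hD]; linarith [hab j]⟩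
  have hD1 : ∀ j, 1 ≤ D j ^ 2 := fun j => by
    have : D j ≠ 0 := fun h => by have := hDodd j; rw [h] at this; norm_num at this
    have := sq_pos_of_ne_zero this
    omega
  have hsumD : ∑ j, D j ^ 2 ≤ 3 := by
    have hsq : ∀ j, 2 * (v (α j) ^ 2 + v (β j) ^ 2) = (1 + 2 * Z j) ^ 2 + D j ^ 2 := by
      intro j
      have : v (α j) ^ 2 = (a j * v (α j)) ^ 2 := by rw [mul_pow, pow_two (a j), ha, one_mul]
      rw [this]
      have : v (β j) ^ 2 = (b j * v (β j)) ^ 2 := by rw [mul_pow, pow_two (b j), hb, one_mul]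
      rw [this, hD, ← hab j]
      ring
    have hle : 1 + ∑ j, (v (α j) ^ 2 + v (β j) ^ 2) ≤ 2 * (1 + ∑ j, Z j ^ 2) := by
      calc _ ≤ _ := hlow
        _ = _ := hsec
        _ = _ := hplus
        _ ≤ _ := by linarith
    simp only [Fin.sum_univ_three] at hle hZsum ⊢
    nlinarith [hsq 0, hsq 1, hsq 2]
  have hD0 : D 0 ^ 2 = 1 := by
    simp only [Fin.sum_univ_three] at hsumD
    have := hD1 1; have := hD1 2; have := hD1 0
    omega
  have e3 := product_equation hu (fun g hg => hF0 0 g hg) (hdec 0)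
  have hA := mul_ne_zero (ha0 0) (hA0 (α 0))
  have hBn := mul_ne_zero (hb0 0) (hA0 (β 0))
  have haa : (a 0 : ℂ) * a 0 = 1 := by exact_mod_cast ha 0
  have hbb : (b 0 : ℂ) * b 0 = 1 := by exact_mod_cast hb 0
  have q1 : (a 0 : ℂ) * (α 0 : G → ℂ) u * ((a 0 : ℂ) * (α 0 : G → ℂ) u) /
      ((a 0 : ℂ) * (α 0 : G → ℂ) 1)
      = (a 0 : ℂ) * ((α 0 : G → ℂ) u * (α 0 : G → ℂ) u / (α 0 : G → ℂ) 1) := by
    field_simp [ha0 0]
  have q2 : (b 0 : ℂ) * (β 0 : G → ℂ) u * ((b 0 : ℂ) * (β 0 : G → ℂ) u) /
      ((b 0 : ℂ) * (β 0 : G → ℂ) 1)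
      = (b 0 : ℂ) * ((β 0 : G → ℂ) u * (β 0 : G → ℂ) u / (β 0 : G → ℂ) 1) := by
    field_simp [hb0 0]
  rcases sq_eq_one_iff.1 hD0 with hd | hd
  · -- the second constituent
    refine ⟨β 0, hβt 0, mul_left_cancel₀ (hb0 0) (eq_of_equations hBn hA
      (b := (a 0 : ℂ) * (α 0 : G → ℂ) u) (B := (a 0 : ℂ) * (α 0 : G → ℂ) 1)
      (by linear_combination hdeg 0) ?_ (Or.inl ?_))⟩
    · rw [q1, q2]; linear_combination e3
    · rw [hv, hv]
      have h' : a 0 * v (α 0) = 1 + b 0 * v (β 0) := by rw [hD] at hd; linarith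
      exact_mod_cast h'
  · refine ⟨α 0, hαt 0, mul_left_cancel₀ (ha0 0) (eq_of_equations hA hBn
      (b := (b 0 : ℂ) * (β 0 : G → ℂ) u) (B := (b 0 : ℂ) * (β 0 : G → ℂ) 1)
      (by linear_combination hdeg 0) ?_ (Or.inl ?_))⟩
    · rw [q1, q2]; linear_combination e3
    · rw [hv, hv]
      have h' : b 0 * v (β 0) = 1 + a 0 * v (α 0) := by rw [hD] at hd; linarith
      exact_mod_cast h'

end Cfsg.Agent.Lib.InvChar
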