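import Mathlib
import Cfsg.Prelude
import Cfsg.Agent.Lib.InvChar.ZStarChar
import Cfsg.Agent.Lib.InvChar.BrauerSuzukiBig
import Cfsg.Agent.Lib.InvChar.QuaternionEight
import Cfsg.Agent.Lib.Frobenius.UniqueSubgroup
import Cfsg.Agent.S1181

/-!
# Glauberman's `Z*`-theorem for the prime two
-/

set_option autoImplicit false

namespace Cfsg.Agent.Lib.InvChar

open Cfsg Cfsg.Agent.Lib.Characters Cfsg.Agent.Lib.Involutions

universe u

/-- There is no minimal counterexample to the `Z*`-theorem. -/
theorem not_isMinimalZStar {G : Type u} [Group G] [Finite G] {x : G}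
    (hmin : Lib.LocalEven2.IsMinimalZStar 2 x) : False := by
  classical
  have : Fact (Nat.Prime 2) := ⟨Nat.prime_two⟩
  haveI := Fintype.ofFinite G
  have hiso : IsIsolatedInvolution x := ⟨hmin.order, hmin.iso⟩
  have hkill : ∀ χ : IrrCharacter G, χ ≠ trivIrr G → (χ : G → ℂ) x ≠ (χ : G → ℂ) 1 := by
    intro χ hne hk
    set N := charKernel (irr_isCharacter χ)
    have hxN : x ∈ N := hk
    have hNne : N ≠ ⊥ := fun h => hmin.ne_one (Subgroup.mem_bot.1 (h ▸ hxN))
    have htop := hmin.sup_zpowers_eq_top hNne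
    rw [sup_eq_left.2 (Subgroup.zpowers_le.2 hxN)] at htop
    obtain ⟨w, hw⟩ := IsIrrCharacter.exists_ne_apply_one χ.2
      (fun h => hne (Subtype.ext h))
    exact hw (show w ∈ N from htop ▸ Subgroup.mem_top w)
  obtain ⟨S, hS⟩ := (Lib.LocalEven2.isPGroup_zpowers (p := 2) hmin.exists_order).exists_le_sylow
  have hxS : x ∈ S := hS (Subgroup.mem_zpowers x)
  have hSC : ∀ s ∈ S, Commute s x := fun s hs =>
    mul_inv_eq_iff_eq_mul.1 (eq_of_conj_mem hiso S.2 hxS (mul_mem (mul_mem hs hxS) (inv_mem hs)))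
  have huniq : ∀ t ∈ S, orderOf t = 2 → t = x := by
    intro t ht ht2
    by_contra hne
    exact no_other_involution_of_minimal hmin ht2 hne (hSC t ht).symm
  -- no normal complement
  have hnc : ∀ N : Subgroup G, N.Normal → ¬ Subgroup.IsComplement' N (S : Subgroup G) := by
    intro N hN hcompl
    have hodd : (Nat.card N).Coprime 2 := by
      rw [← hcompl.index_eq_card]
      exact (Nat.prime_two.coprime_iff_not_dvd.2 S.not_dvd_index).symm
    have hbot : N = ⊥ := le_bot_iff.1 (hmin.pPrimeCore_eq_bot ▸ Lib.Cores.le_pPrimeCore hN hodd)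
    have htop : (S : Subgroup G) = ⊤ := by
      have := hcompl.sup_eq_top
      rwa [hbot, bot_sup_eq] at this
    obtain ⟨g, hg⟩ := hmin.not_central
    apply hg
    have hgS : g ∈ (S : Subgroup G) := htop ▸ Subgroup.mem_top g
    rw [(hSC g hgS).eq, mul_inv_cancel_right]
  rcases Lib.Frobenius.isCyclic_or_quaternion_of_unique (P := (S : Subgroup G)) (p := 2) S.2
    (fun a b ha hb => by
      have h1 := huniq a a.2 (by rw [Subgroup.orderOf_coe, ha])
      have h2 := huniq b b.2 (by rw [Subgroup.orderOf_coe, hb])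
      rw [show a = b from Subtype.ext (h1.trans h2.symm)]
      exact Subgroup.mem_zpowers b) with hcyc | ⟨-, m, ⟨e⟩⟩
  · have h2 : 2 ∣ Nat.card G := hmin.order ▸ orderOf_dvd_natCard x
    have hNC := hcyc.normalizer_le_centralizer ((Nat.minFac_eq_two_iff _).2 h2)
    exact hnc _ inferInstance (MonoidHom.ker_transferSylow_isComplement' S hNC)
  rcases m with _ | k
  · obtain ⟨χ, hne, hk⟩ := exists_char_q8 S e x hxS hiso hnc
    exact hkill χ hne hk
  · have hne0 : (2 ^ (k + 1 + 1) : ℕ) ≠ 0 := by positivity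
    have : NeZero (2 ^ (k + 1 + 1) : ℕ) := ⟨hne0⟩
    set n := 2 ^ (k + 1 + 1) with hn
    have hval : ∀ j : ℕ, j < 2 * n → ((j : ZMod (2 * n)) = 0 ↔ j = 0) := by
      intro j hj
      rw [ZMod.natCast_eq_zero_iff]
      exact ⟨fun h => Nat.eq_zero_of_dvd_of_lt h hj, fun h => h ▸ dvd_zero _⟩
    set a : G := ((e.symm (QuaternionGroup.a 1)) : G) with ha
    set s : G := ((e.symm (QuaternionGroup.xa 0)) : G) with hs
    have hord : orderOf a = 2 ^ (k + 3) := by
      rw [ha, Subgroup.orderOf_coe, e.symm.orderOf_eq, QuaternionGroup.orderOf_a_one, hn]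
      ring
    have hcoe : ∀ q : QuaternionGroup n, ∀ j : ℕ, ((e.symm q : (S : Subgroup G)) : G) ^ j
        = ((e.symm (q ^ j) : (S : Subgroup G)) : G) := fun q j => by
      rw [map_pow, SubmonoidClass.coe_pow]
    suffices H : x = a ^ (2 ^ (k + 2)) ∧ s * a * s⁻¹ = a⁻¹ ∧
        (∀ t ∈ S, Commute t (a ^ (2 ^ (k + 1))) → t ∈ Subgroup.zpowers a) ∧
        (∀ t ∈ S, orderOf t = 2 ^ (k + 3) → t ∈ Subgroup.zpowers a) by
      obtain ⟨χ, hne, hk⟩ := exists_char_big S k a s x (e.symm _).2 (e.symm _).2 hord H.1 hiso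
        H.2.1 H.2.2.1 H.2.2.2
      exact hkill χ hne hk
    refine ⟨?_, ?_, ?_, ?_⟩
    · symm
      refine huniq _ (pow_mem (e.symm _).2 _) ?_
      rw [orderOf_pow' _ (by positivity), hord, Nat.gcd_eq_right (pow_dvd_pow 2 (by omega)),
        Nat.pow_div (by omega) (by norm_num), show k + 3 - (k + 2) = 1 by omega, pow_one]
    · rw [ha, hs, ← Subgroup.coe_inv, ← Subgroup.coe_inv, ← Subgroup.coe_mul, ← Subgroup.coe_mul,
        ← map_inv, ← map_inv, ← map_mul, ← map_mul]
      congr 2
      rw [mul_inv_eq_iff_eq_mul, show ((QuaternionGroup.a 1 : QuaternionGroup n))⁻¹ =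
        QuaternionGroup.a (-1) from rfl, QuaternionGroup.xa_mul_a, QuaternionGroup.a_mul_xa]
      simp
    · intro t ht hcomm
      rcases hq : e ⟨t, ht⟩ with i | i
      · refine ⟨(i.val : ℤ), ?_⟩
        show a ^ (i.val : ℤ) = t
        rw [zpow_natCast, ha, hcoe, QuaternionGroup.a_one_pow, ZMod.natCast_zmod_val, ← hq,
          MulEquiv.symm_apply_apply]
      · exfalso
        have h : e (⟨t, ht⟩ * e.symm (QuaternionGroup.a 1) ^ (2 ^ (k + 1)))
            = e (e.symm (QuaternionGroup.a 1) ^ (2 ^ (k + 1)) * ⟨t, ht⟩) :=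
          congrArg e (Subtype.ext hcomm.eq)
        rw [map_mul, map_mul, map_pow, MulEquiv.apply_symm_apply, hq, QuaternionGroup.a_one_pow,
          QuaternionGroup.xa_mul_a, QuaternionGroup.a_mul_xa, QuaternionGroup.xa.injEq] at h
        have h2 : ((2 ^ (k + 2) : ℕ) : ZMod (2 * n)) = 0 := by
          rw [show 2 ^ (k + 2) = 2 ^ (k + 1) + 2 ^ (k + 1) by ring, Nat.cast_add]
          linear_combination h
        rw [hval _ (by rw [hn]; ring_nf; have := Nat.one_le_two_pow (n := k); omega)] at h2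
        exact absurd h2 (by positivity)
    · intro t ht ho
      rcases hq : e ⟨t, ht⟩ with i | i
      · refine ⟨(i.val : ℤ), ?_⟩
        show a ^ (i.val : ℤ) = t
        rw [zpow_natCast, ha, hcoe, QuaternionGroup.a_one_pow, ZMod.natCast_zmod_val, ← hq,
          MulEquiv.symm_apply_apply]
      · exfalso
        have h4 : orderOf (e ⟨t, ht⟩) = 4 := by rw [hq, QuaternionGroup.orderOf_xa]
        rw [e.orderOf_eq, Subgroup.orderOf_mk, ho] at h4
        have : 2 ^ 3 ≤ 2 ^ (k + 3) := Nat.pow_le_pow_right (by norm_num) (by omega)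
        omega

/-- **Glauberman's `Z*`-theorem**: an isolated involution is central modulo the largest normal
subgroup of odd order. -/
theorem inZStar_of_isIsolated {G : Type u} [Group G] [Finite G] {x : G} (hx : orderOf x = 2)
    (hiso : IsIsolated x) : InZStar 2 x := by
  classical
  induction h : Nat.card G using Nat.strong_induction_on generalizing G with
  | _ n ih =>
    subst h
    by_contra hnot
    refine not_isMinimalZStar (G := G) (x := x) ⟨hx, hiso, hnot, ?_, ?_⟩
    · intro H hxH hne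
      refine ih (Nat.card H) ?_ (by rw [Subgroup.orderOf_mk]; exact hx) ?_ rfl
      · refine lt_of_le_of_ne (Subgroup.card_le_card_group H) fun h => hne ?_
        exact Subgroup.eq_top_of_card_eq H h
      · intro g hc
        exact Subtype.ext (hiso g (congrArg Subtype.val hc.eq))
    · intro N _ hne
      have hlt : Nat.card (G ⧸ N) < Nat.card G := by
        rw [Subgroup.card_eq_card_quotient_mul_card_subgroup N]
        refine lt_mul_of_one_lt_right Nat.card_pos ?_
        exact Subgroup.one_lt_card_iff_ne_bot _ |>.2 hne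
      by_cases hxN : x ∈ N
      · intro g
        rw [(QuotientGroup.eq_one_iff x).2 hxN]
        simp [Subgroup.one_mem]
      · obtain ⟨-, h2, h3⟩ := Cfsg.Agent.S1181.result x ⟨hx, hiso⟩ N hxN
        exact ih _ hlt h2 h3 rfl

end Cfsg.Agent.Lib.InvChar
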