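import Mathlib
import Cfsg.Prelude
import Cfsg.Agent.Lib.Characters

/-!
# Degrees prime to `p` in solvable groups
-/

set_option autoImplicit false
set_option linter.unusedSectionVars false
set_option linter.style.haveILetI false

namespace Cfsg.Agent.Lib.InvChar.ItoMichler

open Cfsg Cfsg.Agent.Lib.Characters

universe u

/-- Every constituent degree of a normal subgroup divides a degree of the group, with the orbit. -/
theorem exists_over {G : Type u} [Group G] [Finite G] (M : Subgroup G) [M.Normal]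
    (θ : IrrCharacter M) :
    ∃ χ : IrrCharacter G, ∃ d e : ℕ, (θ : M → ℂ) 1 = (d : ℂ) ∧
      (χ : G → ℂ) 1 = ((e * (inertia M (θ : M → ℂ)).index * d : ℕ) : ℂ) := by
  classical
  haveI := Fintype.ofFinite G
  haveI := Fintype.ofFinite M
  obtain ⟨d, hd, hd'⟩ := IsIrrCharacter.exists_apply_one θ.2
  have hne : indFun M (θ : M → ℂ) ≠ 0 := by
    intro h
    have h1 := congrFun h 1
    rw [indFun_one, hd', Pi.zero_apply] at h1
    exact mul_ne_zero (Nat.cast_ne_zero.mpr Subgroup.index_ne_zero_of_finite)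
      (Nat.cast_ne_zero.mpr hd.ne') h1
  obtain ⟨χ, hχ⟩ := IsCharacter.exists_constituent
    (IsCharacter.indFun M (irr_isCharacter θ)) hne
  have hres : classInner (fun n : M => (χ : G → ℂ) n) (θ : M → ℂ) ≠ 0 := by
    intro h0
    apply hχ
    rw [classInner_indFun M _ (irr_isClassFunction χ), ← classInner_conj_symm, h0, map_zero]
  obtain ⟨e, he⟩ := IsCharacter.exists_classInner_nat
    (IsCharacter.restrict (irr_isCharacter χ) M) (irr_isCharacter θ)
  have h := degree_eq M χ.2 θ.2 hres
  rw [he, hd'] at h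
  exact ⟨χ, d, e, hd', by rw [h]; push_cast; ring⟩

theorem charDegree_eq {G : Type u} [Group G] {χ : G → ℂ} {d : ℕ} (h : χ 1 = (d : ℂ)) :
    charDegree χ = d := by
  rw [charDegree, h, Complex.natCast_re, Nat.floor_natCast]

theorem not_dvd_subgroup {G : Type u} [Group G] [Finite G] {p : ℕ}
    (hdeg : ∀ χ : IrrCharacter G, ¬ p ∣ charDegree (χ : G → ℂ)) (M : Subgroup G) [M.Normal]
    (θ : IrrCharacter M) :
    ¬ p ∣ charDegree (θ : M → ℂ) ∧ ¬ p ∣ (inertia M (θ : M → ℂ)).index := by
  obtain ⟨χ, d, e, hd, hχ⟩ := exists_over M θ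
  have h := hdeg χ
  rw [charDegree_eq hχ] at h
  rw [charDegree_eq hd]
  exact ⟨fun h' => h (h'.mul_left _), fun h' => h ((h'.mul_left _).mul_right _)⟩

theorem exists_normal_qGroup {G : Type u} [Group G] [Finite G] (hsolv : Group.IsSolvable G)
    (hnt : Nontrivial G) :
    ∃ (q : ℕ) (N : Subgroup G), q.Prime ∧ N.Normal ∧ N ≠ ⊥ ∧ IsPGroup q N ∧
      ∀ a ∈ N, ∀ b ∈ N, a * b = b * a := by
  classical
  obtain ⟨k, hk⟩ := hsolv.solvable
  have hex : ∃ k, derivedSeries G k = ⊥ := ⟨k, hk⟩
  have h0 : Nat.find hex ≠ 0 := by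
    intro h
    have := Nat.find_spec hex
    rw [h, derivedSeries_zero] at this
    exact top_ne_bot this
  obtain ⟨j, hj⟩ := Nat.exists_eq_succ_of_ne_zero h0
  set A := derivedSeries G j with hA
  have hne : A ≠ ⊥ := fun h => Nat.find_min hex (by omega) h
  have hcomm : ∀ a ∈ A, ∀ b ∈ A, a * b = b * a := by
    intro a ha b hb
    have := Nat.find_spec hex
    rw [hj, derivedSeries_succ, ← hA] at this
    have hc : a * b * a⁻¹ * b⁻¹ ∈ ⁅A, A⁆ := Subgroup.commutator_mem_commutator ha hb
    rw [this, Subgroup.mem_bot, mul_inv_eq_one, mul_inv_eq_iff_eq_mul] at hc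
    exact hc
  set q := (Nat.card A).minFac with hq
  have hqp : q.Prime := Nat.minFac_prime (fun h => hne (Subgroup.eq_bot_of_card_eq A h))
  haveI := Fact.mk hqp
  haveI : A.Normal := derivedSeries_normal G j
  let N : Subgroup G :=
    { carrier := {a | a ∈ A ∧ a ^ q = 1}
      one_mem' := ⟨one_mem _, one_pow _⟩
      mul_mem' := fun {a b} ha hb => ⟨mul_mem ha.1 hb.1, by
        rw [Commute.mul_pow (hcomm a ha.1 b hb.1), ha.2, hb.2, one_mul]⟩
      inv_mem' := fun {a} ha => ⟨inv_mem ha.1, by rw [inv_pow, ha.2, inv_one]⟩ }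
  refine ⟨q, N, hqp, ⟨fun a ha g => ⟨Subgroup.Normal.conj_mem inferInstance a ha.1 g, ?_⟩⟩, ?_, ?_,
    fun a ha b hb => hcomm a ha.1 b hb.1⟩
  · rw [conj_pow, ha.2, mul_one, mul_inv_cancel]
  · obtain ⟨a, ha⟩ := exists_prime_orderOf_dvd_card' (G := A) q (Nat.minFac_dvd _)
    intro h
    have hmem : (a : G) ∈ N := ⟨a.2, by
      rw [← Subgroup.coe_pow, ← ha, pow_orderOf_eq_one, Subgroup.coe_one]⟩
    rw [h, Subgroup.mem_bot] at hmem
    have ha1 : a = 1 := Subtype.ext hmem
    rw [ha1, orderOf_one] at ha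
    exact hqp.one_lt.ne ha
  · exact fun a => ⟨1, Subtype.ext (by rw [pow_one]; exact a.2.2)⟩

theorem normal_aux {p : ℕ} [Fact p.Prime] (n : ℕ) : ∀ (G : Type u) [Group G] [Finite G],
    Nat.card G ≤ n → Group.IsSolvable G →
    (∀ χ : IrrCharacter G, ¬ p ∣ charDegree (χ : G → ℂ)) → ∀ P : Sylow p G,
      (P : Subgroup G).Normal := by
  induction n with
  | zero =>
    intro G _ _ hn
    exact absurd hn (Nat.not_le.2 Nat.card_pos)
  | succ n IH =>
    intro G _ _ hn hsolv hdeg P
    rcases subsingleton_or_nontrivial G with hG | hG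
    · rw [Subsingleton.elim (P : Subgroup G) ⊥]
      infer_instance
    obtain ⟨q, N, hq, hNn, hNne, hNq, hNc⟩ := exists_normal_qGroup hsolv hG
    haveI := hNn
    have hcardN : 1 < Nat.card N := by
      by_contra h
      exact hNne (Subgroup.eq_bot_of_card_le N (not_lt.1 h))
    have hlt : Nat.card (G ⧸ N) ≤ n := by
      have h := Subgroup.card_eq_card_quotient_mul_card_subgroup N
      have : Nat.card (G ⧸ N) * 2 ≤ Nat.card G := by rw [h]; exact Nat.mul_le_mul_left _ hcardN
      have : 0 < Nat.card (G ⧸ N) := Nat.card_pos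
      omega
    haveI := hsolv
    have hQ := IH (G ⧸ N) hlt inferInstance (fun ψ => by
        have h := hdeg ⟨_, IsIrrCharacter.comp_surjective ψ.2 (QuotientGroup.mk' N)
          (QuotientGroup.mk'_surjective N)⟩
        intro h'
        refine h ?_
        show p ∣ ⌊((ψ : G ⧸ N → ℂ) (QuotientGroup.mk' N 1)).re⌋₊
        rw [map_one]
        exact h')
      (P.mapSurjective (QuotientGroup.mk'_surjective N))
    have hK : ((P : Subgroup G) ⊔ N).Normal := by
      have := hQ.comap (QuotientGroup.mk' N)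
      rwa [Sylow.coe_mapSurjective, Subgroup.comap_map_eq, QuotientGroup.ker_mk'] at this
    haveI := hK
    by_cases hqp : q = p
    · have : (P : Subgroup G) ⊔ N = P := by
        refine P.is_maximal' ?_ le_sup_left
        exact IsPGroup.to_sup_of_normal_right P.isPGroup' (hqp ▸ hNq)
      rwa [this] at hK
    by_cases htop : (P : Subgroup G) ⊔ N = ⊤
    · have hfix : ∀ θ : IrrCharacter N, inertia N (θ : N → ℂ) = ⊤ := by
        intro θ
        have h1 := (not_dvd_subgroup hdeg N θ).2
        have h2 : (inertia N (θ : N → ℂ)).index ∣ N.index :=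
          Subgroup.index_dvd_of_le (le_inertia N (irr_isClassFunction θ))
        have h3 : N.index ∣ Nat.card (P : Subgroup G) := by
          have h4 := Subgroup.relIndex_sup_right (H := (P : Subgroup G)) (K := N)
          rw [htop, Subgroup.relIndex_top_right] at h4
          rw [h4]
          exact Subgroup.relIndex_dvd_card N (P : Subgroup G)
        obtain ⟨k, hk⟩ := IsPGroup.iff_card.1 P.isPGroup'
        rw [hk] at h3
        obtain ⟨i, -, hi⟩ := (Nat.dvd_prime_pow Fact.out).1 (h2.trans h3)
        rcases Nat.eq_zero_or_pos i with h | h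
        · exact Subgroup.index_eq_one.1 (by rw [hi, h, pow_zero])
        · exact absurd (hi ▸ dvd_pow_self p h.ne') h1
      have hcent : ∀ (g : G) (x : N), g * x * g⁻¹ = x := by
        intro g x
        have hmem : g * x * g⁻¹ ∈ N := hNn.conj_mem _ x.2 g
        have hconj : IsConj (⟨g * x * g⁻¹, hmem⟩ : N) x := by
          refine (isConj_iff_forall_irr _ _).2 fun θ => ?_
          have hg : g ∈ inertia N (θ : N → ℂ) := by rw [hfix θ]; trivial
          exact congrFun ((mem_inertia_iff N).1 hg) x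
        obtain ⟨c, hc⟩ := isConj_iff.1 hconj
        have hc' : c * (⟨g * x * g⁻¹, hmem⟩ : N) * c⁻¹ = ⟨g * x * g⁻¹, hmem⟩ := by
          rw [Subtype.ext (hNc _ c.2 _ hmem) (a1 := c * (⟨g * x * g⁻¹, hmem⟩ : N))
            (a2 := (⟨g * x * g⁻¹, hmem⟩ : N) * c), mul_inv_cancel_right]
        rw [hc'] at hc
        exact congrArg Subtype.val hc
      refine Subgroup.normalizer_eq_top_iff.1 (top_le_iff.1 ?_)
      rw [← htop]
      refine sup_le Subgroup.le_normalizer fun x hx => ?_
      rw [Subgroup.mem_normalizer_iff]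
      intro h
      have : x * h * x⁻¹ = h := by
        have h6 := hcent h ⟨x, hx⟩
        simp only at h6
        rw [mul_inv_eq_iff_eq_mul] at h6 ⊢
        exact h6.symm
      rw [this]
    · have hlt' : Nat.card ((P : Subgroup G) ⊔ N : Subgroup G) ≤ n := by
        have : Nat.card ((P : Subgroup G) ⊔ N : Subgroup G) < Nat.card G :=
          lt_of_le_of_ne (Subgroup.card_le_card_group _) fun h =>
            htop ((Subgroup.card_eq_iff_eq_top _).1 h)
        omega
      set K := (P : Subgroup G) ⊔ N with hKdef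
      have hPK : (P : Subgroup G) ≤ K := le_sup_left
      have hn' := IH K hlt' inferInstance (fun θ => (not_dvd_subgroup hdeg K θ).1) (P.subtype hPK)
      haveI := Sylow.characteristic_of_normal _ hn'
      have hmap : (((P.subtype hPK : Sylow p K) : Subgroup K).map K.subtype).Normal := inferInstance
      have heq : ((P.subtype hPK : Sylow p K) : Subgroup K).map K.subtype = (P : Subgroup G) :=
        Subgroup.map_subgroupOf_eq_of_le hPK
      rwa [heq] at hmap

end Cfsg.Agent.Lib.InvChar.ItoMichler
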