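import Mathlib
import Cfsg.Agent.Lib.Cores.Residual
import Cfsg.Agent.Lib.Solvable.Nilpotent

/-!
Odd-order elements and subgroups relative to normal `2`-subgroups and complements.
-/

set_option autoImplicit false

namespace Cfsg.Agent.Lib.InvChar

variable {G : Type*} [Group G] [Finite G]

theorem mem_pPrimeCore_of_coprime {p : ℕ} [Fact p.Prime] (h : Cfsg.HasNormalPComplement p G) {g : G}
    (hg : Nat.Coprime (orderOf g) p) : g ∈ Cfsg.pPrimeCore p G := by
  have hq := Cfsg.Agent.Lib.Cores.hasNormalPComplement_iff_pPrimeCore.mp h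
  obtain ⟨k, hk⟩ := IsPGroup.iff_orderOf.mp hq (QuotientGroup.mk g)
  have h1 : orderOf (QuotientGroup.mk g : G ⧸ Cfsg.pPrimeCore p G) = 1 :=
    Nat.eq_one_of_dvd_coprimes (hg.pow_right k) (orderOf_map_dvd (QuotientGroup.mk' _) g) (hk ▸ dvd_rfl)
  exact (QuotientGroup.eq_one_iff g).mp (orderOf_eq_one_iff.mp h1)

theorem eq_one_of_isPGroup_of_odd {Y : Subgroup G} (hY : IsPGroup 2 ↥Y) {x : G} (hx : x ∈ Y)
    (ho : Odd (orderOf x)) : x = 1 := by
  obtain ⟨k, hk⟩ := IsPGroup.iff_orderOf.mp hY ⟨x, hx⟩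
  rw [Subgroup.orderOf_mk] at hk
  rcases k with _ | k
  · rwa [pow_zero, orderOf_eq_one_iff] at hk
  · rw [hk] at ho
    exact absurd ho (Nat.not_odd_iff_even.mpr ⟨2 ^ k, by ring⟩)

theorem odd_orderOf_of_mem {X : Subgroup G} (hX : Odd (Nat.card ↥X)) {x : G} (hx : x ∈ X) :
    Odd (orderOf x) :=
  hX.of_dvd_nat (Subgroup.orderOf_dvd_natCard _ hx)

theorem odd_normal_le {N X : Subgroup G} [N.Normal] (hN : Odd (Nat.card ↥N)) (hXi : ∃ k : ℕ, X.index = 2 ^ k) :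
    N ≤ X := by
  obtain ⟨k, hk⟩ := hXi
  refine le_sup_right.trans (Subgroup.relIndex_eq_one.mp (?_ : X.relIndex (X ⊔ N) = 1))
  have h1 : X.relIndex (X ⊔ N) ∣ 2 ^ k := hk ▸ Subgroup.relIndex_dvd_index_of_le le_sup_left
  have h2 : X.relIndex (X ⊔ N) ∣ Nat.card ↥N := by
    have hc1 := Subgroup.card_mul_index (X.subgroupOf (X ⊔ N))
    have hc2 := Subgroup.card_mul_index (N.subgroupOf (X ⊔ N))
    have hc3 := Subgroup.card_mul_index (N.subgroupOf X)
    rw [Nat.card_congr (Subgroup.subgroupOfEquivOfLe (le_sup_left : X ≤ X ⊔ N)).toEquiv] at hc1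
    rw [Nat.card_congr (Subgroup.subgroupOfEquivOfLe (le_sup_right : N ≤ X ⊔ N)).toEquiv] at hc2
    have h3 : (N.subgroupOf (X ⊔ N)).index = (N.subgroupOf X).index := Subgroup.relIndex_sup_right X N
    rw [h3] at hc2
    refine ⟨Nat.card ↥(N.subgroupOf X), ?_⟩
    have hpos : 0 < (N.subgroupOf X).index := Nat.pos_of_ne_zero Subgroup.index_ne_zero_of_finite
    refine Nat.eq_of_mul_eq_mul_right hpos ?_
    rw [hc2, ← hc1, mul_assoc, hc3]
    exact mul_comm _ _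
  exact Nat.eq_one_of_dvd_coprimes ((Nat.coprime_two_right.mpr hN).pow_right k) h2 h1

/-- An involution normalising a nontrivial `2`-group fixes an involution of it. -/
theorem exists_fixed_involution {Y : Subgroup G} (hY : IsPGroup 2 ↥Y) (hY1 : Y ≠ ⊥) {t : G} (ht : orderOf t = 2)
    (htY : t ∈ Subgroup.normalizer (Y : Set G)) : ∃ y ∈ Y, orderOf y = 2 ∧ y * t = t * y := by
  have : Fact (Nat.Prime 2) := ⟨Nat.prime_two⟩
  set R := Y ⊔ Subgroup.zpowers t with hR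
  have hRp : IsPGroup 2 ↥R := IsPGroup.to_sup_of_normal_left' hY
    (IsPGroup.of_card (n := 1) (by rw [Nat.card_zpowers, ht, pow_one])) (Subgroup.zpowers_le.mpr htY)
  have : Group.IsNilpotent ↥R := hRp.isNilpotent
  have : (Y.subgroupOf R).Normal := Subgroup.normal_subgroupOf_of_le_normalizer
    (sup_le Subgroup.le_normalizer (Subgroup.zpowers_le.mpr htY))
  have hne : Y.subgroupOf R ≠ ⊥ := by
    rw [Ne, Subgroup.subgroupOf_eq_bot, disjoint_iff, inf_eq_left.mpr (le_sup_left : Y ≤ R)]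
    exact hY1
  obtain ⟨w, ⟨hwY, hwc⟩, hw1⟩ := (Y.subgroupOf R ⊓ Subgroup.center ↥R).bot_or_exists_ne_one.resolve_left
    (Cfsg.Agent.Lib.Solvable.inf_center_ne_bot hne)
  obtain ⟨k, hk⟩ := IsPGroup.iff_orderOf.mp hRp w
  obtain ⟨k, rfl⟩ : ∃ l, k = l + 1 := ⟨k - 1, by
    rcases k with _ | k
    · rw [pow_zero, orderOf_eq_one_iff] at hk; exact absurd hk hw1
    · omega⟩
  refine ⟨((w ^ 2 ^ k : ↥R) : G), pow_mem (show (w : G) ∈ Y from Subgroup.mem_subgroupOf.mp hwY) _, ?_, ?_⟩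
  · rw [Subgroup.orderOf_coe, orderOf_pow, hk, Nat.gcd_eq_right (pow_dvd_pow 2 k.le_succ), pow_succ',
      Nat.mul_div_cancel _ (Nat.two_pow_pos k)]
  · exact congrArg Subtype.val ((Subgroup.mem_center_iff.mp (pow_mem hwc (2 ^ k)))
      ⟨t, Subgroup.mem_sup_right (Subgroup.mem_zpowers t)⟩).symm

end Cfsg.Agent.Lib.InvChar
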