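import Mathlib

/-!
Elementary facts on Sylow subgroups and conjugation used by the statements of
the involution characterizations.
-/

set_option autoImplicit false

open scoped Pointwise

namespace Cfsg.Agent.Lib.InvChar

variable {G : Type*} [Group G]

theorem mem_map_conj {H : Subgroup G} {g x : G} :
    x ∈ H.map (MulAut.conj g).toMonoidHom ↔ g⁻¹ * x * g ∈ H := by
  rw [Subgroup.mem_map_equiv]
  simp [MulAut.conj_symm_apply]

theorem map_conj_mul (H : Subgroup G) (g k : G) :
    (H.map (MulAut.conj g).toMonoidHom).map (MulAut.conj k).toMonoidHom =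
      H.map (MulAut.conj (k * g)).toMonoidHom := by
  ext x
  simp [mem_map_conj, mul_assoc]

theorem map_conj_one (H : Subgroup G) : H.map (MulAut.conj (1 : G)).toMonoidHom = H := by
  ext x
  simp [mem_map_conj]

theorem map_conj_eq_iff_mem_normalizer {H : Subgroup G} {g : G} :
    H.map (MulAut.conj g).toMonoidHom = H ↔ g ∈ Subgroup.normalizer (H : Set G) := by
  constructor
  · intro h
    rw [Subgroup.mem_normalizer_iff'']
    intro x
    rw [← mem_map_conj, h]
  · intro h
    ext x
    rw [mem_map_conj]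
    exact (Subgroup.mem_normalizer_iff''.mp h x).symm

theorem map_conj_injective {H K : Subgroup G} {g : G}
    (h : H.map (MulAut.conj g).toMonoidHom = K.map (MulAut.conj g).toMonoidHom) : H = K :=
  Subgroup.map_injective (MulAut.conj g).injective h

theorem card_map_conj (H : Subgroup G) (g : G) :
    Nat.card ↥(H.map (MulAut.conj g).toMonoidHom) = Nat.card ↥H :=
  Subgroup.card_map_of_injective (MulAut.conj g).injective

variable [Finite G] {p : ℕ} [Fact p.Prime]

/-- A Sylow subgroup of `G` contained in `K` absorbs every `p`-subgroup of `K` up to conjugation in `K`. -/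
theorem exists_conj_le_sylow {K : Subgroup G} (P : Sylow p G) (hP : (P : Subgroup G) ≤ K)
    {R : Subgroup G} (hR : R ≤ K) (hRp : IsPGroup p ↥R) :
    ∃ k ∈ K, R.map (MulAut.conj k).toMonoidHom ≤ (P : Subgroup G) := by
  have hR' : IsPGroup p ↥(R.subgroupOf K) := hRp.of_equiv (Subgroup.subgroupOfEquivOfLe hR).symm
  obtain ⟨Q, hQ⟩ := IsPGroup.exists_le_sylow (p := p) hR'
  obtain ⟨k, hk⟩ := MulAction.exists_smul_eq ↥K Q (P.subtype hP)
  refine ⟨(k : G), k.2, ?_⟩
  intro x hx
  obtain ⟨r, hr, rfl⟩ := Subgroup.mem_map.mp hx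
  have h1 : (⟨r, hR hr⟩ : ↥K) ∈ (Q : Subgroup ↥K) := hQ hr
  have h2 : k * ⟨r, hR hr⟩ * k⁻¹ ∈ ((k • Q : Sylow p ↥K) : Subgroup ↥K) := by
    show k * ⟨r, hR hr⟩ * k⁻¹ ∈ MulAut.conj k • (Q : Subgroup ↥K)
    exact Subgroup.smul_mem_pointwise_smul _ (MulAut.conj k) _ h1
  rw [hk, Sylow.coe_subtype, Subgroup.mem_subgroupOf] at h2
  simpa using h2

/-- A subgroup normal in a Sylow subgroup: every `p`-subgroup of the normalizer is conjugate into it. -/
theorem exists_conj_le_sylow_of_normalizer {A : Subgroup G} (P : Sylow p G)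
    (hP : (P : Subgroup G) ≤ Subgroup.normalizer (A : Set G))
    {R : Subgroup G} (hR : R ≤ Subgroup.normalizer (A : Set G)) (hRp : IsPGroup p ↥R) :
    ∃ k : G, A.map (MulAut.conj k).toMonoidHom = A ∧
      R.map (MulAut.conj k).toMonoidHom ≤ (P : Subgroup G) := by
  obtain ⟨k, hk, h⟩ := exists_conj_le_sylow P hP hR hRp
  exact ⟨k, map_conj_eq_iff_mem_normalizer.mpr hk, h⟩

end Cfsg.Agent.Lib.InvChar
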