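import Cfsg.Agent.Lib.InvChar.JordanArcs
import Cfsg.Agent.Lib.Characters.Kazarin
import Cfsg.Agent.Lib.Blocks.CharCongr
import Mathlib.GroupTheory.Sylow
import Mathlib.GroupTheory.PGroup
import Mathlib.Analysis.SpecialFunctions.Trigonometric.Basic

/-!
# Blichfeldt's sixty degree theorem for simple groups

If some element of a finite irreducible unitary group has an eigenvalue with all the others within
sixty degrees of it, the corresponding eigenspace is preserved by every conjugate of the element.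
Together with a principal block argument this bounds the largest prime divisor of the order of a
simple group with few further prime divisors.
-/

set_option autoImplicit false
set_option linter.unusedSectionVars false

namespace Cfsg.Agent.Lib.InvChar.SixBound

open scoped ComplexInnerProductSpace

section Geometry

variable {G : Type*} [Group G] [Finite G] {V : Type*} [NormedAddCommGroup V]
  [InnerProductSpace ℂ V] [FiniteDimensional ℂ V] (ρ : Representation ℂ G V)
  (hU : ∀ g v w, ⟪ρ g v, ρ g w⟫ = ⟪v, w⟫)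

include hU

/-- A uniform bound from the eigenvalues. -/
theorem exists_delta (u : G) (μ : ℂ)
    (h : ∀ ν : ℂ, Module.End.HasEigenvalue (ρ u) ν → ‖ν - μ‖ < 1) :
    ∃ δ : ℝ, 0 ≤ δ ∧ δ < 1 ∧ ∀ v : V, ‖ρ u v - μ • v‖ ≤ δ * ‖v‖ := by
  classical
  have hfin : Set.Finite {ν : ℂ | Module.End.HasEigenvalue (ρ u) ν} := Module.End.finite_hasEigenvalue _
  let R : Finset ℝ := insert 0 (hfin.toFinset.image fun ν => ‖ν - μ‖)
  have hR : R.Nonempty := Finset.insert_nonempty _ _
  set r := R.max' hR with hr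
  have hr0 : 0 ≤ r := R.le_max' 0 (Finset.mem_insert_self _ _)
  have hrlt : r < 1 := by
    rcases Finset.mem_insert.1 (R.max'_mem hR) with e | e
    · rw [hr, e]; norm_num
    · obtain ⟨ν, hν, e'⟩ := Finset.mem_image.1 e
      rw [hr, ← e']
      exact h ν ((Set.Finite.mem_toFinset hfin).1 hν)
  refine ⟨r, hr0, hrlt, fun v => ?_⟩
  refine JordanArcs.invariant_induction ρ hU {u} (by simp)
    (P := fun W => ∀ v ∈ W, ‖ρ u v - μ • v‖ ≤ r * ‖v‖) ?_ ?_ ⊤ (by simp) v trivial
  · intro W hW v hv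
    obtain ⟨ν, hν⟩ := hW u rfl
    by_cases hv0 : v = 0
    · simp [hv0]
    rw [hν v hv, ← sub_smul, norm_smul]
    refine mul_le_mul_of_nonneg_right (R.le_max' _ (Finset.mem_insert_of_mem
      (Finset.mem_image.2 ⟨ν, (Set.Finite.mem_toFinset hfin).2 ?_, rfl⟩))) (norm_nonneg _)
    exact Module.End.hasEigenvalue_of_hasEigenvector
      ⟨Module.End.mem_eigenspace_iff.2 (hν v hv), hv0⟩
  · intro U U' hUi hU'i horth hPU hPU' v hv
    obtain ⟨w, hw, w', hw', rfl⟩ := Submodule.mem_sup.1 hv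
    have h1 := hPU w hw
    have h2 := hPU' w' hw'
    have o2 : ⟪ρ u w - μ • w, ρ u w' - μ • w'⟫ = 0 :=
      horth _ (U.sub_mem (hUi u rfl w hw) (U.smul_mem _ hw))
        _ (U'.sub_mem (hU'i u rfl w' hw') (U'.smul_mem _ hw'))
    have e1 := norm_add_sq_eq_norm_sq_add_norm_sq_of_inner_eq_zero w w' (horth w hw w' hw')
    have e2 := norm_add_sq_eq_norm_sq_add_norm_sq_of_inner_eq_zero _ _ o2
    rw [map_add, smul_add, add_sub_add_comm]
    set A := ρ u w - μ • w
    set B := ρ u w' - μ • w'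
    have h1' := mul_self_le_mul_self (norm_nonneg _) h1
    have h2' := mul_self_le_mul_self (norm_nonneg _) h2
    refine nonneg_le_nonneg_of_sq_le_sq (by positivity) ?_
    have e3 : r * r * (‖w + w'‖ * ‖w + w'‖) = r * r * (‖w‖ * ‖w‖ + ‖w'‖ * ‖w'‖) := by rw [e1]
    nlinarith

/-- The twisted commutator step. -/
def step (u T : G) : G := T⁻¹ * u * T * u⁻¹

/-- An element preserves a subspace. -/
def Pres (E : Submodule ℂ V) (g : G) : Prop := ∀ e ∈ E, ρ g e ∈ E

/-- **Blichfeldt's sixty degree lemma.** -/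
theorem pres_conj {u : G} {μ : ℂ} {δ : ℝ} (hδ0 : 0 ≤ δ) (hδ1 : δ < 1) (hμ : ‖μ‖ = 1)
    (hb : ∀ v : V, ‖ρ u v - μ • v‖ ≤ δ * ‖v‖) (T : G) :
    Pres ρ (Module.End.eigenspace (ρ u) μ) (T⁻¹ * u * T) := by
  set E := Module.End.eigenspace (ρ u) μ with hE
  have hμ0 : μ ≠ 0 := fun h => by simp [h] at hμ
  have hmem : ∀ {e : V}, e ∈ E ↔ ρ u e = μ • e := fun {e} => Module.End.mem_eigenspace_iff
  have hinv : ∀ e ∈ E, ρ u⁻¹ e = μ⁻¹ • e := fun e he => by
    have h := congrArg (ρ u⁻¹) (hmem.1 he)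
    rw [← JordanArcs.rho_mul ρ hU, inv_mul_cancel, JordanArcs.rho_one ρ hU, map_smul] at h
    calc ρ u⁻¹ e = μ⁻¹ • (μ • ρ u⁻¹ e) := by rw [smul_smul, inv_mul_cancel₀ hμ0, one_smul]
      _ = μ⁻¹ • e := by rw [← h]
  have hstep : ∀ S : G, ∀ e ∈ E, ρ (step u S) e = μ⁻¹ • ρ (S⁻¹ * u * S) e := fun S e he => by
    rw [step, JordanArcs.rho_mul ρ hU, hinv e he, map_smul]
  have hdiff : ∀ S : G, ∀ e ∈ E, ‖ρ (step u S) e - e‖ = ‖ρ u (ρ S e) - μ • ρ S e‖ := fun S e he => by
    have h1 : ρ (step u S) e - e = μ⁻¹ • ρ S⁻¹ (ρ u (ρ S e) - μ • ρ S e) := by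
      rw [hstep S e he, map_sub, map_smul, ← JordanArcs.rho_mul ρ hU, ← JordanArcs.rho_mul ρ hU,
        ← JordanArcs.rho_mul ρ hU, inv_mul_cancel, JordanArcs.rho_one ρ hU, smul_sub, smul_smul,
        inv_mul_cancel₀ hμ0, one_smul, mul_assoc]
    rw [h1, norm_smul, norm_inv, hμ, inv_one, one_mul, JordanArcs.norm_rho ρ hU]
  have hnear : ∀ S : G, ∀ e ∈ E, ‖ρ (step u S) e - e‖ ≤ δ * ‖e‖ := fun S e he => by
    rw [hdiff S e he]
    refine (hb _).trans ?_
    rw [JordanArcs.norm_rho ρ hU]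
  have hcontr : ∀ S : G, ∀ e ∈ E, ‖ρ (step u S) e - e‖ ≤ δ * ‖ρ S e - e‖ := fun S e he => by
    rw [hdiff S e he]
    have h1 : ρ u (ρ S e) - μ • ρ S e = ρ u (ρ S e - e) - μ • (ρ S e - e) := by
      rw [map_sub, hmem.1 he, smul_sub]; abel
    rw [h1]
    exact hb _
  set seq : ℕ → G := fun n => (step u)^[n] T with hseq
  have hsucc : ∀ n, seq (n + 1) = step u (seq n) := fun n => Function.iterate_succ_apply' _ _ _
  have hpow : ∀ n k, ∀ e ∈ E, ‖ρ (seq (n + k)) e - e‖ ≤ δ ^ k * ‖ρ (seq n) e - e‖ := by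
    intro n k e he
    induction k with
    | zero => simp
    | succ k ih =>
      rw [← add_assoc, hsucc, pow_succ', mul_assoc]
      exact (hcontr _ e he).trans (mul_le_mul_of_nonneg_left ih hδ0)
  obtain ⟨m, k, hk, heq⟩ : ∃ m k, 0 < k ∧ seq (m + k) = seq m := by
    obtain ⟨a, b, hne, hab⟩ := Finite.exists_ne_map_eq_of_infinite seq
    rcases Nat.lt_or_ge a b with h | h
    · exact ⟨a, b - a, by omega, by rw [Nat.add_sub_cancel' h.le, hab]⟩
    · exact ⟨b, a - b, by omega, by rw [Nat.add_sub_cancel' h, hab]⟩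
  have hfix : ∀ e ∈ E, ρ (seq (m + 1)) e = e := fun e he => by
    have h1 := hpow m k e he
    rw [heq] at h1
    have h2 : δ ^ k < 1 := pow_lt_one₀ hδ0 hδ1 hk.ne'
    have h3 : ‖ρ (seq m) e - e‖ = 0 := by
      nlinarith [norm_nonneg (ρ (seq m) e - e)]
    have h4 := hcontr (seq m) e he
    rw [h3, mul_zero, ← hsucc] at h4
    exact sub_eq_zero.1 (norm_le_zero_iff.1 h4)
  have hW : ∀ S : G, Pres ρ E (step u S) → Pres ρ E (S⁻¹ * u * S) := fun S h e he => by
    have h1 := E.smul_mem μ (h e he)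
    rwa [hstep S e he, smul_smul, mul_inv_cancel₀ hμ0, one_smul] at h1
  have hdown : ∀ S : G, (∀ e ∈ E, ‖ρ S e - e‖ ≤ δ * ‖e‖) → Pres ρ E (S⁻¹ * u * S) → Pres ρ E S := by
    intro S hS h e he
    set f := ρ (S⁻¹ * u * S) e - μ • e with hfdef
    have hf : f ∈ E := E.sub_mem (h e he) (E.smul_mem _ he)
    set x := ρ S⁻¹ f with hx
    have hSx : ρ S x = f := by rw [hx, ← JordanArcs.rho_mul ρ hU, mul_inv_cancel, JordanArcs.rho_one ρ hU]
    have hWx : ρ (S⁻¹ * u * S) x = μ • x := by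
      rw [JordanArcs.rho_mul ρ hU, hSx, JordanArcs.rho_mul ρ hU, hmem.1 hf, map_smul]
    have hμμ : (starRingEnd ℂ) μ * μ = 1 := by
      rw [Complex.conj_mul', hμ, Complex.ofReal_one, one_pow]
    have h0 : ⟪x, f⟫ = 0 := by
      have h1 := hU (S⁻¹ * u * S) x e
      rw [hWx, inner_smul_left] at h1
      rw [hfdef, inner_sub_right, inner_smul_right]
      linear_combination μ * h1 - ⟪x, ρ (S⁻¹ * u * S) e⟫ * hμμ
    have h1 : ⟪f, ρ S f⟫ = 0 := by
      rw [← hSx, hU]
      rwa [hSx]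
    have h2 := hS f hf
    have h3 := norm_sub_sq (𝕜 := ℂ) (ρ S f) f
    rw [inner_eq_zero_symm.1 h1, map_zero, mul_zero, sub_zero, JordanArcs.norm_rho ρ hU] at h3
    have h4 : ‖f‖ = 0 := by
      have h5 := mul_self_le_mul_self (norm_nonneg _) h2
      have h6 : δ * δ ≤ 1 := by nlinarith
      nlinarith [norm_nonneg f, mul_le_mul_of_nonneg_right h6 (mul_self_nonneg ‖f‖)]
    have h5 : ρ (S⁻¹ * u * S) e = μ • e := sub_eq_zero.1 (norm_eq_zero.1 h4)
    rw [hmem]
    have h6 := congrArg (ρ S) h5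
    rwa [← JordanArcs.rho_mul ρ hU, map_smul, show S * (S⁻¹ * u * S) = u * S by group,
      JordanArcs.rho_mul ρ hU] at h6
  have hdesc : ∀ j, Pres ρ E (seq (j + 1)) → Pres ρ E (T⁻¹ * u * T) := by
    intro j
    induction j with
    | zero => exact fun h => hW T (by rwa [hsucc] at h)
    | succ j ih =>
      intro h
      refine ih (hdown _ (fun e he => ?_) (hW _ (by rwa [hsucc] at h)))
      rw [hsucc]
      exact hnear _ e he
  exact hdesc m fun e he => (hfix e he).symm ▸ he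

end Geometry

/-- In a finite simple group an irreducible representation sends no nontrivial element to a map
with an eigenvalue within sixty degrees of all the others, unless that map is scalar. -/
theorem eq_scalar_of_near {G : Type*} [Group G] [Finite G] [IsSimpleGroup G] {W : Type*}
    [AddCommGroup W] [Module ℂ W] [FiniteDimensional ℂ W] (ρ : Representation ℂ G W)
    [hirr : ρ.IsIrreducible] {u : G} (hu : u ≠ 1) {μ : ℂ} (hμ : ‖μ‖ = 1)
    (hμe : Module.End.HasEigenvalue (ρ u) μ)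
    (h : ∀ ν : ℂ, Module.End.HasEigenvalue (ρ u) ν → ‖ν - μ‖ < 1) :
    ∀ w : W, ρ u w = μ • w := by
  classical
  haveI := Fintype.ofFinite G
  let e : W ≃ₗ[ℂ] (Fin (Module.finrank ℂ W) → ℂ) := LinearEquiv.ofFinrankEq _ _ (by simp)
  let cd : InnerProductSpace.Core ℂ W :=
    { inner := fun x y => ∑ g, ∑ i, (starRingEnd ℂ) (e (ρ g x) i) * e (ρ g y) i
      conj_inner_symm := fun x y => by simp [map_sum, mul_comm]
      re_inner_nonneg := fun x => by
        simp only [← RCLike.conj_mul, map_sum]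
        refine Finset.sum_nonneg fun g _ => Finset.sum_nonneg fun i _ => ?_
        rw [RCLike.conj_mul]
        simp [← Complex.ofReal_pow]
      add_left := fun x y z => by simp [add_mul, Finset.sum_add_distrib]
      smul_left := fun x y r => by simp [Finset.mul_sum, mul_assoc]
      definite := fun x hx => by
        have h2 : ∑ g, ∑ i, ‖e (ρ g x) i‖ ^ 2 = (0 : ℝ) := by
          have : ((∑ g, ∑ i, ‖e (ρ g x) i‖ ^ 2 : ℝ) : ℂ) = 0 := by
            push_cast
            rw [← hx]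
            exact Finset.sum_congr rfl fun g _ => Finset.sum_congr rfl fun i _ =>
              (Complex.conj_mul' _).symm
          exact_mod_cast this
        have h3 := (Finset.sum_eq_zero_iff_of_nonneg fun g _ => Finset.sum_nonneg fun i _ =>
          sq_nonneg _).mp h2 1 (Finset.mem_univ _)
        rw [map_one] at h3
        have h4 := (Finset.sum_eq_zero_iff_of_nonneg fun i _ => sq_nonneg _).mp h3
        refine e.injective (funext fun i => ?_)
        simpa using h4 i (Finset.mem_univ _) }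
  letI : NormedAddCommGroup W := cd.toNormedAddCommGroup
  letI : InnerProductSpace ℂ W := InnerProductSpace.ofCore cd.toCore
  have hU : ∀ g v w, inner ℂ (ρ g v) (ρ g w) = inner ℂ v w := by
    intro g v w
    show ∑ h, ∑ i, (starRingEnd ℂ) (e (ρ h (ρ g v)) i) * e (ρ h (ρ g w)) i =
      ∑ h, ∑ i, (starRingEnd ℂ) (e (ρ h v) i) * e (ρ h w) i
    simp only [← Module.End.mul_apply, ← map_mul]
    exact Fintype.sum_equiv (Equiv.mulRight g) _ _ fun h => rfl
  obtain ⟨δ, hδ0, hδ1, hb⟩ := exists_delta ρ hU u μ h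
  set E := Module.End.eigenspace (ρ u) μ with hE
  let Q : Submonoid G :=
    { carrier := {g | Pres ρ E g}
      one_mem' := fun x hx => by rw [JordanArcs.rho_one ρ hU]; exact hx
      mul_mem' := fun {a b} ha hb x hx => by rw [JordanArcs.rho_mul ρ hU]; exact ha _ (hb x hx) }
  have hall : ∀ g : G, Pres ρ E g := by
    intro g
    have h1 : Subgroup.normalClosure ({u} : Set G) = ⊤ :=
      (IsSimpleGroup.eq_bot_or_eq_top_of_normal _ Subgroup.normalClosure_normal).resolve_left fun hb =>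
        hu (Subgroup.mem_bot.1 (hb ▸ Subgroup.subset_normalClosure rfl))
    have h2 : g ∈ Submonoid.closure (Group.conjugatesOfSet ({u} : Set G)) := by
      rw [← Subgroup.closure_toSubmonoid_of_finite]
      show g ∈ Subgroup.normalClosure ({u} : Set G)
      rw [h1]; trivial
    refine (Submonoid.closure_le (S := Q)).2 ?_ h2
    intro x hx
    obtain ⟨a, rfl, hax⟩ := Group.mem_conjugatesOfSet_iff.1 hx
    obtain ⟨c, rfl⟩ := isConj_iff.1 hax
    show Pres ρ E (c * a * c⁻¹)
    have h3 := pres_conj ρ hU hδ0 hδ1 hμ hb c⁻¹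
    rwa [inv_inv] at h3
  rcases ((Characters.isIrreducible_iff_forall ρ).1 hirr).2 E (fun g x hx => hall g x hx) with hbot | htop
  · exact absurd hbot hμe
  · intro w
    exact Module.End.mem_eigenspace_iff.1 (htop ▸ Submodule.mem_top : w ∈ E)

open Cfsg Cfsg.Agent.Lib.Blocks Cfsg.Agent.Lib.BlockHeights Cfsg.Agent.Lib.Characters Module

/-- A power of a tuple of roots of unity close to a scalar. -/
theorem exists_near_power {p : ℕ} (hp : 0 < p) (S : Finset ℂ) (hS : ∀ ν ∈ S, ν ^ p = 1) {ν₀ : ℂ}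
    (h₀ : ν₀ ∈ S) (hcard : 6 ^ (S.card - 1) < p) :
    ∃ d, 0 < d ∧ d < p ∧ ∀ ν ∈ S, ‖ν ^ d - ν₀ ^ d‖ < 1 := by
  classical
  haveI : NeZero p := ⟨hp.ne'⟩
  have hlog : ∀ ν : S, ∃ l : ℕ, Complex.exp (2 * Real.pi * Complex.I * ((l : ℂ) / p)) = ν := fun ν => by
    obtain ⟨i, -, hi⟩ := (Complex.mem_rootsOfUnity p
      (Units.mkOfMulEqOne (ν : ℂ) ((ν : ℂ) ^ (p - 1)) (by
        rw [← pow_succ', Nat.sub_add_cancel hp, hS ν ν.2]))).1 (by
          rw [mem_rootsOfUnity]; ext; simpa using hS ν ν.2)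
    exact ⟨i, hi⟩
  choose L hL using hlog
  let θ : S → ℝ := fun ν => ((L ν : ℝ) - (L ⟨ν₀, h₀⟩ : ℝ)) / p
  let box : Fin p → ({ν : S // ν ≠ ⟨ν₀, h₀⟩} → Fin 6) := fun k ν =>
    ⟨⌊6 * Int.fract ((k : ℕ) * θ ν.1 : ℝ)⌋.toNat, by
      have h1 := Int.fract_lt_one ((k : ℕ) * θ ν.1 : ℝ)
      have h2 : ⌊6 * Int.fract ((k : ℕ) * θ ν.1 : ℝ)⌋ < 6 := Int.floor_lt.2 (by push_cast; linarith)
      omega⟩
  obtain ⟨k, k', hkk, hbox⟩ : ∃ k k', k ≠ k' ∧ box k = box k' := by
    refine Fintype.exists_ne_map_eq_of_card_lt box ?_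
    rw [Fintype.card_fun, Fintype.card_fin, Fintype.card_fin, Fintype.card_subtype_compl,
      Fintype.card_coe, Fintype.card_unique]
    exact hcard
  have key : ∀ a b : Fin p, (a : ℕ) < b → box a = box b →
      ∃ d, 0 < d ∧ d < p ∧ ∀ ν ∈ S, ‖ν ^ d - ν₀ ^ d‖ < 1 := by
    intro a b hab hbox
    refine ⟨b - a, by omega, by omega, fun ν hν => ?_⟩
    by_cases hν0 : ν = ν₀
    · subst hν0; simp
    have hd : ((b - a : ℕ) : ℝ) = (b : ℕ) - (a : ℕ) := by rw [Nat.cast_sub hab.le]
    set t := θ ⟨ν, hν⟩ with ht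
    set fa := Int.fract (((a : ℕ) : ℝ) * t) with hfa
    set fb := Int.fract (((b : ℕ) : ℝ) * t) with hfb
    have hsame : ⌊6 * fa⌋ = ⌊6 * fb⌋ := by
      have h1 := congrArg Fin.val (congrFun hbox ⟨⟨ν, hν⟩, fun e => hν0 (congrArg Subtype.val e)⟩)
      simp only [box] at h1
      have p1 : 0 ≤ ⌊6 * fa⌋ := Int.floor_nonneg.2 (by positivity)
      have p2 : 0 ≤ ⌊6 * fb⌋ := Int.floor_nonneg.2 (by positivity)
      simp only [hfa, hfb, ht] at p1 p2 ⊢
      omega
    have hclose : |6 * fb - 6 * fa| < 1 := Int.abs_sub_lt_one_of_floor_eq_floor hsame.symm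
    obtain ⟨z, hz⟩ : ∃ z : ℤ, ((b - a : ℕ) : ℝ) * t = (fb - fa) + z :=
      ⟨⌊((b : ℕ) : ℝ) * t⌋ - ⌊((a : ℕ) : ℝ) * t⌋, by
        rw [hd, hfa, hfb, Int.fract, Int.fract]; push_cast; ring⟩
    set φ : ℝ := 2 * Real.pi * (fb - fa) with hφ
    have hquot : ν ^ (b - a : ℕ) = Complex.exp (φ * Complex.I) * ν₀ ^ (b - a : ℕ) := by
      conv_lhs => rw [show ν = ((⟨ν, hν⟩ : S) : ℂ) from rfl, ← hL ⟨ν, hν⟩]
      conv_rhs => rw [show ν₀ = ((⟨ν₀, h₀⟩ : S) : ℂ) from rfl, ← hL ⟨ν₀, h₀⟩]
      rw [← Complex.exp_nat_mul, ← Complex.exp_nat_mul, ← Complex.exp_add, Complex.exp_eq_exp_iff_exists_int]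
      refine ⟨z, ?_⟩
      have hz' : (((b - a : ℕ) : ℝ) : ℂ) * (t : ℂ) = ((fb - fa : ℝ) : ℂ) + ((z : ℝ) : ℂ) := by
        exact_mod_cast congrArg (fun r : ℝ => (r : ℂ)) hz
      simp only [ht, θ] at hz'
      push_cast [hφ] at hz' ⊢
      linear_combination (2 * (Real.pi : ℂ) * Complex.I) * hz'
    have hn0 : ‖ν₀ ^ (b - a : ℕ)‖ = 1 := by
      rw [norm_pow, norm_eq_one_of_pow_eq_one' hp.ne' (hS ν₀ h₀), one_pow]
    rw [hquot, ← sub_one_mul, norm_mul, hn0, mul_one]
    have hsq : ‖Complex.exp (φ * Complex.I) - 1‖ ^ 2 < 1 := by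
      rw [Complex.sq_norm, Complex.normSq_apply, Complex.sub_re, Complex.sub_im,
        Complex.exp_ofReal_mul_I_re, Complex.exp_ofReal_mul_I_im, Complex.one_re, Complex.one_im]
      have hcos : 1 / 2 < Real.cos φ := by
        rw [← Real.cos_abs, ← Real.cos_pi_div_three]
        refine Real.cos_lt_cos_of_nonneg_of_le_pi (abs_nonneg _) (by linarith [Real.pi_pos]) ?_
        rw [hφ, abs_mul, abs_of_pos (by positivity : (0 : ℝ) < 2 * Real.pi)]
        have : |fb - fa| < 1 / 6 := by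
          rw [← mul_sub, abs_mul, abs_of_pos (by norm_num : (0 : ℝ) < 6)] at hclose
          linarith
        nlinarith [Real.pi_pos]
      nlinarith [Real.sin_sq_add_cos_sq φ]
    exact (sq_lt_one_iff₀ (norm_nonneg _)).1 hsq
  rcases lt_or_gt_of_ne (fun e => hkk (Fin.ext e) : (k : ℕ) ≠ k') with h | h
  · exact key k k' h hbox
  · exact key k' k h hbox.symm

/-- **The bound `p < 6 ^ (g₀ - 1)` for simple groups of order `p ^ a * q ^ b * g₀`.** -/
theorem prime_lt_six_pow {G : Type*} [Group G] [Finite G] [IsSimpleGroup G] (p q a b g₀ : ℕ)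
    (hp : p.Prime) (hq : q.Prime) (hpq : p ≠ q) (ha : 0 < a)
    (hg : Nat.card G = p ^ a * q ^ b * g₀) (hne : Nat.card G ≠ p) : p < 6 ^ (g₀ - 1) := by
  classical
  haveI := Fintype.ofFinite G
  haveI := Fintype.ofFinite (IrrCharacter G)
  haveI := Fact.mk hp
  have hg0 : 0 < g₀ := Nat.pos_of_ne_zero fun h => by simp [h] at hg
  have hdvd : p ∣ Nat.card G := by
    rw [hg]; exact Dvd.dvd.mul_right (Dvd.dvd.mul_right (dvd_pow_self p ha.ne') _) _
  have hnc : ¬ ∀ x y : G, x * y = y * x := by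
    intro hc
    letI : CommGroup G := { (inferInstance : Group G) with mul_comm := hc }
    have hpr : (Nat.card G).Prime := IsSimpleGroup.prime_card
    exact hne ((Nat.prime_dvd_prime_iff_eq hp hpr).1 hdvd).symm
  by_contra hlt
  push Not at hlt
  have hlt' : 6 ^ (g₀ - 1) < p := by
    refine lt_of_le_of_ne hlt fun e => ?_
    rcases Nat.eq_zero_or_pos (g₀ - 1) with h0 | h0
    · rw [h0, pow_zero] at e; exact hp.ne_one e.symm
    · have h2 : 2 ∣ p := e ▸ dvd_trans (by norm_num) (dvd_pow_self 6 h0.ne')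
      have h3 : 3 ∣ p := e ▸ dvd_trans (by norm_num) (dvd_pow_self 6 h0.ne')
      have := (Nat.prime_dvd_prime_iff_eq Nat.prime_two hp).1 h2
      have := (Nat.prime_dvd_prime_iff_eq Nat.prime_three hp).1 h3
      omega
  -- an element of order `p` with centraliser of index prime to `p`
  obtain ⟨P⟩ : Nonempty (Sylow p G) := inferInstance
  haveI : Nontrivial ↥(P : Subgroup G) :=
    (Subgroup.nontrivial_iff_ne_bot _).2 (Sylow.ne_bot_of_dvd_card P hdvd)
  haveI := P.2.center_nontrivial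
  obtain ⟨c, hc⟩ := exists_prime_orderOf_dvd_card' (G := Subgroup.center ↥(P : Subgroup G)) p (by
    obtain ⟨n, hn⟩ := IsPGroup.iff_card.1 (P.2.to_subgroup (Subgroup.center _))
    rcases Nat.eq_zero_or_pos n with rfl | hn0
    · have := Finite.one_lt_card (α := Subgroup.center ↥(P : Subgroup G))
      rw [hn, pow_zero] at this; omega
    · exact hn ▸ dvd_pow_self p hn0.ne')
  set x : G := ((c : ↥(P : Subgroup G)) : G) with hxdef
  have hx : orderOf x = p := by rw [hxdef, Subgroup.orderOf_coe, Subgroup.orderOf_coe, hc]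
  have hindex : ∀ k : ℕ, ¬ p ∣ (Subgroup.centralizer ({x ^ k} : Set G)).index := by
    intro k hk
    have hle : (P : Subgroup G) ≤ Subgroup.centralizer ({x ^ k} : Set G) := fun y hy => by
      rw [Subgroup.mem_centralizer_singleton_iff]
      have h1 := congrArg Subtype.val (Subgroup.mem_center_iff.1 c.2 ⟨y, hy⟩)
      exact ((show Commute y x from h1).pow_right k).eq
    exact P.not_dvd_index (hk.trans (Subgroup.index_dvd_of_le hle))
  -- a member of the principal block of degree prime to `q`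
  obtain ⟨M, hM⟩ := exists_isPModular hp
  haveI := isPrime_of_isPModular hM
  set B : Set (IrrCharacter G) := blockOf M ((trivIrr G : IrrCharacter G) : G → ℂ) with hBdef
  have hB : IsPBlock M B := ⟨trivIrr G, rfl⟩
  have hsing : ¬ IsPRegular p x := fun h => h (by rw [hx])
  have hsum := sum_block_mul_eq_zero hM hB hsing (isPRegular_one (G := G) hp)
  have htriv : trivIrr G ∈ B := by intro g; rw [sub_self]; exact memLocalIdeal_zero
  obtain ⟨⟨χ, N, ρ, hρ, rfl⟩, hmem, hne1, hqd⟩ :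
      ∃ χ : IrrCharacter G, χ ∈ B ∧ (χ : G → ℂ) ≠ (fun _ => 1) ∧
        ∀ m : ℕ, (χ : G → ℂ) 1 = m → ¬ q ∣ m := by
    by_contra hno
    push Not at hno
    rw [← Finset.add_sum_erase _ _ (Finset.mem_univ (trivIrr G)), if_pos htriv] at hsum
    simp only [trivIrr_apply, mul_one] at hsum
    have hint : IsIntegral ℤ ((-1 : ℂ) / q) := by
      rw [← eq_neg_of_add_eq_zero_right hsum, Finset.sum_div]
      refine IsIntegral.sum _ fun χ hχ => ?_
      split_ifs with h
      · obtain ⟨m, hm, e, he⟩ := hno χ h (fun h' => (Finset.mem_erase.1 hχ).1 (Subtype.ext h'))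
        obtain ⟨χ, n, ρ, hρ, rfl⟩ := χ
        have hq0 : (q : ℂ) ≠ 0 := by exact_mod_cast hq.ne_zero
        show IsIntegral ℤ (ρ.character x * ρ.character 1 / (q : ℂ))
        have e1 : ρ.character x * ρ.character 1 / (q : ℂ) = (e : ℂ) * ρ.character x := by
          have hm' : ρ.character 1 = (m : ℂ) := hm
          rw [hm', he]; push_cast; field_simp
        rw [e1]
        exact (isIntegral_algebraMap (R := ℤ) (A := ℂ) (x := (e : ℤ))).mul (char_isIntegral ρ x)
      · rw [zero_div]; exact isIntegral_zero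
    have h2 : IsIntegral ℤ ((1 : ℕ) / (q : ℂ)) := by simpa [neg_div] using hint.neg
    exact hq.ne_one (Nat.dvd_one.mp (dvd_of_isIntegral_div hq.ne_zero h2))
  set D := finrank ℂ (Fin N → ℂ) with hD
  have hD0 : 0 < D := finrank_pos_of_isIrreducible ρ
  obtain ⟨i, g', hpg', hDfac⟩ := Nat.exists_eq_pow_mul_and_not_dvd hD0.ne' p hp.ne_one
  have hg'0 : 0 < g' := Nat.pos_of_ne_zero fun h => by simp [h] at hpg'
  have hg'g : g' ∣ g₀ := by
    have h1 : g' ∣ Nat.card G := (Dvd.intro_left _ hDfac.symm).trans (finrank_dvd_card ρ)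
    rw [hg, mul_assoc] at h1
    have h2 : ¬ q ∣ g' := fun h => hqd D ρ.char_one (h.trans (Dvd.intro_left _ hDfac.symm))
    exact ((hq.coprime_iff_not_dvd.2 h2).symm.pow_right b).dvd_of_dvd_mul_left
      (((hp.coprime_iff_not_dvd.2 hpg').symm.pow_right a).dvd_of_dvd_mul_left h1)
  -- the values at powers of `x`
  obtain ⟨ι, _, bas, μ, hbas, hμp⟩ := exists_eigenbasis (ρ x) hp.ne_zero
    (by rw [← map_pow, ← hx, pow_orderOf_eq_one, map_one])
  have hbk : ∀ (k : ℕ) j, ρ (x ^ k) (bas j) = μ j ^ k • bas j := by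
    intro k j
    induction k with
    | zero => simp
    | succ k ih => rw [pow_succ', map_mul, Module.End.mul_apply, ih, map_smul, hbas, smul_smul, ← pow_succ]
  have hchar : ∀ k : ℕ, ρ.character (x ^ k) = ∑ j, μ j ^ k := fun k =>
    trace_eq_sum_eigen bas (ρ (x ^ k)) (fun j => μ j ^ k) (hbk k)
  have hcard : Fintype.card ι = D := (finrank_eq_card_basis bas).symm
  have hbeta : ∀ k : ℕ, IsIntegral ℤ (ρ.character (x ^ k) / (p ^ i : ℂ)) ∧
      MemLocalIdeal M (ρ.character (x ^ k) / (p ^ i : ℂ) - g') := by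
    intro k
    set n := (Subgroup.centralizer ({x ^ k} : Set G)).index with hn
    have hnp : ¬ p ∣ n := hindex k
    have hω : IsIntegral ℤ ((n : ℂ) * ρ.character (x ^ k) / (D : ℂ)) := by
      have h1 := Characters.isIntegral_centralChar ρ (x ^ k)
      rwa [card_conj_eq_index] at h1
    have hpi0 : (p ^ i : ℂ) ≠ 0 := pow_ne_zero _ (by exact_mod_cast hp.ne_zero)
    have hg'C : (g' : ℂ) ≠ 0 := by exact_mod_cast hg'0.ne'
    have hDC : (D : ℂ) = (p ^ i : ℂ) * g' := by rw [hDfac]; push_cast; ring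
    obtain ⟨u, v, huv⟩ := Nat.isCoprime_iff_coprime.mpr
      ((Nat.Coprime.pow_right i (hp.coprime_iff_not_dvd.2 hnp).symm))
    have huv' : (u : ℂ) * (n : ℂ) + v * (p ^ i : ℂ) = 1 := by exact_mod_cast huv
    have hβ : IsIntegral ℤ (ρ.character (x ^ k) / (p ^ i : ℂ)) := by
      have e : ρ.character (x ^ k) / (p ^ i : ℂ) =
          (u : ℂ) * ((g' : ℂ) * ((n : ℂ) * ρ.character (x ^ k) / (D : ℂ))) + (v : ℂ) * ρ.character (x ^ k) := by
        rw [hDC]
        field_simp
        linear_combination (-(ρ.character (x ^ k))) * huv'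
      rw [e]
      exact ((isIntegral_algebraMap (R := ℤ) (x := u)).mul
        ((isIntegral_algebraMap (R := ℤ) (A := ℂ) (x := (g' : ℤ))).mul hω)).add
        ((isIntegral_algebraMap (R := ℤ) (x := v)).mul (char_isIntegral ρ _))
    refine ⟨hβ, ?_⟩
    have hdiff := hmem (x ^ k)
    simp only [centralChar, trivIrr_apply, div_one, mul_one, ← hn] at hdiff
    rw [ρ.char_one, ← hD] at hdiff
    have h2 : MemLocalIdeal M ((n : ℂ) * (ρ.character (x ^ k) / (p ^ i : ℂ) - g')) := by
      have h3 := memLocalIdeal_neg (memLocalIdeal_mul_left (memLocalRing_natCast (M := M) g') hdiff)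
      convert h3 using 1
      rw [hDC]; field_simp; ring
    exact ((memLocalIdeal_mul_iff (memLocalRing_natCast _) (memLocalRing_of_isIntegral'
      (hβ.sub (isIntegral_algebraMap (R := ℤ) (A := ℂ) (x := (g' : ℤ)))))).1 h2).resolve_left
        fun h => hnp ((memLocalIdeal_natCast_iff hM n).1 h)
  -- multiplicities are divisible by `p ^ i`
  have hmult : ∀ ν : ℂ, ν ^ p = 1 → p ^ i ∣ (Finset.univ.filter fun j => μ j = ν).card := by
    intro ν hν
    set C := (Finset.univ.filter fun j => μ j = ν).card with hC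
    have hν0 : ν ≠ 0 := fun h => by simp [h, hp.ne_zero] at hν
    have hsum : ∑ k ∈ Finset.range p, ν⁻¹ ^ k * ρ.character (x ^ k) = (p : ℂ) * C := by
      calc ∑ k ∈ Finset.range p, ν⁻¹ ^ k * ρ.character (x ^ k)
          = ∑ j, ∑ k ∈ Finset.range p, (ν⁻¹ * μ j) ^ k := by
            rw [Finset.sum_comm]
            exact Finset.sum_congr rfl fun k _ => by rw [hchar, Finset.mul_sum]; simp_rw [mul_pow]
        _ = ∑ j, if μ j = ν then (p : ℂ) else 0 := Finset.sum_congr rfl fun j _ => by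
            split_ifs with h
            · rw [h, inv_mul_cancel₀ hν0]; simp
            · have h1 : ν⁻¹ * μ j ≠ 1 := fun e => h (by
                have := congrArg (ν * ·) e
                simpa [← mul_assoc, mul_inv_cancel₀ hν0] using this)
              rw [geom_sum_eq h1, mul_pow, inv_pow, hν, hμp, inv_one, one_mul, sub_self, zero_div]
        _ = _ := by rw [← Finset.sum_filter, Finset.sum_const, nsmul_eq_mul, hC, mul_comm]
    rw [show Finset.range p = Finset.range (p - 1 + 1) by rw [Nat.sub_add_cancel hp.pos],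
      Finset.sum_range_succ'] at hsum
    simp only [pow_zero, one_mul, ρ.char_one] at hsum
    rw [← hD] at hsum
    set T := ∑ k ∈ Finset.range (p - 1), ν⁻¹ ^ (k + 1) * (ρ.character (x ^ (k + 1)) / (p ^ i : ℂ)) with hT
    have hpi0 : (p ^ i : ℂ) ≠ 0 := pow_ne_zero _ (by exact_mod_cast hp.ne_zero)
    have hTeq : (p ^ i : ℂ) * T + (D : ℂ) = (p : ℂ) * C := by
      rw [← hsum, hT, Finset.mul_sum]
      congr 1
      exact Finset.sum_congr rfl fun k _ => by field_simp
    have hνi : IsIntegral ℤ ν⁻¹ := IsIntegral.of_pow hp.pos (by rw [inv_pow, hν, inv_one]; exact isIntegral_one)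
    obtain ⟨z, hz⟩ := exists_int_of_isIntegral_rat (q := ((p : ℚ) * C - D) / (p : ℚ) ^ i) (by
      have e : ((((p : ℚ) * C - D) / (p : ℚ) ^ i : ℚ) : ℂ) = T := by
        push_cast
        rw [div_eq_iff hpi0]
        linear_combination -hTeq
      rw [e]
      exact IsIntegral.sum _ fun k _ => (hνi.pow _).mul (hbeta _).1)
    have hzT : (z : ℂ) = T := by
      have h1 := congrArg (fun r : ℚ => (r : ℂ)) hz
      push_cast at h1
      rw [← h1, div_eq_iff hpi0]
      linear_combination -hTeq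
    have hcong : MemLocalIdeal M (((z + (g' : ℤ) : ℤ)) : ℂ) := by
      have h1 : MemLocalIdeal M (T - ∑ k ∈ Finset.range (p - 1), (g' : ℂ)) := by
        rw [hT, ← Finset.sum_sub_distrib]
        refine memLocalIdeal_sum _ fun k _ => ?_
        have h2 : MemLocalIdeal M (ν⁻¹ ^ (k + 1) - 1) :=
          memLocalIdeal_root_sub_one hM (k := 1) (by
            rw [pow_one, ← pow_mul, mul_comm, pow_mul, inv_pow, hν, inv_one, one_pow])
        have e : ν⁻¹ ^ (k + 1) * (ρ.character (x ^ (k + 1)) / (p ^ i : ℂ)) - (g' : ℂ) =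
            ν⁻¹ ^ (k + 1) * (ρ.character (x ^ (k + 1)) / (p ^ i : ℂ) - g') +
              (g' : ℂ) * (ν⁻¹ ^ (k + 1) - 1) := by ring
        rw [e]
        exact memLocalIdeal_add (memLocalIdeal_mul_left (memLocalRing_of_isIntegral' (hνi.pow _)) (hbeta _).2)
          (memLocalIdeal_mul_left (memLocalRing_natCast _) h2)
      have h3 := memLocalIdeal_add h1 (memLocalIdeal_mul_right ((memLocalIdeal_natCast_iff hM p).2 dvd_rfl)
        (memLocalRing_natCast (M := M) g'))
      convert h3 using 1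
      rw [Finset.sum_const, Finset.card_range, nsmul_eq_mul, Nat.cast_sub hp.pos]
      push_cast
      rw [hzT]; ring
    obtain ⟨w, hw⟩ := (memLocalIdeal_intCast_iff hM _).1 hcong
    refine Int.natCast_dvd_natCast.1 ⟨w, ?_⟩
    have h5 : (p : ℂ) * ((C : ℂ)) = (p : ℂ) * ((p : ℂ) ^ i * (w : ℂ)) := by
      have hw' : (z : ℂ) + g' = (p : ℂ) * w := by exact_mod_cast hw
      rw [← hTeq, ← hzT, hDfac]
      push_cast
      linear_combination ((p : ℂ) ^ i) * hw'
    exact_mod_cast mul_left_cancel₀ (by exact_mod_cast hp.ne_zero : (p : ℂ) ≠ 0) h5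
  set S := Finset.univ.image μ with hS
  have hSp : ∀ ν ∈ S, ν ^ p = 1 := fun ν hν => by
    obtain ⟨j, -, rfl⟩ := Finset.mem_image.1 hν; exact hμp j
  have hScard : S.card ≤ g' := by
    have h1 : Fintype.card ι = ∑ ν ∈ S, (Finset.univ.filter fun j => μ j = ν).card :=
      Finset.card_eq_sum_card_image μ Finset.univ
    have h2 : S.card * p ^ i ≤ p ^ i * g' := by
      rw [← hDfac, ← hcard, h1, ← smul_eq_mul, ← Finset.sum_const]
      refine Finset.sum_le_sum fun ν hν => Nat.le_of_dvd (Finset.card_pos.2 ?_) (hmult ν (hSp ν hν))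
      obtain ⟨j, -, e⟩ := Finset.mem_image.1 hν
      exact ⟨j, by simp [e]⟩
    exact Nat.le_of_mul_le_mul_left ((mul_comm _ _).trans_le h2) (pow_pos hp.pos i)
  haveI : Nonempty ι := Fintype.card_pos_iff.1 (hcard ▸ hD0)
  obtain ⟨j₀⟩ := ‹Nonempty ι›
  have hgle : 6 ^ (S.card - 1) < p := lt_of_le_of_lt (Nat.pow_le_pow_right (by norm_num) (by
    have := Nat.le_of_dvd hg0 hg'g
    omega)) hlt'
  obtain ⟨d, hd0, hdp, hd⟩ := exists_near_power hp.pos S hSp
    (Finset.mem_image_of_mem μ (Finset.mem_univ j₀)) hgle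
  have hu : x ^ d ≠ 1 := fun h => by
    have := Nat.le_of_dvd hd0 (hx ▸ orderOf_dvd_iff_pow_eq_one.2 h)
    omega
  have hscal := eq_scalar_of_near ρ hu (μ := μ j₀ ^ d)
    (by rw [norm_pow, norm_eq_one_of_pow_eq_one' hp.ne_zero (hμp j₀), one_pow])
    (Module.End.hasEigenvalue_of_hasEigenvector
      ⟨Module.End.mem_eigenspace_iff.2 (hbk d j₀), bas.ne_zero j₀⟩) (by
      intro ν hν
      obtain ⟨w, hw⟩ := hν.exists_hasEigenvector
      obtain ⟨j, hj⟩ : ∃ j, bas.repr w j ≠ 0 := by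
        by_contra hall
        push Not at hall
        exact hw.2 (bas.ext_elem fun j => by rw [hall j, map_zero]; rfl)
      have h1 : ρ (x ^ d) w = ∑ j, (μ j ^ d * bas.repr w j) • bas j := by
        conv_lhs => rw [← bas.sum_repr w]
        rw [map_sum]
        exact Finset.sum_congr rfl fun j _ => by rw [map_smul, hbk, smul_smul, mul_comm]
      have h2 := congrArg (fun v => bas.repr v j) (h1.symm.trans hw.apply_eq_smul)
      simp only [map_smul, Finsupp.smul_apply, smul_eq_mul, Basis.repr_sum_self] at h2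
      rw [← mul_right_cancel₀ hj h2]
      exact hd _ (Finset.mem_image_of_mem μ (Finset.mem_univ j)))
  have hinj : Function.Injective ρ := rep_injective_of_isSimpleGroup ρ hne1
  have hcent : x ^ d ∈ Subgroup.center G := Subgroup.mem_center_iff.2 fun g => hinj (LinearMap.ext fun w => by
    rw [map_mul, map_mul, Module.End.mul_apply, Module.End.mul_apply, hscal, hscal, map_smul])
  rcases IsSimpleGroup.eq_bot_or_eq_top_of_normal (Subgroup.center G) inferInstance with h | h
  · exact hu (Subgroup.mem_bot.1 (h ▸ hcent))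
  · exact hnc fun y z => (Subgroup.mem_center_iff.1 (h ▸ Subgroup.mem_top z) y)

end Cfsg.Agent.Lib.InvChar.SixBound
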