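import Mathlib
import Cfsg.Agent.Lib.Frobenius.UniqueSubgroup

/-!
# Central extensions of generalized quaternion groups
-/

namespace Cfsg.Agent.Lib.InvChar

variable {S : Type*} [Group S] [Finite S]

theorem exists_quaternion_proj (hS : IsPGroup 2 S) {K : Subgroup S} [K.Normal]
    (hnc : ¬ IsMulCommutative (S ⧸ K)) (hu : ∃! x : S ⧸ K, orderOf x = 2) :
    ∃ (n : ℕ) (π : S →* QuaternionGroup n), 2 ≤ n ∧ Even n ∧ Function.Surjective π ∧ π.ker = K := by
  have : Fact (Nat.Prime 2) := ⟨Nat.prime_two⟩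
  rcases Cfsg.Agent.Lib.Frobenius.isCyclic_or_quaternion_of_unique (hS.to_quotient K)
    (fun a b ha hb => by rw [hu.unique ha hb]; exact Subgroup.mem_zpowers b) with hc | ⟨-, m, ⟨e⟩⟩
  · exact absurd hc.isMulCommutative hnc
  · refine ⟨2 ^ (m + 1), e.toMonoidHom.comp (QuotientGroup.mk' K), ?_, ?_,
      e.surjective.comp (QuotientGroup.mk'_surjective K), ?_⟩
    · exact le_self_pow₀ one_le_two (by omega)
    · exact even_two.pow_of_ne_zero (by omega)
    · ext x
      rw [MonoidHom.mem_ker, MonoidHom.comp_apply, MulEquiv.coe_toMonoidHom,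
        e.map_eq_one_iff, QuotientGroup.mk'_apply, QuotientGroup.eq_one_iff]

theorem mem_zpowers_a_or {n : ℕ} [NeZero n] (q : QuaternionGroup n) :
    q ∈ Subgroup.zpowers (QuaternionGroup.a (1 : ZMod (2 * n))) ∨
      ∃ k : ℕ, q = QuaternionGroup.xa 0 * QuaternionGroup.a 1 ^ k := by
  have : NeZero (2 * n) := ⟨by have := NeZero.ne n; omega⟩
  rcases q with i | i
  · exact Or.inl ⟨((i.val : ℕ) : ℤ), by
      show (QuaternionGroup.a 1 : QuaternionGroup n) ^ ((i.val : ℕ) : ℤ) = _
      rw [zpow_natCast, QuaternionGroup.a_one_pow, ZMod.natCast_zmod_val]⟩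
  · exact Or.inr ⟨i.val, by
      simp only [QuaternionGroup.a_one_pow, QuaternionGroup.xa_mul_a, zero_add, ZMod.natCast_val,
        ZMod.cast_id', id]⟩

theorem closure_eq_top {n : ℕ} [NeZero n] {π : S →* QuaternionGroup n} {K : Subgroup S} (hK : π.ker ≤ K)
    {x y : S} (hx : π x = QuaternionGroup.a 1) (hy : π y = QuaternionGroup.xa 0)
    {H : Subgroup S} (hxH : x ∈ H) (hyH : y ∈ H) (hKH : K ≤ H) : H = ⊤ := by
  rw [eq_top_iff]
  intro s _
  rcases mem_zpowers_a_or (π s) with ⟨k, hk⟩ | ⟨k, hk⟩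
  · have : (x ^ k)⁻¹ * s ∈ H := hKH (hK (by
      rw [MonoidHom.mem_ker, map_mul, map_inv, map_zpow, hx, ← hk]; exact inv_mul_cancel _))
    simpa using mul_mem (zpow_mem hxH k) this
  · have : (y * x ^ k)⁻¹ * s ∈ H := hKH (hK (by
      rw [MonoidHom.mem_ker, map_mul, map_inv, map_mul, map_pow, hx, hy, ← hk, inv_mul_cancel]))
    simpa [mul_assoc] using mul_mem (mul_mem hyH (pow_mem hxH k)) this

theorem index_coatom {A : Type*} [Group A] [Finite A] (hA : IsPGroup 2 A) {M : Subgroup A}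
    (hM : IsCoatom M) : M.index = 2 := by
  have : Fact (Nat.Prime 2) := ⟨Nat.prime_two⟩
  have hn : M.Normal := by
    have : Group.IsNilpotent A := hA.isNilpotent
    exact Subgroup.NormalizerCondition.normal_of_coatom M normalizerCondition_of_isNilpotent hM
  have hmap : ∀ H : Subgroup (A ⧸ M), H = ⊥ ∨ H = ⊤ := by
    intro H
    rcases hM.le_iff.mp ((QuotientGroup.ker_mk' M).ge.trans (MonoidHom.ker_le_comap _ H)) with h | h
    · right
      rw [← Subgroup.map_comap_eq_self_of_surjective (QuotientGroup.mk'_surjective M) H, h,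
        Subgroup.map_top_of_surjective _ (QuotientGroup.mk'_surjective M)]
    · left
      rw [← Subgroup.map_comap_eq_self_of_surjective (QuotientGroup.mk'_surjective M) H, h,
        QuotientGroup.map_mk'_self]
  have hne : Nontrivial (A ⧸ M) := (QuotientGroup.nontrivial_iff).mpr hM.1
  obtain ⟨w, hw⟩ := exists_prime_orderOf_dvd_card' (G := A ⧸ M) 2 (by
    obtain ⟨k, hk0, hk⟩ := (hA.to_quotient M).nontrivial_iff_card.mp hne
    rw [hk]; exact dvd_pow_self 2 hk0.ne')
  rw [Subgroup.index_eq_card, ← Subgroup.card_top (G := A ⧸ M),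
    ← (hmap (Subgroup.zpowers w)).resolve_left (by
      rw [Subgroup.zpowers_eq_bot]; intro h; rw [h, orderOf_one] at hw; omega),
    Nat.card_zpowers, hw]

end Cfsg.Agent.Lib.InvChar
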