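import Mathlib

/-!
# Finite unitary groups: elements near the identity commute

In a finite group of unitary transformations the elements all of whose eigenvalues lie within
thirty degrees of `1` commute with each other.  Every abelian subgroup meets the abelian normal
subgroup they generate in a subgroup of index at most `12 ^ n`.
-/

set_option autoImplicit false
set_option linter.unusedSectionVars false

namespace Cfsg.Agent.Lib.InvChar.JordanArcs

open scoped ComplexInnerProductSpace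

variable {G : Type*} [Group G] [Finite G] {V : Type*} [NormedAddCommGroup V]
  [InnerProductSpace ℂ V] [FiniteDimensional ℂ V] (ρ : Representation ℂ G V)
  (hU : ∀ g v w, ⟪ρ g v, ρ g w⟫ = ⟪v, w⟫)

include hU

lemma norm_rho (g : G) (v : V) : ‖ρ g v‖ = ‖v‖ := by
  rw [@norm_eq_sqrt_re_inner ℂ, @norm_eq_sqrt_re_inner ℂ, hU]

lemma rho_mul (g h : G) (v : V) : ρ (g * h) v = ρ g (ρ h v) := by
  rw [map_mul]; rfl

lemma rho_one (v : V) : ρ 1 v = v := by rw [map_one]; rfl

/-- Eigenvalues have modulus one. -/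
lemma norm_eigen {g : G} {μ : ℂ} {v : V} (hv : v ≠ 0) (h : ρ g v = μ • v) : ‖μ‖ = 1 := by
  have := norm_rho ρ hU g v
  rw [h, norm_smul] at this
  exact mul_right_cancel₀ (norm_ne_zero_iff.2 hv) (this.trans (one_mul _).symm)

/-- Eigenvectors for different eigenvalues are orthogonal. -/
lemma inner_eigen {g : G} {μ ν : ℂ} {v w : V} (hμν : μ ≠ ν) (h : ρ g v = μ • v)
    (h' : ρ g w = ν • w) : ⟪v, w⟫ = 0 := by
  by_cases hv : v = 0
  · rw [hv, inner_zero_left]
  have e := hU g v w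
  rw [h, h', inner_smul_left, inner_smul_right] at e
  by_contra hne
  have h1 : (starRingEnd ℂ) μ * ν = 1 := mul_right_cancel₀ hne (by linear_combination e)
  have h2 := Complex.conj_mul' μ
  rw [norm_eigen ρ hU hv h, Complex.ofReal_one, one_pow] at h2
  apply hμν
  linear_combination ν * h2 - μ * h1

/-- Induction over a commuting set: a property of invariant subspaces that holds when the set
acts by scalars and passes to orthogonal sums holds everywhere. -/
theorem invariant_induction (S : Set G) (hS : ∀ a ∈ S, ∀ b ∈ S, a * b = b * a)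
    {P : Submodule ℂ V → Prop}
    (hscal : ∀ W : Submodule ℂ V, (∀ a ∈ S, ∃ μ : ℂ, ∀ v ∈ W, ρ a v = μ • v) → P W)
    (hsum : ∀ U U' : Submodule ℂ V, (∀ a ∈ S, ∀ v ∈ U, ρ a v ∈ U) →
      (∀ a ∈ S, ∀ v ∈ U', ρ a v ∈ U') → (∀ u ∈ U, ∀ u' ∈ U', ⟪u, u'⟫ = 0) → P U → P U' →
      P (U ⊔ U'))
    (W : Submodule ℂ V) (hW : ∀ a ∈ S, ∀ v ∈ W, ρ a v ∈ W) : P W := by
  classical
  induction hn : Module.finrank ℂ W using Nat.strong_induction_on generalizing W with
  | _ n ih =>
    by_cases hsc : ∀ a ∈ S, ∃ μ : ℂ, ∀ v ∈ W, ρ a v = μ • v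
    · exact hscal W hsc
    push Not at hsc
    obtain ⟨a, ha, hns⟩ := hsc
    have hW0 : W ≠ ⊥ := by
      intro e
      obtain ⟨v, hv, hne⟩ := hns 0
      rw [e, Submodule.mem_bot] at hv
      exact hne (by simp [hv])
    haveI : Nontrivial W := Submodule.nontrivial_iff_ne_bot.2 hW0
    obtain ⟨μ, hμ⟩ := Module.End.exists_eigenvalue ((ρ a).restrict (hW a ha))
    obtain ⟨w, hw⟩ := hμ.exists_hasEigenvector
    set U : Submodule ℂ V := W ⊓ Module.End.eigenspace (ρ a) μ with hUdef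
    have hwU : (w : V) ∈ U :=
      ⟨w.2, Module.End.mem_eigenspace_iff.2 (congrArg Subtype.val hw.apply_eq_smul)⟩
    have hUinv : ∀ b ∈ S, ∀ v ∈ U, ρ b v ∈ U := by
      intro b hb v hv
      refine ⟨hW b hb v hv.1, Module.End.mem_eigenspace_iff.2 ?_⟩
      rw [← rho_mul ρ hU, hS a ha b hb, rho_mul ρ hU, Module.End.mem_eigenspace_iff.1 hv.2, map_smul]
    set U' : Submodule ℂ V := W ⊓ Uᗮ with hU'def
    have hU'inv : ∀ b ∈ S, ∀ v ∈ U', ρ b v ∈ U' := by
      intro b hb v hv
      refine ⟨hW b hb v hv.1, fun u hu => ?_⟩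
      have hbij : ∀ u ∈ U, ∃ u₀ ∈ U, ρ b u₀ = u := by
        intro u hu
        have hinj : Function.Injective ((ρ b).restrict (hUinv b hb)) := fun x y e => by
          have e' : ρ b (x : V) = ρ b (y : V) := congrArg Subtype.val e
          have := congrArg (ρ b⁻¹) e'
          rw [← rho_mul ρ hU, ← rho_mul ρ hU, inv_mul_cancel, rho_one ρ hU, rho_one ρ hU] at this
          exact Subtype.ext this
        obtain ⟨u₀, hu₀⟩ := LinearMap.surjective_of_injective hinj ⟨u, hu⟩
        exact ⟨u₀, u₀.2, congrArg Subtype.val hu₀⟩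
      obtain ⟨u₀, hu₀, rfl⟩ := hbij u hu
      rw [hU]
      exact hv.2 u₀ hu₀
    have hUW : U ≤ W := inf_le_left
    have hsup : U ⊔ U' = W := by
      rw [hU'def, inf_comm]
      exact Submodule.sup_orthogonal_inf_of_hasOrthogonalProjection hUW
    have horth : ∀ u ∈ U, ∀ u' ∈ U', ⟪u, u'⟫ = 0 := fun u hu u' hu' => hu'.2 u hu
    have hlt : Module.finrank ℂ U < n := by
      subst hn
      refine Submodule.finrank_lt_finrank_of_lt (lt_of_le_of_ne hUW fun e => ?_)
      obtain ⟨v, hv, hne⟩ := hns μ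
      rw [← e] at hv
      exact hne (Module.End.mem_eigenspace_iff.1 hv.2)
    have hlt' : Module.finrank ℂ U' < n := by
      subst hn
      refine Submodule.finrank_lt_finrank_of_lt (lt_of_le_of_ne inf_le_left fun e => ?_)
      have hw' : (w : V) ∈ U' := by rw [e]; exact w.2
      have := horth _ hwU _ hw'
      rw [inner_self_eq_zero] at this
      exact hw.2 (Subtype.ext this)
    rw [← hsup]
    exact hsum U U' hUinv hU'inv horth (ih _ hlt U hUinv rfl) (ih _ hlt' U' hU'inv rfl)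

/-- The centre of the arc of sixty degrees around `1`. -/
noncomputable def arcCentre : ℝ := Real.sqrt 3 / 2

omit hU in
lemma arcCentre_sq : arcCentre ^ 2 = 3 / 4 := by
  rw [arcCentre, div_pow, Real.sq_sqrt (by norm_num)]; norm_num

omit hU in
lemma half_lt_arcCentre : 1 / 2 < arcCentre := by
  have h := arcCentre_sq
  have h0 : 0 ≤ arcCentre := by unfold arcCentre; positivity
  nlinarith

/-- All eigenvalues lie strictly within thirty degrees of `1`. -/
def IsNear (g : G) : Prop :=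
  ∀ (μ : ℂ) (v : V), v ≠ 0 → ρ g v = μ • v → ‖μ - (arcCentre : ℂ)‖ < 1 / 2

lemma exists_radius {g : G} (hg : IsNear ρ g) :
    ∃ r : ℝ, 0 ≤ r ∧ r < 1 / 2 ∧ ∀ v : V, ‖ρ g v - (arcCentre : ℂ) • v‖ ≤ r * ‖v‖ := by
  classical
  have hfin : Set.Finite {μ : ℂ | Module.End.HasEigenvalue (ρ g) μ} := Module.End.finite_hasEigenvalue _
  let R : Finset ℝ := insert 0 (hfin.toFinset.image fun μ => ‖μ - (arcCentre : ℂ)‖)
  have hR : R.Nonempty := Finset.insert_nonempty _ _
  set r := R.max' hR with hr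
  have hr0 : 0 ≤ r := R.le_max' 0 (Finset.mem_insert_self _ _)
  have hrlt : r < 1 / 2 := by
    rcases Finset.mem_insert.1 (R.max'_mem hR) with e | e
    · rw [hr, e]; norm_num
    · obtain ⟨μ, hμ, e'⟩ := Finset.mem_image.1 e
      rw [hr, ← e']
      obtain ⟨v, hv⟩ := ((Set.Finite.mem_toFinset hfin).1 hμ).exists_hasEigenvector
      exact hg μ v hv.2 hv.apply_eq_smul
  refine ⟨r, hr0, hrlt, fun v => ?_⟩
  refine invariant_induction ρ hU {g} (by simp)
    (P := fun W => ∀ v ∈ W, ‖ρ g v - (arcCentre : ℂ) • v‖ ≤ r * ‖v‖) ?_ ?_ ⊤ (by simp) v trivial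
  · intro W hW v hv
    obtain ⟨μ, hμ⟩ := hW g rfl
    by_cases hv0 : v = 0
    · simp [hv0]
    rw [hμ v hv, ← sub_smul, norm_smul]
    refine mul_le_mul_of_nonneg_right (R.le_max' _ (Finset.mem_insert_of_mem
      (Finset.mem_image.2 ⟨μ, (Set.Finite.mem_toFinset hfin).2 ?_, rfl⟩))) (norm_nonneg _)
    exact Module.End.hasEigenvalue_of_hasEigenvector
      ⟨Module.End.mem_eigenspace_iff.2 (hμ v hv), hv0⟩
  · intro U U' hUi hU'i horth hPU hPU' v hv
    obtain ⟨u, hu, u', hu', rfl⟩ := Submodule.mem_sup.1 hv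
    have h1 := hPU u hu
    have h2 := hPU' u' hu'
    have o2 : ⟪ρ g u - (arcCentre : ℂ) • u, ρ g u' - (arcCentre : ℂ) • u'⟫ = 0 :=
      horth _ (U.sub_mem (hUi g rfl u hu) (U.smul_mem _ hu))
        _ (U'.sub_mem (hU'i g rfl u' hu') (U'.smul_mem _ hu'))
    have e1 := norm_add_sq_eq_norm_sq_add_norm_sq_of_inner_eq_zero u u' (horth u hu u' hu')
    have e2 := norm_add_sq_eq_norm_sq_add_norm_sq_of_inner_eq_zero _ _ o2
    rw [map_add, smul_add, add_sub_add_comm]
    set A := ρ g u - (arcCentre : ℂ) • u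
    set B := ρ g u' - (arcCentre : ℂ) • u'
    have h1' := mul_self_le_mul_self (norm_nonneg _) h1
    have h2' := mul_self_le_mul_self (norm_nonneg _) h2
    refine nonneg_le_nonneg_of_sq_le_sq (by positivity) ?_
    have e3 : r * r * (‖u + u'‖ * ‖u + u'‖) = r * r * (‖u‖ * ‖u‖ + ‖u'‖ * ‖u'‖) := by rw [e1]
    nlinarith

/-- A uniform bound on `g - 1`. -/
def Moves (g : G) (δ : ℝ) : Prop := ∀ v : V, ‖ρ g v - v‖ ≤ δ * ‖v‖

lemma moves_of_near {g : G} (hg : IsNear ρ g) : ∃ δ : ℝ, 0 ≤ δ ∧ δ < 1 ∧ Moves ρ g δ := by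
  obtain ⟨r, hr0, hr, h⟩ := exists_radius ρ hU hg
  have hc := half_lt_arcCentre
  have hc1 : arcCentre ≤ 1 := by
    have h := arcCentre_sq
    nlinarith
  refine ⟨r + (1 - arcCentre), by linarith, by linarith, fun v => ?_⟩
  have e : ρ g v - v = (ρ g v - (arcCentre : ℂ) • v) + (((arcCentre - 1 : ℝ)) : ℂ) • v := by
    push_cast; rw [sub_smul, one_smul]; abel
  rw [e]
  refine (norm_add_le _ _).trans ?_
  rw [norm_smul, Complex.norm_real, Real.norm_eq_abs, abs_of_nonpos (by linarith), add_mul]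
  exact add_le_add (h v) (le_of_eq (by ring))

lemma moves_commutator {a b : G} {r δ : ℝ} (hr : 0 ≤ r)
    (ha : ∀ v : V, ‖ρ a v - (arcCentre : ℂ) • v‖ ≤ r * ‖v‖) (hδ : 0 ≤ δ) (hb : Moves ρ b δ) :
    Moves ρ (a * b * a⁻¹ * b⁻¹) (2 * r * δ) := by
  intro v
  set w := ρ (a⁻¹ * b⁻¹) v with hw
  have e1 : ρ (a * b * a⁻¹ * b⁻¹) v = ρ a (ρ b w) := by
    rw [hw, ← rho_mul ρ hU, ← rho_mul ρ hU]; group
  have e2 : v = ρ b (ρ a w) := by
    rw [hw, ← rho_mul ρ hU, ← rho_mul ρ hU, show b * a * (a⁻¹ * b⁻¹) = 1 by group, rho_one ρ hU]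
  have hnw : ‖w‖ = ‖v‖ := by rw [hw, norm_rho ρ hU]
  rw [e1]
  conv_lhs => rw [e2]
  have key : ρ a (ρ b w) - ρ b (ρ a w)
      = (ρ a (ρ b w - w) - (arcCentre : ℂ) • (ρ b w - w))
        - (ρ b (ρ a w - (arcCentre : ℂ) • w) - (ρ a w - (arcCentre : ℂ) • w)) := by
    simp only [map_sub, map_smul, smul_sub]; abel
  rw [key]
  refine (norm_sub_le _ _).trans ?_
  have h1 : ‖ρ a (ρ b w - w) - (arcCentre : ℂ) • (ρ b w - w)‖ ≤ r * (δ * ‖v‖) :=
    (ha _).trans (mul_le_mul_of_nonneg_left (hnw ▸ hb w) hr)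
  have h2 : ‖ρ b (ρ a w - (arcCentre : ℂ) • w) - (ρ a w - (arcCentre : ℂ) • w)‖ ≤ δ * (r * ‖v‖) :=
    (hb _).trans (mul_le_mul_of_nonneg_left (hnw ▸ ha w) hδ)
  linarith

/-- If `b` moves every vector less than a right angle and `a` commutes with its conjugate by
`b`, then `a` commutes with `b`. -/
lemma commute_of_commute_conj (hinj : Function.Injective ρ) {a b : G} {δ : ℝ}
    (hδ : δ < 1) (hb : Moves ρ b δ) (hc : a * (b * a * b⁻¹) = b * a * b⁻¹ * a) :
    a * b = b * a := by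
  apply hinj
  refine LinearMap.ext fun v => ?_
  refine invariant_induction ρ hU {a} (by simp) (P := fun W => ∀ v ∈ W, ρ (a * b) v = ρ (b * a) v)
    ?_ (fun U U' _ _ _ hU1 hU2 v hv => ?_) ⊤ (by simp) v trivial
  swap
  · obtain ⟨u, hu, u', hu', rfl⟩ := Submodule.mem_sup.1 hv
    rw [map_add, map_add, hU1 u hu, hU2 u' hu']
  intro W hW u hu
  obtain ⟨l, hl⟩ := hW a rfl
  set a' := b * a * b⁻¹ with ha'
  set U := Module.End.eigenspace (ρ a') l with hUdef
  have hUa : ∀ x ∈ U, ρ a x ∈ U := fun x hx => by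
    rw [hUdef, Module.End.mem_eigenspace_iff] at hx ⊢
    rw [← rho_mul ρ hU, ← hc, rho_mul ρ hU, hx, map_smul]
  have hall : ∀ x ∈ U, ρ a x = l • x := by
    intro x hx
    refine invariant_induction ρ hU {a} (by simp) (P := fun Y => Y ≤ U → ∀ x ∈ Y, ρ a x = l • x)
      ?_ (fun U₁ U₂ _ _ _ h1 h2 hle x hx => ?_) U
      (fun c hc' => by rw [Set.mem_singleton_iff.1 hc']; exact hUa) le_rfl x hx
    swap
    · obtain ⟨y, hy, y', hy', rfl⟩ := Submodule.mem_sup.1 hx
      rw [map_add, smul_add, h1 (le_sup_left.trans hle) y hy, h2 (le_sup_right.trans hle) y' hy']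
    intro Y hY hle x hx
    obtain ⟨μ, hμ⟩ := hY a rfl
    by_cases hμl : μ = l
    · rw [← hμl]; exact hμ x hx
    have hx' : ρ a' x = l • x := Module.End.mem_eigenspace_iff.1 (hle hx)
    set u' := ρ b⁻¹ x with hu'
    have hu'l : ρ a u' = l • u' := by
      rw [hu', ← rho_mul ρ hU, show a * b⁻¹ = b⁻¹ * a' by rw [ha']; group, rho_mul ρ hU, hx', map_smul]
    have hbu : ρ b u' = x := by
      rw [hu', ← rho_mul ρ hU, mul_inv_cancel, rho_one ρ hU]
    have horth : ⟪x, u'⟫ = 0 := inner_eigen ρ hU hμl (hμ x hx) hu'l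
    have h1 := hb u'
    rw [hbu] at h1
    have h2 : ‖x - u'‖ ^ 2 = ‖x‖ ^ 2 + ‖u'‖ ^ 2 := by
      rw [@norm_sub_sq ℂ, horth]; simp
    have hnx : ‖x‖ = ‖u'‖ := by rw [hu', norm_rho ρ hU]
    have hz : ‖u'‖ = 0 := by
      by_contra hne
      have hp : 0 < ‖u'‖ := lt_of_le_of_ne (norm_nonneg _) (Ne.symm hne)
      have : δ * ‖u'‖ < ‖u'‖ := by nlinarith
      nlinarith [norm_nonneg (x - u'), mul_self_lt_mul_self (norm_nonneg _) (h1.trans_lt this)]
    have : x = 0 := norm_eq_zero.1 (hnx.trans hz)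
    simp [this]
  have hbU : ρ b u ∈ U := by
    rw [hUdef, Module.End.mem_eigenspace_iff, ← rho_mul ρ hU, show a' * b = b * a by rw [ha']; group,
      rho_mul ρ hU, hl u hu, map_smul]
  rw [rho_mul ρ hU, rho_mul ρ hU, hall _ hbU, hl u hu, map_smul]

/-- Near elements commute. -/
theorem commute_of_near (hinj : Function.Injective ρ) {a b : G} (ha : IsNear ρ a) (hb : IsNear ρ b) :
    a * b = b * a := by
  classical
  haveI := Fintype.ofFinite G
  obtain ⟨r, hr0, hr, har⟩ := exists_radius ρ hU ha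
  obtain ⟨δ, hδ0, hδ, hbδ⟩ := moves_of_near ρ hU hb
  let f : ℕ → G := fun k => Nat.rec b (fun _ x => a * x * a⁻¹ * x⁻¹) k
  have hf : ∀ k, Moves ρ (f k) ((2 * r) ^ k * δ) := by
    intro k
    induction k with
    | zero => simpa [f] using hbδ
    | succ k ih =>
      have := moves_commutator ρ hU hr0 har (by positivity) ih
      rw [show (2 * r) ^ (k + 1) * δ = 2 * r * ((2 * r) ^ k * δ) by ring]
      exact this
  have hε : ∀ g : G, ∃ ε : ℝ, 0 < ε ∧ ∀ t, t < ε → Moves ρ g t → g = 1 := by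
    intro g
    by_cases hg : g = 1
    · exact ⟨1, one_pos, fun _ _ _ => hg⟩
    obtain ⟨v, hv⟩ : ∃ v, ρ g v ≠ v := by
      by_contra h
      push Not at h
      exact hg (hinj (LinearMap.ext fun v => (h v).trans (rho_one ρ hU v).symm))
    have hv0 : v ≠ 0 := fun e => hv (by rw [e, map_zero])
    refine ⟨‖ρ g v - v‖ / ‖v‖, div_pos (norm_pos_iff.2 (sub_ne_zero.2 hv)) (norm_pos_iff.2 hv0),
      fun t ht hm => absurd (hm v) (not_le.2 ?_)⟩
    exact (lt_div_iff₀ (norm_pos_iff.2 hv0)).1 ht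
  choose ε hε0 hε1 using hε
  obtain ⟨g₀, -, hg₀⟩ := Finset.exists_min_image Finset.univ ε Finset.univ_nonempty
  obtain ⟨k, hk⟩ := exists_pow_lt_of_lt_one (hε0 g₀) (show 2 * r < 1 by linarith)
  have hfk : f k = 1 := by
    refine hε1 _ _ (lt_of_lt_of_le ?_ (hg₀ _ (Finset.mem_univ _))) (hf k)
    exact lt_of_le_of_lt (mul_le_of_le_one_right (by positivity) hδ.le) hk
  -- descend
  suffices h : ∀ k, a * f k = f k * a → a * b = b * a from h k (by rw [hfk, mul_one, one_mul])
  intro k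
  induction k with
  | zero => exact fun h => h
  | succ j ih =>
    intro hj
    apply ih
    have hδj : (2 * r) ^ j * δ < 1 :=
      lt_of_le_of_lt (mul_le_of_le_one_left hδ0 (pow_le_one₀ (by linarith) (by linarith))) hδ
    refine commute_of_commute_conj ρ hU hinj hδj (hf j) ?_
    have hj' : a * (a * f j * a⁻¹ * (f j)⁻¹) = (a * f j * a⁻¹ * (f j)⁻¹) * a := hj
    set x := f j
    have h2 : a * (x * a⁻¹ * x⁻¹) = x * a⁻¹ * x⁻¹ * a :=
      calc a * (x * a⁻¹ * x⁻¹) = a⁻¹ * (a * (a * x * a⁻¹ * x⁻¹)) := by group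
        _ = a⁻¹ * (a * x * a⁻¹ * x⁻¹ * a) := by rw [hj']
        _ = _ := by group
    have := (show Commute a (x * a⁻¹ * x⁻¹) from h2).inv_right
    rw [show (x * a⁻¹ * x⁻¹)⁻¹ = x * a * x⁻¹ by group] at this
    exact this.eq

lemma isNear_conj {g : G} (hg : IsNear ρ g) (x : G) : IsNear ρ (x * g * x⁻¹) := by
  intro μ v hv h
  refine hg μ (ρ x⁻¹ v) (fun e => hv ?_) ?_
  · have := congrArg (ρ x) e
    rwa [map_zero, ← rho_mul ρ hU, mul_inv_cancel, rho_one ρ hU] at this
  · rw [← map_smul, ← h, ← rho_mul ρ hU, ← rho_mul ρ hU]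
    group

/-- The abelian normal subgroup generated by the near elements. -/
theorem exists_abelian_normal (hinj : Function.Injective ρ) :
    ∃ A : Subgroup G, A.Normal ∧ (∀ x ∈ A, ∀ y ∈ A, x * y = y * x) ∧
      ∀ g, IsNear ρ g → g ∈ A := by
  refine ⟨Subgroup.closure {g | IsNear ρ g}, ⟨fun a ha x => ?_⟩, fun x hx y hy => ?_,
    fun g hg => Subgroup.subset_closure hg⟩
  · induction ha using Subgroup.closure_induction with
    | mem y hy => exact Subgroup.subset_closure (isNear_conj ρ hU hy x)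
    | one => simp
    | mul y z _ _ ihy ihz =>
      rw [show x * (y * z) * x⁻¹ = (x * y * x⁻¹) * (x * z * x⁻¹) by group]
      exact mul_mem ihy ihz
    | inv y _ ih =>
      rw [show x * y⁻¹ * x⁻¹ = (x * y * x⁻¹)⁻¹ by group]
      exact inv_mem ih
  · have h1 : ∀ s, IsNear ρ s → ∀ y ∈ Subgroup.closure {g | IsNear ρ g}, Commute s y := by
      intro s hs y hy
      induction hy using Subgroup.closure_induction with
      | mem z hz => exact commute_of_near ρ hU hinj hs hz
      | one => exact Commute.one_right s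
      | mul _ _ _ _ i j => exact i.mul_right j
      | inv _ _ i => exact i.inv_right
    have h2 : Commute x y := by
      induction hx using Subgroup.closure_induction with
      | mem z hz => exact h1 z hz y hy
      | one => exact Commute.one_left y
      | mul _ _ _ _ i j => exact i.mul_left j
      | inv _ _ i => exact i.inv_left
    exact h2.eq

omit hU in
lemma near_of_sector {μ ν : ℂ} (hμ : ‖μ‖ = 1) (hν : ‖ν‖ = 1)
    (h : ⌈(μ.arg + Real.pi) / (Real.pi / 6)⌉ = ⌈(ν.arg + Real.pi) / (Real.pi / 6)⌉) :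
    ‖μ⁻¹ * ν - (arcCentre : ℂ)‖ < 1 / 2 := by
  have hlt := Int.abs_sub_lt_one_of_floor_eq_floor (R := ℝ)
    (a := -((μ.arg + Real.pi) / (Real.pi / 6))) (b := -((ν.arg + Real.pi) / (Real.pi / 6)))
    (by rw [Int.floor_neg, Int.floor_neg, h])
  set d := ν.arg - μ.arg with hd
  have hd6 : |d| < Real.pi / 6 := by
    rw [show -((μ.arg + Real.pi) / (Real.pi / 6)) - -((ν.arg + Real.pi) / (Real.pi / 6))
      = d / (Real.pi / 6) by rw [hd]; ring, abs_div, abs_of_pos (by positivity : (0:ℝ) < Real.pi / 6),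
      div_lt_one (by positivity)] at hlt
    exact hlt
  have e : μ⁻¹ * ν = Complex.exp ((d : ℂ) * Complex.I) := by
    have e1 := Complex.norm_mul_exp_arg_mul_I μ
    have e2 := Complex.norm_mul_exp_arg_mul_I ν
    rw [hμ, Complex.ofReal_one, one_mul] at e1
    rw [hν, Complex.ofReal_one, one_mul] at e2
    rw [← e1, ← e2, ← Complex.exp_neg, ← Complex.exp_add, hd]
    congr 1
    push_cast
    ring
  have hcos : arcCentre < Real.cos d := by
    rw [← Real.cos_abs, arcCentre, ← Real.cos_pi_div_six]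
    exact Real.cos_lt_cos_of_nonneg_of_le_pi (abs_nonneg _) (by linarith [Real.pi_pos]) hd6
  refine lt_of_pow_lt_pow_left₀ 2 (by norm_num) ?_
  rw [e, Complex.sq_norm, Complex.normSq_apply]
  simp only [Complex.sub_re, Complex.sub_im, Complex.exp_ofReal_mul_I_re,
    Complex.exp_ofReal_mul_I_im, Complex.ofReal_re, Complex.ofReal_im, sub_zero]
  have h1 := arcCentre_sq
  have h2 := Real.sin_sq_add_cos_sq d
  have h3 := half_lt_arcCentre
  nlinarith

/-- Abelian subgroups almost lie in the near subgroup. -/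
theorem index_le (A : Subgroup G) (hA : ∀ g, IsNear ρ g → g ∈ A) (H : Subgroup G)
    (hH : ∀ x ∈ H, ∀ y ∈ H, x * y = y * x) :
    (A.subgroupOf H).index ≤ 12 ^ Module.finrank ℂ V := by
  classical
  let E : Set V := {v | ∀ a ∈ H, ∃ μ : ℂ, ρ a v = μ • v}
  have hspan : Submodule.span ℂ E = ⊤ := by
    rw [eq_top_iff]
    refine invariant_induction ρ hU (H : Set G) hH (P := fun W => W ≤ Submodule.span ℂ E)
      (fun W hW v hv => Submodule.subset_span fun a ha => ?_)
      (fun U U' _ _ _ h1 h2 => sup_le h1 h2) ⊤ (fun _ _ _ _ => trivial)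
    obtain ⟨μ, hμ⟩ := hW a ha
    exact ⟨μ, hμ v hv⟩
  obtain ⟨B, hBE, hBspan, hBli⟩ := exists_linearIndependent ℂ E
  haveI : Fintype B := hBli.setFinite.fintype
  have hBcard : Fintype.card B ≤ Module.finrank ℂ V := hBli.fintype_card_le_finrank
  have heig : ∀ (b : B) (a : H), ∃ μ : ℂ, ρ (a : G) (b : V) = μ • (b : V) :=
    fun b a => hBE b.2 a a.2
  choose lam hlam using heig
  have hmul : ∀ (b : B) (x y : H), lam b (x * y) = lam b x * lam b y := by
    intro b x y
    have h1 := hlam b (x * y)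
    rw [Subgroup.coe_mul, rho_mul ρ hU, hlam, map_smul, hlam, smul_smul] at h1
    have := smul_left_injective ℂ (hBli.ne_zero b) h1
    rw [← this]; ring
  have hone : ∀ b : B, lam b 1 = 1 := by
    intro b
    have h1 := hlam b 1
    rw [OneMemClass.coe_one, rho_one ρ hU] at h1
    exact (smul_left_injective ℂ (hBli.ne_zero b) ((one_smul ℂ _).trans h1)).symm
  let f : H → B → Fin 12 := fun a b =>
    ⟨(⌈((lam b a).arg + Real.pi) / (Real.pi / 6)⌉ - 1).toNat, by
      have hp : 0 < Real.pi / 6 := by positivity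
      have h2 : ⌈((lam b a).arg + Real.pi) / (Real.pi / 6)⌉ ≤ 12 := by
        rw [Int.ceil_le, div_le_iff₀ hp]
        push_cast
        linarith [Complex.arg_le_pi (lam b a)]
      omega⟩
  have hfA : ∀ x y : H, f x = f y → (x⁻¹ * y : H) ∈ A.subgroupOf H := by
    intro x y hxy
    refine hA _ fun μ v hv hμv => ?_
    have hceil : ∀ b : B, ⌈((lam b x).arg + Real.pi) / (Real.pi / 6)⌉
        = ⌈((lam b y).arg + Real.pi) / (Real.pi / 6)⌉ := by
      intro b
      have hpos : ∀ a : H, 0 < ⌈((lam b a).arg + Real.pi) / (Real.pi / 6)⌉ := fun a => by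
        rw [Int.ceil_pos]
        exact div_pos (by linarith [Complex.neg_pi_lt_arg (lam b a)]) (by positivity)
      have e := congrArg Fin.val (congrFun hxy b)
      simp only [f] at e
      have := hpos x
      have := hpos y
      omega
    have hsp : v ∈ Submodule.span ℂ (Set.range (Subtype.val : B → V)) := by
      rw [Subtype.range_coe_subtype, Set.setOf_mem_eq, hBspan, hspan]; trivial
    obtain ⟨co, rfl⟩ := (Submodule.mem_span_range_iff_exists_fun ℂ).1 hsp
    have hsum : ∑ b : B, (co b * (lam b (x⁻¹ * y) - μ)) • (b : V) = 0 := by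
      simp only [mul_sub, sub_smul, Finset.sum_sub_distrib]
      rw [sub_eq_zero, show ∑ b : B, (co b * μ) • (b : V) = μ • ∑ b : B, co b • (b : V) by
        rw [Finset.smul_sum]; exact Finset.sum_congr rfl fun b _ => by rw [smul_smul, mul_comm],
        ← hμv, map_sum]
      exact Finset.sum_congr rfl fun b _ => by
        rw [map_smul, show ρ (H.subtype (x⁻¹ * y)) (b : V) = lam b (x⁻¹ * y) • (b : V) from hlam b (x⁻¹ * y),
          smul_smul]
    have hz := Fintype.linearIndependent_iff.1 hBli _ hsum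
    obtain ⟨b, hb⟩ : ∃ b, co b ≠ 0 := by
      by_contra h
      push Not at h
      exact hv (by simp [h])
    have hμ : μ = lam b (x⁻¹ * y) :=
      (sub_eq_zero.1 ((mul_eq_zero.1 (hz b)).resolve_left hb)).symm
    have hnorm : ∀ a : H, ‖lam b a‖ = 1 := fun a => norm_eigen ρ hU (hBli.ne_zero b) (hlam b a)
    have hinv : lam b x⁻¹ = (lam b x)⁻¹ := by
      refine eq_inv_of_mul_eq_one_left ?_
      rw [← hmul, inv_mul_cancel, hone]
    rw [hμ, hmul, hinv]
    exact near_of_sector (hnorm x) (hnorm y) (hceil b)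
  have hle : (A.subgroupOf H).index ≤ Nat.card (B → Fin 12) := by
    refine Nat.card_le_card_of_injective (fun q : H ⧸ A.subgroupOf H => f q.out) fun p q e => ?_
    rw [← QuotientGroup.out_eq' p, ← QuotientGroup.out_eq' q]
    exact QuotientGroup.eq.2 (hfA _ _ e)
  refine hle.trans ?_
  rw [Nat.card_fun, Nat.card_eq_fintype_card, Nat.card_eq_fintype_card, Fintype.card_fin]
  exact Nat.pow_le_pow_right (by norm_num) hBcard

end Cfsg.Agent.Lib.InvChar.JordanArcs
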