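import Mathlib
import Cfsg.Prelude
import Cfsg.Agent.Lib.Characters
import Cfsg.Agent.Lib.Characters.ExtensionChar
import Cfsg.Agent.Lib.InvChar.GaloisChar

/-!
# Large primes in finite linear groups: an abelian subgroup with all large Sylow parts
-/

set_option autoImplicit false

namespace Cfsg.Agent.Lib.InvChar.JordanHall

open Cfsg Cfsg.Agent.Lib.Characters Module
open scoped ComplexConjugate

universe u

variable {G : Type u} [Group G]

/-- `x` acts as an element commuting with the whole image. -/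
def Central {d : ℕ} (σ : Representation ℂ G (Fin d → ℂ)) (x : G) : Prop :=
  ∀ h, σ x * σ h = σ h * σ x

/-- An endomorphism of order dividing a large prime with constant traces on powers is trivial. -/
theorem eq_one_of_trace_const {d : ℕ} (f : End ℂ (Fin d → ℂ)) {p : ℕ} (hp : p.Prime)
    (hpd : d + 1 < p) (hf : f ^ p = 1) (hint : IsIntegral ℤ (LinearMap.trace ℂ _ f))
    (hconst : ∀ l, ¬ p ∣ l → LinearMap.trace ℂ _ (f ^ l) = LinearMap.trace ℂ _ f) :
    f = 1 := by
  set s : End ℂ (Fin d → ℂ) := ∑ l ∈ Finset.range p, f ^ l with hs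
  have hsf : s * f = s := by
    have h := geom_sum_mul f p
    rw [hf, sub_self, mul_sub, mul_one, sub_eq_zero] at h
    exact h
  have hsl : ∀ l, s * f ^ l = s := by
    intro l
    induction l with
    | zero => simp
    | succ l ih => rw [pow_succ, ← mul_assoc, ih, hsf]
  have hp0 : (p : ℂ) ≠ 0 := Nat.cast_ne_zero.2 hp.ne_zero
  have hss : s * s = (p : ℂ) • s := by
    conv_lhs => rw [hs, Finset.mul_sum, Finset.sum_congr rfl fun l _ => (hs ▸ hsl l),
      Finset.sum_const, Finset.card_range, ← Nat.cast_smul_eq_nsmul ℂ]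
  set P0 : End ℂ (Fin d → ℂ) := (p : ℂ)⁻¹ • s with hP0
  have hidem : IsIdempotentElem P0 := by
    unfold IsIdempotentElem
    rw [hP0, smul_mul_smul_comm, hss, smul_smul]
    congr 1
    field_simp
  have htr : LinearMap.trace ℂ _ P0 = (finrank ℂ (LinearMap.range P0) : ℂ) :=
    (LinearMap.IsProj.trace (LinearMap.IsIdempotentElem.isProj_range _ hidem))
  set F := finrank ℂ (LinearMap.range P0) with hF
  have hFd : F ≤ d := by
    have := Submodule.finrank_le (LinearMap.range P0)
    rwa [Module.finrank_fin_fun] at this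
  obtain ⟨p', rfl⟩ : ∃ p', p = p' + 1 := ⟨p - 1, by have := hp.one_lt; omega⟩
  set r := LinearMap.trace ℂ _ f with hr
  have hts : LinearMap.trace ℂ _ s = (d : ℂ) + (p' : ℂ) * r := by
    rw [hs, map_sum, Finset.sum_range_succ', pow_zero, LinearMap.trace_one, Module.finrank_fin_fun,
      Finset.sum_congr rfl fun l hl => hconst (l + 1) ?_, Finset.sum_const, Finset.card_range,
      nsmul_eq_mul]
    · ring
    · intro hd
      have := Nat.le_of_dvd (by omega) hd
      rw [Finset.mem_range] at hl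
      omega
  rw [hP0, map_smul, hts, smul_eq_mul, inv_mul_eq_iff_eq_mul₀ hp0] at htr
  have hp'0 : (p' : ℂ) ≠ 0 := Nat.cast_ne_zero.2 (by omega)
  have hrq : r = ((((p' + 1) * F : ℚ) - d) / p' : ℚ) := by
    push_cast
    push_cast at htr
    field_simp
    linear_combination htr
  obtain ⟨z, hz⟩ := exists_int_of_isIntegral_rat (hrq ▸ hint)
  have hzeq : ((p' + 1 : ℤ) * F - d) = z * p' := by
    have hp'q : (p' : ℚ) ≠ 0 := Nat.cast_ne_zero.2 (by omega)
    rw [div_eq_iff hp'q] at hz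
    exact_mod_cast hz
  have hdiv : (p' : ℤ) ∣ ((F : ℤ) - d) := ⟨z - F, by linear_combination hzeq⟩
  have hFeq : F = d := by
    by_contra hne
    have hne' : ((F : ℤ) - d) ≠ 0 := by omega
    have := Int.le_of_dvd (by omega) ((dvd_neg).2 hdiv)
    omega
  have htop : LinearMap.range P0 = ⊤ :=
    Submodule.eq_top_of_finrank_eq (by rw [← hF, hFeq, Module.finrank_fin_fun])
  have hP1 : P0 = 1 := by
    refine LinearMap.ext fun v => ?_
    obtain ⟨w, rfl⟩ : v ∈ LinearMap.range P0 := htop ▸ Submodule.mem_top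
    exact congrArg (fun T : End ℂ (Fin d → ℂ) => T w) hidem
  calc f = P0 * f := by rw [hP1, one_mul]
    _ = P0 := by rw [hP0, smul_mul_assoc, hsf]
    _ = 1 := hP1

/-- The exponent projecting on the `p`-part. -/
theorem exists_proj {N p : ℕ} (hp : p.Prime) (hN : N ≠ 0) :
    ∃ e : ℕ, e ≡ 1 [MOD p ^ N.factorization p] ∧ e ≡ 0 [MOD N / p ^ N.factorization p] := by
  obtain ⟨e, h1, h2⟩ := Nat.chineseRemainder
    ((Nat.coprime_ordCompl hp hN).pow_left (N.factorization p)) 1 0
  exact ⟨e, h1, h2⟩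

variable [Finite G]

theorem pow_proj_eq_one (g : G) {p e : ℕ}
    (he : e ≡ 0 [MOD Nat.card G / p ^ (Nat.card G).factorization p]) :
    (g ^ e) ^ (p ^ (Nat.card G).factorization p) = 1 := by
  obtain ⟨c, rfl⟩ := Nat.modEq_zero_iff_dvd.1 he
  have h : Nat.card G / p ^ (Nat.card G).factorization p * c * p ^ (Nat.card G).factorization p
      = Nat.card G * c := by
    have := Nat.ordProj_mul_ordCompl_eq_self (Nat.card G) p
    calc _ = p ^ (Nat.card G).factorization p
          * (Nat.card G / p ^ (Nat.card G).factorization p) * c := by ring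
      _ = _ := by rw [this]
  rw [← pow_mul, h, pow_mul, pow_card_eq_one', one_pow]

theorem apply_pow_eq {d : ℕ} (σ : Representation ℂ G (Fin d → ℂ)) {p k e : ℕ} (hp : p.Prime)
    (h1 : e ≡ 1 [MOD p ^ (Nat.card G).factorization p])
    (h0 : e ≡ 0 [MOD Nat.card G / p ^ (Nat.card G).factorization p])
    (hk : k ≡ 1 [MOD Nat.card G / p ^ (Nat.card G).factorization p]) (g : G)
    (hg : σ (g ^ e) = 1) : σ (g ^ k) = σ g := by
  have hN : Nat.card G ≠ 0 := Nat.card_pos.ne'
  have hmod : k + e ≡ 1 + e * k [MOD Nat.card G] := by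
    rw [← Nat.ordProj_mul_ordCompl_eq_self (Nat.card G) p]
    refine (Nat.modEq_and_modEq_iff_modEq_mul
      ((Nat.coprime_ordCompl hp hN).pow_left _)).1 ⟨?_, ?_⟩
    · calc k + e ≡ k + 1 [MOD _] := h1.add_left k
        _ = 1 + 1 * k := by ring
        _ ≡ 1 + e * k [MOD _] := (h1.symm.mul_right k).add_left 1
    · calc k + e ≡ 1 + 0 [MOD _] := hk.add h0
        _ = 1 + 0 * k := by ring
        _ ≡ 1 + e * k [MOD _] := (h0.symm.mul_right k).add_left 1
  have hpow : g ^ k * g ^ e = g * (g ^ e) ^ k := by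
    rw [← pow_add, ← pow_mul, ← pow_succ', add_comm (e * k) 1]
    exact pow_eq_pow_of_modEq hmod (pow_card_eq_one' (x := g))
  have h := congrArg σ hpow
  rw [map_mul, map_mul, map_pow σ (g ^ e), hg, one_pow, mul_one, mul_one] at h
  exact h

/-- If all `p`-singular twists of an irreducible character agree, large `p`-elements are central. -/
theorem eq_one_of_pow_fixed {d : ℕ} (σ : Representation ℂ G (Fin d → ℂ)) {p : ℕ} (hp : p.Prime)
    (hpd : d + 1 < p)
    (hfix : ∀ k, k.Coprime (Nat.card G) →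
      k ≡ 1 [MOD Nat.card G / p ^ (Nat.card G).factorization p] →
      ∀ g, σ.character (g ^ k) = σ.character g)
    (x : G) {i : ℕ} (hx : x ^ p ^ i = 1) : σ x = 1 := by
  classical
  by_contra hne
  have hex : ∃ j, σ (x ^ p ^ j) = 1 := ⟨i, by rw [hx, map_one]⟩
  obtain ⟨j, hj⟩ : ∃ j, Nat.find hex = j + 1 := by
    refine ⟨Nat.find hex - 1, ?_⟩
    have : Nat.find hex ≠ 0 := by
      intro h0
      have := Nat.find_spec hex
      rw [h0, pow_zero, pow_one] at this
      exact hne this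
    omega
  have hmin : σ (x ^ p ^ j) ≠ 1 := Nat.find_min hex (by omega)
  set u := x ^ p ^ j with hu
  have hup : σ u ^ p = 1 := by
    rw [← map_pow, hu, ← pow_mul, ← pow_succ, ← hj]
    exact Nat.find_spec hex
  have hord : u ^ p ^ (Nat.card G).factorization p = 1 := by
    rw [← orderOf_dvd_iff_pow_eq_one]
    obtain ⟨m, -, hm⟩ := (Nat.dvd_prime_pow hp).1 (orderOf_dvd_of_pow_eq_one hx)
    refine (orderOf_pow_dvd (p ^ j)).trans ?_
    rw [hm]
    exact Nat.pow_dvd_pow _ ((hp.pow_dvd_iff_le_factorization Nat.card_pos.ne').1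
      (hm ▸ orderOf_dvd_natCard x))
  refine hmin (eq_one_of_trace_const (σ u) hp hpd hup ?_ fun l hl => ?_)
  · exact IsCharacter.isIntegral ⟨d, σ, rfl⟩ u
  · obtain ⟨k, hk1, hk2⟩ := Nat.chineseRemainder
      ((Nat.coprime_ordCompl hp (Nat.card_pos (α := G)).ne').pow_left
        ((Nat.card G).factorization p)) l 1
    have hkc : k.Coprime (Nat.card G) := by
      rw [← Nat.ordProj_mul_ordCompl_eq_self (Nat.card G) p]
      refine Nat.Coprime.mul_right ?_ ?_
      · have h1 : l.Coprime (p ^ (Nat.card G).factorization p) :=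
          (((Nat.Prime.coprime_iff_not_dvd hp).2 hl).symm).pow_right _
        unfold Nat.Coprime at h1 ⊢
        rw [hk1.gcd_eq]; exact h1
      · unfold Nat.Coprime
        rw [hk2.gcd_eq, Nat.gcd_one_left]
    have := hfix k hkc hk2 u
    rw [pow_eq_pow_of_modEq hk1 hord] at this
    simp only [Representation.character, map_pow] at this
    exact this

/-- Two large primes acting noncentrally in an irreducible representation act noncentrally by
commuting elements. -/
theorem exists_pair_irr {d : ℕ} (σ : Representation ℂ G (Fin d → ℂ)) [σ.IsIrreducible]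
    {p q : ℕ} (hp : p.Prime) (hq : q.Prime) (hpd : d + 1 < p) (hqd : d + 1 < q)
    {x y : G} {i j : ℕ} (hx : x ^ p ^ i = 1) (hy : y ^ q ^ j = 1)
    (hxn : ¬ Central σ x) (hyn : ¬ Central σ y) :
    ∃ a b : G, Commute a b ∧ (∃ k, a ^ p ^ k = 1) ∧ (∃ k, b ^ q ^ k = 1) ∧
      ¬ Central σ a ∧ ¬ Central σ b := by
  classical
  haveI := Fintype.ofFinite G
  have hN : Nat.card G ≠ 0 := Nat.card_pos.ne'
  obtain ⟨ep, hp1, hp0⟩ := exists_proj hp hN
  obtain ⟨eq', hq1, hq0⟩ := exists_proj hq hN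
  by_contra hno
  have hcase : ∀ g, Central σ (g ^ ep) ∨ Central σ (g ^ eq') := by
    intro g
    by_contra h
    rw [not_or] at h
    exact hno ⟨g ^ ep, g ^ eq', (Commute.refl g).pow_pow _ _, ⟨_, pow_proj_eq_one g hp0⟩,
      ⟨_, pow_proj_eq_one g hq0⟩, h.1, h.2⟩
  set m := p ^ (Nat.card G).factorization p * q ^ (Nat.card G).factorization q with hm
  have hd0 : 0 < d := by
    have := finrank_pos_of_isIrreducible σ
    rwa [Module.finrank_fin_fun] at this
  haveI : NeZero m := ⟨Nat.mul_ne_zero (pow_ne_zero _ hp.ne_zero) (pow_ne_zero _ hq.ne_zero)⟩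
  have hdm : d.Coprime m := by
    refine Nat.Coprime.mul_right (Nat.Coprime.pow_right _ ?_) (Nat.Coprime.pow_right _ ?_)
    · exact ((Nat.Prime.coprime_iff_not_dvd hp).2
        fun h => by have := Nat.le_of_dvd hd0 h; omega).symm
    · exact ((Nat.Prime.coprime_iff_not_dvd hq).2
        fun h => by have := Nat.le_of_dvd hd0 h; omega).symm
  obtain ⟨t, ht⟩ : ∃ t : ℕ, m ∣ d * t + 1 := by
    refine ⟨(-(d : ZMod m)⁻¹).val, (ZMod.natCast_eq_zero_iff _ _).1 ?_⟩
    push_cast
    rw [ZMod.natCast_val, ZMod.cast_id, mul_neg, ZMod.coe_mul_inv_eq_one d hdm]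
    simp
  set lam : G →* ℂˣ := detHom σ ^ t with hlam
  set σ' := twistRep lam σ with hσ'
  have hz : ∀ z : G, Central σ z → z ^ m = 1 → σ' z = 1 := by
    intro z hz hzm
    obtain ⟨c, hc⟩ := exists_smul_of_commute σ (σ z) hz
    have hc1 : σ z = c • (1 : End ℂ (Fin d → ℂ)) := hc
    have hcm : c ^ m = 1 := by
      have h : (c ^ m) • (1 : End ℂ (Fin d → ℂ)) = 1 := by
        rw [← one_pow (M := End ℂ (Fin d → ℂ)) m, ← smul_pow, ← hc1, ← map_pow, hzm, map_one,
          one_pow]
      have h2 := congrArg (LinearMap.trace ℂ (Fin d → ℂ)) h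
      rw [map_smul, LinearMap.trace_one, Module.finrank_fin_fun, smul_eq_mul] at h2
      exact (mul_eq_right₀ (Nat.cast_ne_zero.2 hd0.ne')).1 h2
    show (lam z : ℂ) • σ z = 1
    rw [hlam, MonoidHom.pow_apply, Units.val_pow_eq_pow_val, detHom_coe, hc, LinearMap.det_smul,
      LinearMap.det_id, mul_one, Module.finrank_fin_fun, smul_smul, ← pow_mul, ← pow_succ]
    obtain ⟨s, hs⟩ := ht
    rw [hs, pow_mul, hcm, one_pow, one_smul]
    rfl
  have hirr : IsIrrCharacter G σ'.character := by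
    have h := isIrrCharacter_twist lam (isIrrCharacter_of_rep σ)
    have he : σ'.character = fun g => (lam g : ℂ) * σ.character g := by
      funext g
      simp [hσ', twistRep, Representation.character]
    rwa [he]
  have hne : ∀ {w : G}, ¬ Central σ w → σ' w ≠ 1 := by
    intro w hw h1
    refine hw fun h => ?_
    have h2 : σ w = ((lam w)⁻¹ : ℂˣ).1 • (1 : End ℂ (Fin d → ℂ)) := by
      rw [← h1]
      show σ w = _ • ((lam w : ℂ) • σ w)
      rw [smul_smul, ← Units.val_mul, inv_mul_cancel, Units.val_one, one_smul]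
    rw [h2, smul_mul_assoc, mul_smul_comm, one_mul, mul_one]
  have hcentp : ∀ g, Central σ (g ^ ep) → σ' (g ^ ep) = 1 := fun g h => hz _ h (by
    rw [hm, pow_mul, pow_proj_eq_one g hp0, one_pow])
  have hcentq : ∀ g, Central σ (g ^ eq') → σ' (g ^ eq') = 1 := fun g h => hz _ h (by
    rw [hm, mul_comm, pow_mul, pow_proj_eq_one g hq0, one_pow])
  by_cases hfp : ∀ k, k.Coprime (Nat.card G) →
      k ≡ 1 [MOD Nat.card G / p ^ (Nat.card G).factorization p] →
      ∀ g, σ'.character (g ^ k) = σ'.character g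
  · exact hne hxn (eq_one_of_pow_fixed σ' hp hpd hfp x hx)
  by_cases hfq : ∀ k, k.Coprime (Nat.card G) →
      k ≡ 1 [MOD Nat.card G / q ^ (Nat.card G).factorization q] →
      ∀ g, σ'.character (g ^ k) = σ'.character g
  · exact hne hyn (eq_one_of_pow_fixed σ' hq hqd hfq y hy)
  push Not at hfp hfq
  obtain ⟨k, hkc, hk, g₁, hg₁⟩ := hfp
  obtain ⟨l, hlc, hl, g₂, hg₂⟩ := hfq
  set ψ := σ'.character with hψ
  set ψk : G → ℂ := fun g => ψ (g ^ k) with hψk
  set ψl : G → ℂ := fun g => ψ (g ^ l) with hψl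
  have h0 : classInner (ψ - ψk) (ψ - ψl) = 0 := by
    unfold classInner
    refine mul_eq_zero_of_right _ (Finset.sum_eq_zero fun g _ => ?_)
    rcases hcase g with h | h
    · have e : ψ g = ψk g :=
        congrArg (LinearMap.trace ℂ _) (apply_pow_eq σ' hp hp1 hp0 hk g (hcentp g h)).symm
      simp [e]
    · have e : ψ g = ψl g :=
        congrArg (LinearMap.trace ℂ _) (apply_pow_eq σ' hq hq1 hq0 hl g (hcentq g h)).symm
      simp [e]
  have hik := isIrr_comp_pow hirr hkc
  have hil := isIrr_comp_pow hirr hlc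
  have hnk : ψk ≠ ψ := fun h => hg₁ (congrFun h g₁)
  have hnl : ψl ≠ ψ := fun h => hg₂ (congrFun h g₂)
  rw [classInner_sub_left, classInner_sub_right, classInner_sub_right,
    IsIrrCharacter.classInner_self hirr, IsIrrCharacter.classInner_ne hirr hil hnl.symm,
    IsIrrCharacter.classInner_ne hik hirr hnk] at h0
  by_cases hkl : ψk = ψl
  · rw [hkl, IsIrrCharacter.classInner_self hil] at h0
    norm_num at h0
  · rw [IsIrrCharacter.classInner_ne hik hil hkl] at h0
    norm_num at h0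

/-- In a faithful character of small degree a large `p`-subgroup is abelian. -/
theorem commute_of_pGroup {χ : G → ℂ} (hχ : IsCharacter G χ)
    (hf : ∀ g : G, χ g = χ 1 → g = 1) {n : ℕ} (hn : χ 1 = n) {p : ℕ} (hp : p.Prime) (hnp : n < p)
    (P : Subgroup G) (hP : IsPGroup p P) : ∀ a ∈ P, ∀ b ∈ P, a * b = b * a := by
  classical
  haveI := Fintype.ofFinite P
  haveI := Fintype.ofFinite (IrrCharacter P)
  haveI := Fact.mk hp
  intro a ha b hb
  obtain ⟨m, ρ, hρ⟩ := hχ
  have hc : IsCharacter P (fun x : P => χ x) := ⟨m, ρ.comp P.subtype, by rw [← hρ]; rfl⟩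
  obtain ⟨mult, hmult, -⟩ := IsCharacter.exists_nat_decomp hc
  have hev : ∀ x : P, χ x = ∑ ψ : IrrCharacter P, (mult ψ : ℂ) * (ψ : P → ℂ) x := fun x => by
    simpa [Finset.sum_apply] using congrFun hmult x
  set c : P := ⟨a, ha⟩ * ⟨b, hb⟩ * (⟨a, ha⟩)⁻¹ * (⟨b, hb⟩)⁻¹ with hcdef
  have hc1 : c = 1 := by
    refine Subtype.ext (hf _ ?_)
    rw [show χ 1 = χ ((1 : P) : G) by simp, hev, hev]
    refine Finset.sum_congr rfl fun ψ _ => ?_
    rcases Nat.eq_zero_or_pos (mult ψ) with h0 | hpos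
    · simp [h0]
    obtain ⟨d, hd0, hd, hdvd⟩ := IsIrrCharacter.exists_degree_dvd ψ.2
    have hdn : d ≤ n := by
      have hterm : ∀ φ : IrrCharacter P, ∃ e : ℕ, (φ : P → ℂ) 1 = e := fun φ =>
        IsCharacter.exists_apply_one (irr_isCharacter φ)
      choose e he using hterm
      have h1 := hev 1
      simp only [OneMemClass.coe_one, hn, he] at h1
      norm_cast at h1
      have h2 : mult ψ * e ψ ≤ n := by
        rw [h1]
        exact Finset.single_le_sum (f := fun φ => mult φ * e φ) (fun _ _ => Nat.zero_le _)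
          (Finset.mem_univ ψ)
      have hed : e ψ = d := by exact_mod_cast (he ψ).symm.trans hd
      calc d = 1 * e ψ := by rw [one_mul, hed]
        _ ≤ mult ψ * e ψ := Nat.mul_le_mul_right _ hpos
        _ ≤ n := h2
    obtain ⟨k, hk⟩ := hP.exists_card_eq
    obtain ⟨i, -, hi⟩ := (Nat.dvd_prime_pow hp).1 (hk ▸ hdvd)
    have hd1 : d = 1 := by
      rcases Nat.eq_zero_or_pos i with rfl | hi0
      · simpa using hi
      · have : p ≤ d := hi ▸ Nat.le_self_pow hi0.ne' p
        omega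
    have h1 : (ψ : P → ℂ) 1 = 1 := by rw [hd, hd1, Nat.cast_one]
    congr 1
    rw [h1]
    refine IsCharacter.apply_of_mem_commutator (irr_isCharacter ψ) h1 ?_
    have := Subgroup.commutator_mem_commutator (Subgroup.mem_top (⟨a, ha⟩ : P))
      (Subgroup.mem_top (⟨b, hb⟩ : P))
    rwa [commutatorElement_def] at this
  have h := congrArg Subtype.val hc1
  simp only [hcdef, Subgroup.coe_mul, InvMemClass.coe_inv, OneMemClass.coe_one] at h
  rw [mul_inv_eq_one, mul_inv_eq_iff_eq_mul] at h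
  exact h

/-- Noncentral elements of two large prime orders give commuting such elements. -/
theorem exists_pair {χ : G → ℂ} (hχ : IsCharacter G χ) (hf : ∀ g : G, χ g = χ 1 → g = 1)
    {n : ℕ} (hn : χ 1 = n) {p q : ℕ} (hp : p.Prime) (hq : q.Prime) (hpn : n + 1 < p)
    (hqn : n + 1 < q) {x y : G} {i j : ℕ} (hx : x ^ p ^ i = 1) (hy : y ^ q ^ j = 1)
    (hxn : x ∉ Subgroup.center G) (hyn : y ∉ Subgroup.center G) :
    ∃ a b : G, Commute a b ∧ (∃ k, a ^ p ^ k = 1) ∧ (∃ k, b ^ q ^ k = 1) ∧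
      a ∉ Subgroup.center G ∧ b ∉ Subgroup.center G := by
  classical
  by_cases hxy : Commute x y
  · exact ⟨x, y, hxy, ⟨i, hx⟩, ⟨j, hy⟩, hxn, hyn⟩
  haveI := Fintype.ofFinite G
  haveI := Fintype.ofFinite (IrrCharacter G)
  obtain ⟨mult, hmult, -⟩ := IsCharacter.exists_nat_decomp hχ
  have hev : ∀ g : G, χ g = ∑ ψ : IrrCharacter G, (mult ψ : ℂ) * (ψ : G → ℂ) g := fun g => by
    simpa [Finset.sum_apply] using congrFun hmult g
  obtain ⟨ψ, hψ⟩ : ∃ ψ : IrrCharacter G,
      mult ψ ≠ 0 ∧ (ψ : G → ℂ) (x * y * x⁻¹ * y⁻¹) ≠ (ψ : G → ℂ) 1 := by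
    by_contra hall
    push Not at hall
    refine hxy ?_
    have h := hf (x * y * x⁻¹ * y⁻¹) ?_
    · rw [mul_inv_eq_one, mul_inv_eq_iff_eq_mul] at h
      exact h
    rw [hev, hev]
    refine Finset.sum_congr rfl fun ψ _ => ?_
    by_cases h0 : mult ψ = 0
    · simp [h0]
    · rw [hall ψ h0]
  obtain ⟨d, σ, hσirr, hσ⟩ := ψ.2
  haveI := hσirr
  have hdn : d ≤ n := by
    have hterm : ∀ φ : IrrCharacter G, ∃ e : ℕ, (φ : G → ℂ) 1 = e := fun φ =>
      IsCharacter.exists_apply_one (irr_isCharacter φ)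
    choose e he using hterm
    have h1 := hev 1
    simp only [hn, he] at h1
    norm_cast at h1
    have h2 : mult ψ * e ψ ≤ n := by
      rw [h1]
      exact Finset.single_le_sum (f := fun φ => mult φ * e φ) (fun _ _ => Nat.zero_le _)
        (Finset.mem_univ ψ)
    have hed : e ψ = d := by
      have := he ψ
      rw [← hσ, Representation.char_one, Module.finrank_fin_fun] at this
      exact_mod_cast this.symm
    calc d = 1 * e ψ := by rw [one_mul, hed]
      _ ≤ mult ψ * e ψ := Nat.mul_le_mul_right _ (Nat.pos_of_ne_zero hψ.1)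
      _ ≤ n := h2
  have hcomm : σ x * σ y ≠ σ y * σ x := by
    intro h
    refine hψ.2 ?_
    rw [← hσ]
    have : σ (x * y * x⁻¹ * y⁻¹) = σ 1 := by
      rw [map_mul, map_mul, map_mul, h, mul_assoc (σ y), ← map_mul, mul_inv_cancel, map_one,
        mul_one, ← map_mul, mul_inv_cancel, map_one]
    simp only [Representation.character, this]
  obtain ⟨a, b, hab, ha, hb, han, hbn⟩ := exists_pair_irr σ hp hq (by omega) (by omega) hx hy
    (fun h => hcomm (h y)) (fun h => hcomm (h x).symm)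
  refine ⟨a, b, hab, ha, hb, fun h => han fun g => ?_, fun h => hbn fun g => ?_⟩
  · rw [← map_mul, ← map_mul, Subgroup.mem_center_iff.1 h g]
  · rw [← map_mul, ← map_mul, Subgroup.mem_center_iff.1 h g]

/-- A subgroup with full `p`-part contains a conjugate of every `p`-element. -/
theorem exists_conj_mem {p : ℕ} (hp : p.Prime) (H : Subgroup G)
    (hH : p ^ (Nat.card G).factorization p ∣ Nat.card H) {z : G} {k : ℕ} (hz : z ^ p ^ k = 1) :
    ∃ g : G, g * z * g⁻¹ ∈ H := by
  haveI := Fact.mk hp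
  obtain ⟨K, hK⟩ := Sylow.exists_subgroup_card_pow_prime (G := H) p hH
  have hKc : Nat.card (K.map H.subtype) = p ^ (Nat.card G).factorization p := by
    rw [Subgroup.card_subtype, hK]
  let S : Sylow p G := Sylow.ofCard (K.map H.subtype) hKc
  have hzp : IsPGroup p (Subgroup.zpowers z) := by
    obtain ⟨m, -, hm⟩ := (Nat.dvd_prime_pow hp).1 (orderOf_dvd_of_pow_eq_one hz)
    exact IsPGroup.of_card (n := m) (by rw [Nat.card_zpowers, hm])
  obtain ⟨T, hT⟩ := hzp.exists_le_sylow
  obtain ⟨g, hg⟩ := MulAction.exists_smul_eq G T S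
  refine ⟨g, ?_⟩
  have hm : g * z * g⁻¹ ∈ S := by
    rw [← hg, Sylow.smul_def]
    exact Subgroup.mem_pointwise_smul_iff_inv_smul_mem.2
      (by simpa [MulAut.smul_def, mul_assoc] using hT (Subgroup.mem_zpowers z))
  obtain ⟨w, -, hw⟩ := Subgroup.mem_map.1 (show g * z * g⁻¹ ∈ K.map H.subtype from hm)
  exact hw ▸ w.2

/-- Centralizers of large `p`-elements contain a Sylow `p`-subgroup. -/
theorem dvd_card_centralizer {χ : G → ℂ} (hχ : IsCharacter G χ)
    (hf : ∀ g : G, χ g = χ 1 → g = 1) {n : ℕ} (hn : χ 1 = n) {p : ℕ} (hp : p.Prime) (hnp : n < p)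
    {z : G} {k : ℕ} (hz : z ^ p ^ k = 1) :
    p ^ (Nat.card G).factorization p ∣ Nat.card (Subgroup.centralizer ({z} : Set G)) := by
  haveI := Fact.mk hp
  have hzp : IsPGroup p (Subgroup.zpowers z) := by
    obtain ⟨m, -, hm⟩ := (Nat.dvd_prime_pow hp).1 (orderOf_dvd_of_pow_eq_one hz)
    exact IsPGroup.of_card (n := m) (by rw [Nat.card_zpowers, hm])
  obtain ⟨T, hT⟩ := hzp.exists_le_sylow
  rw [← T.card_eq_multiplicity]
  refine Subgroup.card_dvd_of_le fun t ht => Subgroup.mem_centralizer_iff.2 ?_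
  rintro _ rfl
  exact commute_of_pGroup hχ hf hn hp hnp T T.isPGroup' _ (hT (Subgroup.mem_zpowers _)) t ht

omit [Finite G] in
/-- Abelian subgroups centralize their elements. -/
theorem le_centralizer_of_comm {H : Subgroup G} (hH : ∀ a ∈ H, ∀ b ∈ H, a * b = b * a) {z : G}
    (hz : z ∈ H) : H ≤ Subgroup.centralizer ({z} : Set G) := fun t ht => by
  rw [Subgroup.mem_centralizer_iff]
  rintro _ rfl
  exact hH _ hz t ht

/-- A proper centralizer. -/
theorem card_centralizer_lt {z : G} (hz : z ∉ Subgroup.center G) :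
    Nat.card (Subgroup.centralizer ({z} : Set G)) < Nat.card G := by
  refine lt_of_le_of_ne (Subgroup.card_le_card_group _) fun h => hz ?_
  have htop : Subgroup.centralizer ({z} : Set G) = ⊤ := Subgroup.eq_top_of_card_eq _ h
  rw [Subgroup.mem_center_iff]
  intro g
  have hg : g ∈ Subgroup.centralizer ({z} : Set G) := htop ▸ Subgroup.mem_top g
  exact ((Subgroup.mem_centralizer_iff.1 hg) z rfl).symm

theorem factorization_card_eq {p : ℕ} (hp : p.Prime) (H : Subgroup G)
    (h : p ^ (Nat.card G).factorization p ∣ Nat.card H) :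
    (Nat.card H).factorization p = (Nat.card G).factorization p := by
  refine le_antisymm ?_ ((hp.pow_dvd_iff_le_factorization Nat.card_pos.ne').1 h)
  exact (Nat.factorization_le_iff_dvd Nat.card_pos.ne' Nat.card_pos.ne').2
    (Subgroup.card_subgroup_dvd_card H) p

/-- In a linear group of degree `n` some abelian subgroup has full order at all primes `> n+1`. -/
theorem exists_abelian_big {χ : G → ℂ} (hχ : IsCharacter G χ)
    (hf : ∀ g : G, χ g = χ 1 → g = 1) {n : ℕ} (hn : χ 1 = n) :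
    ∃ H : Subgroup G, (∀ a ∈ H, ∀ b ∈ H, a * b = b * a) ∧
      ∀ p : ℕ, p.Prime → n + 1 < p → p ^ (Nat.card G).factorization p ∣ Nat.card H := by
  suffices key : ∀ (N : ℕ) (K : Type u) [Group K] [Finite K] (φ : K → ℂ), Nat.card K = N →
      IsCharacter K φ → (∀ g : K, φ g = φ 1 → g = 1) → φ 1 = n →
      ∃ H : Subgroup K, (∀ a ∈ H, ∀ b ∈ H, a * b = b * a) ∧
        ∀ p : ℕ, p.Prime → n + 1 < p → p ^ (Nat.card K).factorization p ∣ Nat.card H from
    key _ G χ rfl hχ hf hn
  intro N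
  induction N using Nat.strong_induction_on with
  | _ N IH =>
  intro K _ _ φ hcard hφ hfK hn
  -- the statement for a proper subgroup with prescribed full parts
  have hsub : ∀ C : Subgroup K, Nat.card C < Nat.card K →
      ∃ H : Subgroup K, (∀ a ∈ H, ∀ b ∈ H, a * b = b * a) ∧ H ≤ C ∧
        ∀ p : ℕ, p.Prime → n + 1 < p → p ^ (Nat.card C).factorization p ∣ Nat.card H := by
    intro C hC
    obtain ⟨m, ρ, hρ⟩ := hφ
    obtain ⟨H, hH, hHp⟩ := IH _ (hcard ▸ hC) C (fun c : C => φ c) rfl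
      ⟨m, ρ.comp C.subtype, by rw [← hρ]; rfl⟩
      (fun c hc => Subtype.ext (hfK c (by simpa using hc))) (by simpa using hn)
    refine ⟨H.map C.subtype, ?_, Subgroup.map_subtype_le _, fun p hp hpn => ?_⟩
    · rintro _ ⟨a, ha, rfl⟩ _ ⟨b, hb, rfl⟩
      exact congrArg Subtype.val (hH a ha b hb)
    · rw [Subgroup.card_subtype]
      exact hHp p hp hpn
  by_cases hall : ∀ p : ℕ, p.Prime → n + 1 < p → ∀ x : K, (∃ k, x ^ p ^ k = 1) →
      x ∈ Subgroup.center K
  · refine ⟨Subgroup.center K, fun a ha b _ => (Subgroup.mem_center_iff.1 ha b).symm,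
      fun p hp hpn => ?_⟩
    haveI := Fact.mk hp
    obtain ⟨S⟩ : Nonempty (Sylow p K) := inferInstance
    rw [← S.card_eq_multiplicity]
    refine Subgroup.card_dvd_of_le fun s hs => hall p hp hpn s ?_
    obtain ⟨k, hk⟩ := S.isPGroup' ⟨s, hs⟩
    exact ⟨k, congrArg Subtype.val hk⟩
  push Not at hall
  obtain ⟨p, hp, hpn, x, ⟨i, hx⟩, hxc⟩ := hall
  obtain ⟨H, hH, -, hHp⟩ := hsub _ (card_centralizer_lt hxc)
  refine ⟨H, hH, fun q hq hqn => ?_⟩
  suffices hfull : q ^ (Nat.card K).factorization q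
      ∣ Nat.card (Subgroup.centralizer ({x} : Set K)) by
    rw [← factorization_card_eq hq _ hfull]
    exact hHp q hq hqn
  by_cases hqc : ∀ y : K, (∃ k, y ^ q ^ k = 1) → y ∈ Subgroup.center K
  · haveI := Fact.mk hq
    obtain ⟨S⟩ : Nonempty (Sylow q K) := inferInstance
    rw [← S.card_eq_multiplicity]
    refine Subgroup.card_dvd_of_le fun s hs => Subgroup.mem_centralizer_iff.2 ?_
    rintro _ rfl
    obtain ⟨k, hk⟩ := S.isPGroup' ⟨s, hs⟩
    exact Subgroup.mem_center_iff.1 (hqc s ⟨k, congrArg Subtype.val hk⟩) _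
  push Not at hqc
  obtain ⟨y, ⟨j, hy⟩, hyc⟩ := hqc
  obtain ⟨a, b, hab, ⟨ka, hka⟩, ⟨kb, hkb⟩, hac, hbc⟩ :=
    exists_pair hφ hfK hn hp hq hpn hqn hx hy hxc hyc
  obtain ⟨H₁, hH₁, hH₁C, hH₁p⟩ := hsub _ (card_centralizer_lt hac)
  have hH₁pp : p ^ (Nat.card K).factorization p ∣ Nat.card H₁ := by
    rw [← factorization_card_eq hp _ (dvd_card_centralizer hφ hfK hn hp (by omega) hka)]
    exact hH₁p p hp hpn
  -- the `q`-part of `H₁` is a Sylow subgroup of the centralizer of `a`
  have hbC : b ∈ Subgroup.centralizer ({a} : Set K) := by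
    rw [Subgroup.mem_centralizer_iff]
    rintro _ rfl
    exact hab.eq
  obtain ⟨g, hg⟩ : ∃ g : Subgroup.centralizer ({a} : Set K),
      g * ⟨b, hbC⟩ * g⁻¹ ∈ H₁.subgroupOf (Subgroup.centralizer ({a} : Set K)) := by
    refine exists_conj_mem hq _ ?_ (k := kb) (z := ⟨b, hbC⟩) (Subtype.ext (by simpa using hkb))
    rw [Nat.card_congr (Subgroup.subgroupOfEquivOfLe hH₁C).toEquiv]
    exact hH₁p q hq hqn
  have hb' : (g : K) * b * (g : K)⁻¹ ∈ H₁ := hg
  have hb'c : (g : K) * b * (g : K)⁻¹ ∉ Subgroup.center K := by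
    intro h
    apply hbc
    have := (Subgroup.center K).mul_mem h (one_mem _)
    have h2 := Subgroup.Normal.conj_mem inferInstance _ h (g : K)⁻¹
    simpa [mul_assoc] using h2
  have hb'q : ((g : K) * b * (g : K)⁻¹) ^ q ^ kb = 1 := by rw [conj_pow, hkb]; simp
  obtain ⟨H₂, hH₂, hH₂C, hH₂p⟩ := hsub _ (card_centralizer_lt hb'c)
  have hH₂pp : p ^ (Nat.card K).factorization p ∣ Nat.card H₂ := by
    rw [← factorization_card_eq hp _
      (hH₁pp.trans (Subgroup.card_dvd_of_le (le_centralizer_of_comm hH₁ hb')))]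
    exact hH₂p p hp hpn
  have hH₂qq : q ^ (Nat.card K).factorization q ∣ Nat.card H₂ := by
    rw [← factorization_card_eq hq _ (dvd_card_centralizer hφ hfK hn hq (by omega) hb'q)]
    exact hH₂p q hq hqn
  obtain ⟨t, ht⟩ := exists_conj_mem hp H₂ hH₂pp hx
  refine hH₂qq.trans ?_
  have hle : H₂.map (MulAut.conj t⁻¹).toMonoidHom ≤ Subgroup.centralizer ({x} : Set K) := by
    rintro _ ⟨w, hw, rfl⟩
    rw [Subgroup.mem_centralizer_iff]
    intro z hz'
    obtain rfl : z = x := hz'
    have := hH₂ _ ht w hw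
    simp only [MulEquiv.coe_toMonoidHom, MulAut.conj_apply, inv_inv]
    calc z * (t⁻¹ * w * t) = t⁻¹ * ((t * z * t⁻¹) * w) * t := by group
      _ = t⁻¹ * w * t * z := by rw [this]; group
  have hcardmap : Nat.card (H₂.map (MulAut.conj t⁻¹).toMonoidHom) = Nat.card H₂ :=
    Subgroup.card_map_of_injective (MulEquiv.injective _)
  exact hcardmap ▸ Subgroup.card_dvd_of_le hle

end Cfsg.Agent.Lib.InvChar.JordanHall
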