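import Mathlib
import Cfsg.Prelude
import Cfsg.Agent.Lib.Characters
import Cfsg.Agent.Lib.Characters.Monomial

/-!
# Small primes in finite linear groups
-/

set_option autoImplicit false

namespace Cfsg.Agent.Lib.InvChar.JordanSmall

open Cfsg Cfsg.Agent.Lib.Characters

variable {G : Type*} [Group G] [Finite G]

/-- A subgroup of prime power order of a linear group of degree `n` has an abelian subgroup of
index dividing `n!`. -/
theorem exists_abelian_sub {χ : G → ℂ} (hχ : IsCharacter G χ)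
    (hf : ∀ g : G, χ g = χ 1 → g = 1) {n : ℕ} (hn : χ 1 = n) {p : ℕ} (hp : p.Prime)
    (P : Subgroup G) (hP : IsPGroup p P) :
    ∃ K : Subgroup G, (∀ a ∈ K, ∀ b ∈ K, a * b = b * a) ∧
      Nat.card P ∣ n.factorial * Nat.card K := by
  classical
  haveI := Fact.mk hp
  haveI := Fintype.ofFinite P
  haveI := Fintype.ofFinite (IrrCharacter P)
  haveI : Group.IsNilpotent P := hP.isNilpotent
  obtain ⟨m, ρ, hρ⟩ := hχ
  have hc : IsCharacter P (fun x : P => χ x) := ⟨m, ρ.comp P.subtype, by rw [← hρ]; rfl⟩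
  obtain ⟨mult, hmult, -⟩ := IsCharacter.exists_nat_decomp hc
  have hev : ∀ x : P, χ x = ∑ ψ : IrrCharacter P, (mult ψ : ℂ) * (ψ : P → ℂ) x := fun x => by
    simpa [Finset.sum_apply] using congrFun hmult x
  choose U lam hU using fun ψ : {ψ : IrrCharacter P // mult ψ ≠ 0} => exists_monomial ψ.1.2
  have hdeg : ∀ ψ, (ψ.1 : P → ℂ) 1 = ((U ψ).index : ℂ) := fun ψ => by
    rw [hU ψ, indFun_one, map_one, Units.val_one, mul_one]
  have hsum : ∑ ψ, (U ψ).index ≤ n := by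
    have hterm : ∀ φ : IrrCharacter P, ∃ e : ℕ, (φ : P → ℂ) 1 = e := fun φ =>
      IsCharacter.exists_apply_one (irr_isCharacter φ)
    choose e he using hterm
    have h1 := hev 1
    simp only [OneMemClass.coe_one, hn, he] at h1
    norm_cast at h1
    have hi : ∀ ψ : {ψ : IrrCharacter P // mult ψ ≠ 0}, (U ψ).index = e ψ.1 := fun ψ => by
      exact_mod_cast (hdeg ψ).symm.trans (he ψ.1)
    calc ∑ ψ, (U ψ).index = ∑ ψ : {ψ : IrrCharacter P // mult ψ ≠ 0}, e ψ.1 :=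
          Finset.sum_congr rfl fun ψ _ => hi ψ
      _ ≤ ∑ ψ : {ψ : IrrCharacter P // mult ψ ≠ 0}, mult ψ.1 * e ψ.1 :=
          Finset.sum_le_sum fun ψ _ => Nat.le_mul_of_pos_left _ (Nat.pos_of_ne_zero ψ.2)
      _ = ∑ ψ ∈ Finset.univ.filter (fun ψ => mult ψ ≠ 0), mult ψ * e ψ :=
          (Finset.sum_subtype _ (by simp) (fun ψ => mult ψ * e ψ)).symm
      _ ≤ ∑ ψ, mult ψ * e ψ := Finset.sum_le_sum_of_subset (Finset.filter_subset _ _)
      _ = n := h1.symm
  let f : P →* Equiv.Perm (Σ ψ, P ⧸ U ψ) :=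
    (Equiv.Perm.sigmaCongrRightHom fun ψ => P ⧸ U ψ).comp
      (MonoidHom.mk' (fun g ψ => MulAction.toPerm g) fun a b =>
        funext fun ψ => Equiv.ext fun c => mul_smul a b c)
  have hker : ∀ g ∈ f.ker, ∀ ψ (x : P), x⁻¹ * g * x ∈ U ψ := by
    intro g hg ψ x
    have h := congrArg (fun e : Equiv.Perm (Σ ψ, P ⧸ U ψ) => e ⟨ψ, (x : P ⧸ U ψ)⟩)
      (MonoidHom.mem_ker.1 hg)
    simp only [f, MonoidHom.comp_apply, MonoidHom.mk'_apply, Equiv.Perm.one_apply] at h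
    have h2 : g • (x : P ⧸ U ψ) = (x : P ⧸ U ψ) := eq_of_heq (Sigma.mk.inj_iff.1 h).2
    rw [MulAction.Quotient.smul_coe, smul_eq_mul, QuotientGroup.eq] at h2
    have h3 := (U ψ).inv_mem h2
    simpa [mul_assoc] using h3
  refine ⟨f.ker.map P.subtype, ?_, ?_⟩
  · rintro _ ⟨a, ha, rfl⟩ _ ⟨b, hb, rfl⟩
    have h1 : ((a * b * a⁻¹ * b⁻¹ : P) : G) = 1 := by
      refine hf _ ?_
      rw [show χ 1 = χ ((1 : P) : G) by simp, hev, hev]
      refine Finset.sum_congr rfl fun ψ _ => ?_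
      by_cases h0 : mult ψ = 0
      · simp [h0]
      congr 1
      rw [hU ⟨ψ, h0⟩, indFun_apply, indFun_apply]
      refine congrArg _ (Finset.sum_congr rfl fun x _ => ?_)
      have hx := hker a ha ⟨ψ, h0⟩ x
      have hy := hker b hb ⟨ψ, h0⟩ x
      have he : x⁻¹ * (a * b * a⁻¹ * b⁻¹) * x =
          (((⟨_, hx⟩ : U ⟨ψ, h0⟩) * ⟨_, hy⟩ * (⟨_, hx⟩ : U ⟨ψ, h0⟩)⁻¹ *
            (⟨_, hy⟩ : U ⟨ψ, h0⟩)⁻¹ : U ⟨ψ, h0⟩) : P) := by
        simp only [Subgroup.coe_mul, InvMemClass.coe_inv]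
        group
      rw [he, extendByZero_coe,
        show x⁻¹ * 1 * x = (((1 : U ⟨ψ, h0⟩)) : P) by simp, extendByZero_coe]
      rw [map_mul, map_mul, map_mul, map_inv, map_inv, map_one, mul_inv_cancel_comm, mul_inv_cancel]
    simp only [Subgroup.coe_mul, InvMemClass.coe_inv] at h1
    rw [mul_inv_eq_one, mul_inv_eq_iff_eq_mul] at h1
    exact h1
  · rw [Subgroup.card_subtype, ← f.ker.index_mul_card, Subgroup.index_ker]
    refine Nat.mul_dvd_mul_right ((Subgroup.card_subgroup_dvd_card f.range).trans ?_) _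
    rw [Nat.card_perm, Nat.card_sigma]
    exact Nat.factorial_dvd_factorial hsum

end Cfsg.Agent.Lib.InvChar.JordanSmall
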