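import Mathlib
import Cfsg.Prelude
import Cfsg.Agent.Lib.Characters
import Cfsg.Agent.Lib.InvChar.JordanArcs

/-!
# The abelian normal subgroup of a finite linear group
-/

set_option autoImplicit false

namespace Cfsg.Agent.Lib.InvChar.JordanArcs

open scoped ComplexConjugate

variable {G : Type*} [Group G] [Finite G]

/-- Every finite linear group has an abelian normal subgroup meeting each abelian subgroup in a
subgroup of index at most `12 ^ n`. -/
theorem exists_abelian_normal_of_finrank {n : ℕ} {W : Type*} [AddCommGroup W] [Module ℂ W]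
    [FiniteDimensional ℂ W] (e : W ≃ₗ[ℂ] (Fin n → ℂ)) (ρ : Representation ℂ G W)
    (hinj : Function.Injective ρ) :
    ∃ A : Subgroup G, A.Normal ∧ (∀ x ∈ A, ∀ y ∈ A, x * y = y * x) ∧
      ∀ H : Subgroup G, (∀ x ∈ H, ∀ y ∈ H, x * y = y * x) → (A.subgroupOf H).index ≤ 12 ^ n := by
  classical
  haveI := Fintype.ofFinite G
  let cd : InnerProductSpace.Core ℂ W :=
    { inner := fun x y => ∑ g, ∑ i, conj (e (ρ g x) i) * e (ρ g y) i
      conj_inner_symm := fun x y => by simp [map_sum, mul_comm]
      re_inner_nonneg := fun x => by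
        simp only [← RCLike.conj_mul, map_sum]
        refine Finset.sum_nonneg fun g _ => Finset.sum_nonneg fun i _ => ?_
        rw [RCLike.conj_mul]
        simp [← Complex.ofReal_pow]
      add_left := fun x y z => by simp [add_mul, Finset.sum_add_distrib]
      smul_left := fun x y r => by simp [Finset.mul_sum, mul_assoc]
      definite := fun x hx => by
        have h2 : ∑ g, ∑ i, ‖e (ρ g x) i‖ ^ 2 = (0 : ℝ) := by
          have : ((∑ g, ∑ i, ‖e (ρ g x) i‖ ^ 2 : ℝ) : ℂ) = 0 := by
            push_cast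
            rw [← hx]
            exact Finset.sum_congr rfl fun g _ => Finset.sum_congr rfl fun i _ =>
              (Complex.conj_mul' _).symm
          exact_mod_cast this
        have h3 := (Finset.sum_eq_zero_iff_of_nonneg fun g _ => Finset.sum_nonneg fun i _ =>
          sq_nonneg _).mp h2 1 (Finset.mem_univ _)
        rw [map_one] at h3
        have h4 := (Finset.sum_eq_zero_iff_of_nonneg fun i _ => sq_nonneg _).mp h3
        refine e.injective (funext fun i => ?_)
        simpa using h4 i (Finset.mem_univ _) }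
  letI : NormedAddCommGroup W := cd.toNormedAddCommGroup
  letI : InnerProductSpace ℂ W := InnerProductSpace.ofCore cd.toCore
  have hU : ∀ g v w, inner ℂ (ρ g v) (ρ g w) = inner ℂ v w := by
    intro g v w
    show ∑ h, ∑ i, conj (e (ρ h (ρ g v)) i) * e (ρ h (ρ g w)) i = ∑ h, ∑ i, conj (e (ρ h v) i) * e (ρ h w) i
    simp only [← Module.End.mul_apply, ← map_mul]
    exact Fintype.sum_equiv (Equiv.mulRight g) _ _ fun h => rfl
  obtain ⟨A, hAn, hAc, hAnear⟩ := exists_abelian_normal ρ hU hinj
  refine ⟨A, hAn, hAc, fun H hH => (index_le ρ hU A hAnear H hH).trans ?_⟩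
  rw [e.finrank_eq, Module.finrank_fin_fun]

/-- Version for matrices. -/
theorem exists_abelian_normal_of_rep {n : ℕ} (ρ : Representation ℂ G (Fin n → ℂ))
    (hinj : Function.Injective ρ) :
    ∃ A : Subgroup G, A.Normal ∧ (∀ x ∈ A, ∀ y ∈ A, x * y = y * x) ∧
      ∀ H : Subgroup G, (∀ x ∈ H, ∀ y ∈ H, x * y = y * x) → (A.subgroupOf H).index ≤ 12 ^ n :=
  exists_abelian_normal_of_finrank (LinearEquiv.refl ℂ _) ρ hinj

/-- The representation of a faithful character is injective. -/
theorem exists_injective_rep {χ : G → ℂ} (hχ : Cfsg.IsCharacter G χ)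
    (hfaith : ∀ g : G, χ g = χ 1 → g = 1) (n : ℕ) (hn : Cfsg.charDegree χ = n) :
    ∃ ρ : Representation ℂ G (Fin n → ℂ), ρ.character = χ ∧ Function.Injective ρ := by
  obtain ⟨m, ρ, rfl⟩ := hχ
  obtain rfl : m = n := by
    rw [← hn]; simp [Cfsg.charDegree, Representation.char_one, Module.finrank_fin_fun]
  refine ⟨ρ, rfl, fun a b hab => ?_⟩
  have h1 : ρ (a⁻¹ * b) = ρ 1 := by rw [map_mul, ← hab, ← map_mul, inv_mul_cancel]
  have := hfaith (a⁻¹ * b) (by simp only [Representation.character, h1])
  exact inv_mul_eq_one.1 this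

end Cfsg.Agent.Lib.InvChar.JordanArcs
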