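import Mathlib
import Cfsg.Prelude
import Cfsg.Agent.Lib.InvChar.KleinCentral
import Cfsg.Agent.Lib.Characters.FrobeniusSchur
import Cfsg.Agent.Lib.Involutions.DihedralFusion

/-!
# The principal block for a four-group Sylow subgroup with fused involutions

When the principal 2-block consists of four characters with values `±1` at an involution `J`, the
averaged columns vanish outside the block, which gives Brauer's order formula and a relation
between the Frobenius–Schur indicators.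
-/

set_option autoImplicit false

namespace Cfsg.Agent.Lib.InvChar

open Cfsg Cfsg.Agent.Lib.Characters Cfsg.Agent.Lib.Involutions
open scoped ComplexConjugate

universe u

variable {G : Type u} [Group G] [Finite G]

/-- Without a normal 2-complement the involutions of a four-group Sylow subgroup are fused. -/
lemma klein_fused (P : Sylow 2 G) (hPK : IsKleinFour (P : Subgroup G))
    (hNC : ¬ Subgroup.normalizer ((P : Subgroup G) : Set G)
        ≤ Subgroup.centralizer ((P : Subgroup G) : Set G))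
    {u w : G} (hu : u ∈ P) (hu1 : u ≠ 1) (hw : w ∈ P) (hw1 : w ≠ 1) : IsConj u w := by
  have := Fact.mk Nat.prime_two
  have := hPK
  have hsq : ∀ a ∈ P, a * a = 1 := fun a ha =>
    congrArg Subtype.val (IsKleinFour.mul_self (G := (P : Subgroup G)) ⟨a, ha⟩)
  obtain ⟨g, hgN, hgC⟩ := SetLike.not_le_iff_exists.1 hNC
  obtain ⟨k, hk⟩ := Nat.exists_eq_pow_mul_and_not_dvd (orderOf_pos g).ne' 2 (by norm_num)
  obtain ⟨m, hm1, hm⟩ := hk
  set h := g ^ (2 ^ k) with hh
  have hho : orderOf h = m := by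
    rw [hh, orderOf_pow, hm, Nat.gcd_eq_right (dvd_mul_right _ _),
      Nat.mul_div_cancel_left _ (by positivity)]
  have hhN : h ∈ Subgroup.normalizer ((P : Subgroup G) : Set G) := pow_mem hgN _
  have hhC : h ∉ Subgroup.centralizer ((P : Subgroup G) : Set G) := by
    intro hcon
    refine hgC ?_
    have hs : g ^ m ∈ (P : Subgroup G) := by
      have hp : IsPGroup 2 (Subgroup.zpowers (g ^ m)) := by
        refine IsPGroup.of_card (n := k) ?_
        rw [Nat.card_zpowers, orderOf_pow, hm, Nat.gcd_eq_right (dvd_mul_left _ _),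
          Nat.mul_div_cancel]
        exact Nat.pos_of_ne_zero (fun e => hm1 (e ▸ dvd_zero 2))
      have := hp.inf_normalizer_sylow P
      rw [← Sylow.coe_coe] at this
      have h2 : g ^ m ∈ Subgroup.zpowers (g ^ m) ⊓ Subgroup.normalizer ((P : Subgroup G) : Set G) :=
        ⟨Subgroup.mem_zpowers _, pow_mem hgN _⟩
      rw [this] at h2
      exact h2.2
    have hsC : g ^ m ∈ Subgroup.centralizer ((P : Subgroup G) : Set G) := by
      intro a ha
      rw [← inv_eq_of_mul_eq_one_right (hsq _ (mul_mem ha hs)), mul_inv_rev,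
        inv_eq_of_mul_eq_one_right (hsq _ ha), inv_eq_of_mul_eq_one_right (hsq _ hs)]
    obtain ⟨a, b, hab⟩ := Int.isCoprime_iff_gcd_eq_one.2
      (show Int.gcd ((2 ^ k : ℕ) : ℤ) (m : ℤ) = 1 by
        rw [Int.gcd_natCast_natCast]
        exact Nat.Coprime.pow_left k ((Nat.Prime.coprime_iff_not_dvd Nat.prime_two).2 hm1))
    have : g = (g ^ (2 ^ k)) ^ a * (g ^ m) ^ b := by
      rw [← zpow_natCast, ← zpow_natCast, ← zpow_mul, ← zpow_mul, ← zpow_add, mul_comm _ a,
        mul_comm _ b, hab, zpow_one]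
    rw [this]
    exact mul_mem (Subgroup.zpow_mem _ hcon a) (Subgroup.zpow_mem _ hsC b)
  let ψ : Subgroup.normalizer ((P : Subgroup G) : Set G) →* Equiv.Perm (P : Subgroup G) :=
    MonoidHom.comp ⟨⟨MulEquiv.toEquiv, rfl⟩, fun _ _ => rfl⟩ (P : Subgroup G).normalizerMonoidHom
  have h3 : h ^ 3 ∈ Subgroup.centralizer ((P : Subgroup G) : Set G) := by
    have hd1 : orderOf (ψ ⟨h, hhN⟩) ∣ m := by
      refine (orderOf_map_dvd ψ _).trans ?_
      rw [Subgroup.orderOf_mk, hho]
    have hd2 : orderOf (ψ ⟨h, hhN⟩) ∣ 3 * 2 ^ 3 := by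
      refine orderOf_dvd_natCard _ |>.trans ?_
      rw [Nat.card_perm, hPK.card_four]; rfl
    have hd3 : orderOf (ψ ⟨h, hhN⟩) ∣ 3 := by
      refine (Nat.Coprime.pow_right 3 ?_).dvd_of_dvd_mul_right hd2
      exact Nat.Coprime.coprime_dvd_left hd1
        (((Nat.Prime.coprime_iff_not_dvd Nat.prime_two).2 hm1).symm)
    have h1 : ψ (⟨h, hhN⟩ ^ 3) = 1 := by rw [map_pow]; exact orderOf_dvd_iff_pow_eq_one.1 hd3
    intro a ha
    have := congrArg (fun e : Equiv.Perm (P : Subgroup G) =>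
      ((e ⟨a, ha⟩ : (P : Subgroup G)) : G)) h1
    change h ^ 3 * a * (h ^ 3)⁻¹ = a at this
    exact (mul_inv_eq_iff_eq_mul.1 this).symm
  exact Lib.Involutions.klein_all_conj hPK hhN hhC h3 hu hu1 hw hw1

/-- A group of order four times an odd number without a normal complement has a fused
four-group as Sylow 2-subgroup. -/
lemma kleinBase_of_no_complement (g₀ : ℕ) (hg₀ : Odd g₀) (hG : Nat.card G = 4 * g₀)
    (hnc : ¬ ∃ N : Subgroup G, N.Normal ∧ Nat.card N = g₀) (P : Sylow 2 G) {J : G}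
    (hJ : J ∈ (P : Subgroup G)) (hJ2 : orderOf J = 2) : KleinBase P J := by
  have := Fact.mk Nat.prime_two
  have hP4 : Nat.card (P : Subgroup G) = 4 := by
    rw [P.card_eq_multiplicity, hG, Nat.factorization_mul (by norm_num) hg₀.pos.ne',
      Finsupp.add_apply, Nat.factorization_eq_zero_of_not_dvd (n := g₀) (Nat.two_dvd_ne_zero.2 (Nat.odd_iff.1 hg₀)),
      show (4 : ℕ) = 2 ^ 2 from rfl, Nat.Prime.factorization_pow Nat.prime_two]
    simp
  have hNC : ¬ Subgroup.normalizer ((P : Subgroup G) : Set G)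
      ≤ Subgroup.centralizer ((P : Subgroup G) : Set G) := by
    intro hle
    have hc := (MonoidHom.ker_transferSylow_isComplement' P hle).card_mul
    rw [hP4, hG] at hc
    exact hnc ⟨_, inferInstance, mul_right_cancel₀ (show (4 : ℕ) ≠ 0 by norm_num)
      (hc.trans (mul_comm 4 g₀))⟩
  have hPK : IsKleinFour (P : Subgroup G) := by
    by_cases hcyc : IsCyclic (P : Subgroup G)
    · exact absurd (hcyc.normalizer_le_centralizer (Nat.minFac_eq_two_iff _ |>.2
        (by rw [hG]; exact ⟨2 * g₀, by ring⟩))) hNC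
    · exact ⟨hP4, (not_isCyclic_iff_exponent_eq_prime Nat.prime_two (by rw [hP4]; norm_num)).1 hcyc⟩
  refine ⟨hPK, hJ2, hJ, fun u hu hu1 => klein_fused P hPK hNC hJ ?_ hu hu1⟩
  intro e
  rw [e, orderOf_one] at hJ2
  norm_num at hJ2

open scoped Classical in
/-- The orbit of `u` under the centraliser of `v`. -/
noncomputable def kleinOrbit [Fintype G] (v u : G) : Finset G :=
  Finset.univ.filter fun s : G => ∃ c, c * v = v * c ∧ c * u * c⁻¹ = s

namespace KleinBase

variable {V : Sylow 2 G} {v : G} (h : KleinBase V v)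
include h

lemma centralizer_le :
    Subgroup.centralizer ((V : Subgroup G) : Set G) ≤ Subgroup.centralizer ({v} : Set G) :=
  fun c hc => Subgroup.mem_centralizer_singleton_iff.2 (Subgroup.mem_centralizer_iff.1 hc v h.hvV).symm

lemma exists_coset {c : G} (hc : c * v = v * c) :
    ∃ w ∈ V, w⁻¹ * c ∈ centralizerPPrimeCore 2 v := by
  classical
  set C := Subgroup.centralizer ({v} : Set G)
  set D := centralizerPPrimeCore 2 v
  have hinter : ∀ w ∈ V, w ∈ D → w = 1 := by
    intro w hw hwD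
    have h2 : orderOf w ∣ 2 := orderOf_dvd_of_pow_eq_one (by rw [pow_two, h.sq hw])
    rcases (Nat.dvd_prime Nat.prime_two).1 h2 with h1 | h1
    · exact orderOf_eq_one_iff.1 h1
    · have := (h.mem_core hwD).2.1
      rw [h1] at this; exact absurd this (by decide)
  let f : ↥(V : Subgroup G) × ↥D → C := fun p => ⟨p.1.1 * p.2.1, mul_mem
    (Subgroup.mem_centralizer_singleton_iff.2 (h.comm p.1.2 h.hvV))
    (Subgroup.mem_centralizer_singleton_iff.2 (h.mem_core p.2.2).1)⟩
  have hf : Function.Injective f := by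
    rintro ⟨a, d⟩ ⟨b, e⟩ heq
    have heq' : (a : G) * d = b * e := congrArg Subtype.val heq
    have h1 : (b : G)⁻¹ * a = e * (d : G)⁻¹ :=
      calc (b : G)⁻¹ * a = (b : G)⁻¹ * ((a : G) * d) * (d : G)⁻¹ := by group
        _ = (b : G)⁻¹ * ((b : G) * e) * (d : G)⁻¹ := by rw [heq']
        _ = _ := by group
    have h2 := hinter _ (mul_mem (inv_mem b.2) a.2) (h1 ▸ mul_mem e.2 (inv_mem d.2))
    rw [inv_mul_eq_one] at h2
    obtain rfl : b = a := Subtype.ext h2
    obtain rfl : d = e := Subtype.ext (mul_left_cancel heq')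
    rfl
  have hcard : Nat.card (↥(V : Subgroup G) × ↥D) = Nat.card C := by
    rw [Nat.card_prod, h.klein.card_four, h.card_core.1]
  obtain ⟨⟨w, d⟩, e⟩ := ((Nat.bijective_iff_injective_and_card f).2 ⟨hf, hcard⟩).2
    ⟨c, Subgroup.mem_centralizer_singleton_iff.2 hc⟩
  have e' : (w : G) * d = c := congrArg Subtype.val e
  exact ⟨w, w.2, by rw [← e', inv_mul_cancel_left]; exact d.2⟩

lemma mem_orbit [Fintype G] {u s : G} :
    s ∈ kleinOrbit v u ↔ ∃ c, c * v = v * c ∧ c * u * c⁻¹ = s := by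
  simp [kleinOrbit]

lemma orbit_coset [Fintype G] {u s : G} (hu : u ∈ V) (hs : s ∈ kleinOrbit v u) :
    u⁻¹ * s ∈ centralizerPPrimeCore 2 v := by
  obtain ⟨c, hc, rfl⟩ := h.mem_orbit.1 hs
  obtain ⟨w, hw, hd⟩ := h.exists_coset hc
  set d := w⁻¹ * c with hdd
  have hcw : c = w * d := by rw [hdd, mul_inv_cancel_left]
  have huc : u⁻¹ * v = v * u⁻¹ := h.comm (inv_mem hu) h.hvV
  have hwc : w * v = v * w := h.comm hw h.hvV
  have e : u⁻¹ * (c * u * c⁻¹) = w * (u⁻¹ * d * u⁻¹⁻¹ * d⁻¹) * w⁻¹ := by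
    rw [hcw]
    calc u⁻¹ * (w * d * u * (w * d)⁻¹) = u⁻¹ * w * d * u * d⁻¹ * w⁻¹ := by group
      _ = w * u⁻¹ * d * u * d⁻¹ * w⁻¹ := by rw [h.comm (inv_mem hu) hw]
      _ = _ := by group
  rw [e]
  exact (h.mem_core (mul_mem ((h.mem_core hd).2.2 _ huc) (inv_mem hd))).2.2 w hwc

lemma invol_mem_orbit [Fintype G] {s : G} (hs : orderOf s = 2) (hc : s * v = v * s) :
    s = v ∨ ∃ u ∈ V, u ≠ 1 ∧ u ≠ v ∧ s ∈ kleinOrbit v u := by
  obtain ⟨w, hw, hd⟩ := h.exists_coset hc
  set d := w⁻¹ * s with hdd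
  have hsw : s = w * d := by rw [hdd, mul_inv_cancel_left]
  by_cases hw1 : w = 1
  · rw [hw1, one_mul] at hsw
    have := (h.mem_core hd).2.1
    rw [← hsw, hs] at this
    exact absurd this (by decide)
  by_cases hwv : w = v
  · left
    have e := pow_orderOf_eq_one s
    rw [hs, hsw, hwv, (show Commute v d from (h.mem_core hd).1.symm).mul_pow, pow_two,
      h.sq h.hvV, one_mul] at e
    have h2 : orderOf d ∣ 2 := orderOf_dvd_of_pow_eq_one e
    rcases (Nat.dvd_prime Nat.prime_two).1 h2 with h1 | h1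
    · rw [hsw, hwv, orderOf_eq_one_iff.1 h1, mul_one]
    · have := (h.mem_core hd).2.1
      rw [h1] at this; exact absurd this (by decide)
  right
  refine ⟨w, hw, hw1, hwv, h.mem_orbit.2 ?_⟩
  have := Fact.mk Nat.prime_two
  have how : orderOf w = 2 := orderOf_eq_prime (by rw [pow_two, h.sq hw]) hw1
  obtain ⟨c, hcl, hce⟩ := exists_conj_of_odd how hs (by
    rw [show w * s = (w * w) * d by rw [hsw, mul_assoc], h.sq hw, one_mul]
    exact (h.mem_core hd).2.1)
  refine ⟨c, Subgroup.mem_centralizer_singleton_iff.1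
    ((Subgroup.closure_le (Subgroup.centralizer ({v} : Set G))).2 ?_ hcl), hce⟩
  rintro y (rfl | rfl)
  · exact Subgroup.mem_centralizer_singleton_iff.2 (h.comm hw h.hvV)
  · exact Subgroup.mem_centralizer_singleton_iff.2 hc

lemma card_orbit [Fintype G] {u : G} (hu : u ∈ V) (hu1 : u ≠ 1) (huv : u ≠ v) :
    (kleinOrbit v u).card * Nat.card (Subgroup.centralizer ((V : Subgroup G) : Set G))
      = Nat.card (Subgroup.centralizer ({v} : Set G)) := by
  classical
  have hgen : ∀ a : G, a * v = v * a → a * u = u * a → ∀ w ∈ V, w * a = a * w := by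
    intro a hav hau w hw
    have hvu1 : v * u ≠ 1 := fun e => huv (mul_left_cancel (e.trans (h.sq h.hvV).symm))
    have hv1 : v ≠ 1 := fun e => by
      have := h.hv; rw [e, orderOf_one] at this; norm_num at this
    have : w = 1 ∨ w = v ∨ w = u ∨ w = v * u := by
      by_contra hcon
      push Not at hcon
      obtain ⟨n1, n2, n3, n4⟩ := hcon
      let T : Finset (V : Subgroup G) :=
        {1, ⟨v, h.hvV⟩, ⟨u, hu⟩, ⟨v * u, mul_mem h.hvV hu⟩, ⟨w, hw⟩}
      have hT : T.card = 5 := by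
        simp only [T]
        rw [Finset.card_insert_of_notMem, Finset.card_insert_of_notMem,
          Finset.card_insert_of_notMem, Finset.card_pair] <;>
          simp [Subtype.ext_iff, hv1, Ne.symm hv1, Ne.symm hu1, Ne.symm hvu1, Ne.symm n1, Ne.symm n2,
            Ne.symm n3, Ne.symm n4, Ne.symm huv, hu1]
      have := T.card_le_univ
      rw [hT, ← Nat.card_eq_fintype_card, h.klein.card_four] at this
      omega
    rcases this with rfl | rfl | rfl | rfl
    · simp
    · exact hav.symm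
    · exact hau.symm
    · exact ((show Commute a v from hav).mul_right (show Commute a u from hau)).eq.symm
  rw [Nat.card_eq_fintype_card (α := Subgroup.centralizer ({v} : Set G)), Fintype.card_subtype,
    Finset.card_eq_sum_card_fiberwise (f := fun c : G => c * u * c⁻¹) (t := kleinOrbit v u)
      (fun c hc => h.mem_orbit.2
        ⟨c, Subgroup.mem_centralizer_singleton_iff.1 (Finset.mem_filter.1 hc).2, rfl⟩),
    Finset.sum_congr rfl (g := fun _ => Nat.card (Subgroup.centralizer ((V : Subgroup G) : Set G))),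
    Finset.sum_const, smul_eq_mul]
  intro s hs
  obtain ⟨c₀, hc₀, rfl⟩ := h.mem_orbit.1 hs
  rw [Finset.filter_filter, Nat.card_eq_fintype_card, ← Fintype.card_subtype]
  refine Fintype.card_congr ((Equiv.mulLeft c₀⁻¹).subtypeEquiv fun c => ?_)
  simp only [Equiv.coe_mulLeft, Subgroup.mem_centralizer_singleton_iff]
  have hci : c₀⁻¹ * v = v * c₀⁻¹ :=
    calc c₀⁻¹ * v = c₀⁻¹ * (v * c₀) * c₀⁻¹ := by group
      _ = c₀⁻¹ * (c₀ * v) * c₀⁻¹ := by rw [hc₀]
      _ = _ := by group
  constructor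
  · rintro ⟨hcv, hcu⟩
    refine Subgroup.mem_centralizer_iff.2 (hgen _ ?_ ?_)
    · rw [mul_assoc, hcv, ← mul_assoc, hci, mul_assoc]
    · calc c₀⁻¹ * c * u = c₀⁻¹ * (c * u * c⁻¹) * c := by group
        _ = c₀⁻¹ * (c₀ * u * c₀⁻¹) * c := by rw [hcu]
        _ = u * (c₀⁻¹ * c) := by group
  · intro hc
    have hav := Subgroup.mem_centralizer_iff.1 hc v h.hvV
    have hau := Subgroup.mem_centralizer_iff.1 hc u hu
    constructor
    · calc c * v = c₀ * (c₀⁻¹ * c * v) := by group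
        _ = c₀ * (v * (c₀⁻¹ * c)) := by rw [hav]
        _ = c₀ * v * (c₀⁻¹ * c) := by group
        _ = v * c₀ * (c₀⁻¹ * c) := by rw [hc₀]
        _ = v * c := by group
    · calc c * u * c⁻¹ = c₀ * (c₀⁻¹ * c * u) * c⁻¹ := by group
        _ = c₀ * (u * (c₀⁻¹ * c)) * c⁻¹ := by rw [hau]
        _ = c₀ * u * c₀⁻¹ := by group

/-- Pairs of conjugates of `v` with product in the section of `v`. -/
lemma sum_pairs [Fintype (centralizerPPrimeCore 2 v)] :
    (∑ d : centralizerPPrimeCore 2 v,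
      Nat.card {p : G × G // IsConj v p.1 ∧ IsConj v p.2 ∧ p.1 * p.2 = v * d})
      * Nat.card (Subgroup.centralizer ((V : Subgroup G) : Set G)) ^ 2
      = 2 * Nat.card (Subgroup.centralizer ({v} : Set G)) ^ 2 := by
  classical
  haveI := Fintype.ofFinite G
  have hv1 : v ≠ 1 := fun e => by
    have := h.hv; rw [e, orderOf_one] at this; norm_num at this
  have hinv : ∀ s, IsConj v s → orderOf s = 2 := by
    intro s hs
    obtain ⟨g, rfl⟩ := isConj_iff.1 hs
    rw [orderOf_conj_eq, h.hv]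
  obtain ⟨u, hu, hu1, huv⟩ : ∃ u ∈ V, u ≠ 1 ∧ u ≠ v := by
    by_contra hcon
    push Not at hcon
    let f : ↥(V : Subgroup G) → Bool := fun a => decide ((a : G) = 1)
    have hf : Function.Injective f := by
      intro a b e
      have e' : ((a : G) = 1 ↔ (b : G) = 1) := decide_eq_decide.1 e
      by_cases ha : (a : G) = 1
      · have hb : (b : G) = 1 := e'.1 ha
        exact Subtype.ext (ha.trans hb.symm)
      · have hb : ¬ (b : G) = 1 := fun hb => ha (e'.2 hb)
        exact Subtype.ext ((hcon _ a.2 ha).trans (hcon _ b.2 hb).symm)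
    have := Nat.card_le_card_of_injective f hf
    rw [h.klein.card_four] at this
    simp at this
  set u' := u * v with hu'
  have hu'V : u' ∈ V := mul_mem hu h.hvV
  have hu'1 : u' ≠ 1 := fun e => huv (mul_right_cancel (e.trans (h.sq h.hvV).symm))
  have hu'v : u' ≠ v := fun e => hu1 (by simpa [hu'] using e)
  have hne : u ≠ u' := fun e => hv1 (by simpa [hu'] using e)
  have huniq : ∀ a ∈ V, ∀ b ∈ V, a⁻¹ * b ∈ (centralizerPPrimeCore 2 v) → a = b := by
    intro a ha b hb hab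
    have hm := mul_mem (inv_mem ha) hb
    have h2 : orderOf (a⁻¹ * b) ∣ 2 := orderOf_dvd_of_pow_eq_one (by rw [pow_two]; exact h.sq hm)
    rcases (Nat.dvd_prime Nat.prime_two).1 h2 with h1 | h1
    · exact inv_mul_eq_one.1 (orderOf_eq_one_iff.1 h1)
    · have := (h.mem_core hab).2.1
      rw [h1] at this; exact absurd this (by decide)
  have hsame : ∀ a ∈ V, ∀ b ∈ V, ∀ s, s ∈ kleinOrbit v a → s ∈ kleinOrbit v b → a = b := by
    intro a ha b hb s hsa hsb
    refine huniq a ha b hb ?_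
    have := mul_mem (h.orbit_coset ha hsa) (inv_mem (h.orbit_coset hb hsb))
    rwa [mul_inv_rev, inv_inv, ← mul_assoc, mul_assoc a⁻¹, mul_inv_cancel, mul_one] at this
  have hfour : ∀ w ∈ V, w ≠ 1 → w ≠ v → w = u ∨ w = u' := by
    intro w hw hw1 hwv
    by_contra hcon
    push Not at hcon
    let T : Finset (V : Subgroup G) := {1, ⟨v, h.hvV⟩, ⟨u, hu⟩, ⟨u', hu'V⟩, ⟨w, hw⟩}
    have hT : T.card = 5 := by
      simp only [T]
      rw [Finset.card_insert_of_notMem, Finset.card_insert_of_notMem,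
        Finset.card_insert_of_notMem, Finset.card_pair] <;>
        simp [Subtype.ext_iff, Ne.symm hv1, Ne.symm hu1, Ne.symm hu'1, Ne.symm hw1, Ne.symm huv,
          Ne.symm hu'v, Ne.symm hwv, hne, Ne.symm hcon.1, Ne.symm hcon.2]
    have := T.card_le_univ
    rw [hT, ← Nat.card_eq_fintype_card, h.klein.card_four] at this
    omega
  set A := kleinOrbit v u ×ˢ kleinOrbit v u' ∪ kleinOrbit v u' ×ˢ kleinOrbit v u with hA
  have hA' : A.card * Nat.card (Subgroup.centralizer ((V : Subgroup G) : Set G)) ^ 2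
      = 2 * Nat.card (Subgroup.centralizer ({v} : Set G)) ^ 2 := by
    rw [hA, Finset.card_union_of_disjoint, Finset.card_product, Finset.card_product,
      pow_two, pow_two]
    · rw [show ((kleinOrbit v u).card * (kleinOrbit v u').card + (kleinOrbit v u').card * (kleinOrbit v u).card) *
          (Nat.card (Subgroup.centralizer ((V : Subgroup G) : Set G)) *
          Nat.card (Subgroup.centralizer ((V : Subgroup G) : Set G)))
        = 2 * (((kleinOrbit v u).card * Nat.card (Subgroup.centralizer ((V : Subgroup G) : Set G))) *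
          ((kleinOrbit v u').card * Nat.card (Subgroup.centralizer ((V : Subgroup G) : Set G)))) by ring,
        h.card_orbit hu hu1 huv, h.card_orbit hu'V hu'1 hu'v]
    · rw [Finset.disjoint_left]
      intro p hp hp'
      exact hne (hsame u hu u' hu'V _ (Finset.mem_product.1 hp).1 (Finset.mem_product.1 hp').1)
  rw [← hA']
  congr 1
  have hmem : ∀ a b, a ∈ V → a ≠ 1 → b ∈ V → b ≠ 1 → a * b = v → ∀ s t, s ∈ kleinOrbit v a →
      t ∈ kleinOrbit v b → IsConj v s ∧ IsConj v t ∧ v⁻¹ * (s * t) ∈ (centralizerPPrimeCore 2 v) := by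
    intro a b ha ha1 hb hb1 hab s t hs ht
    refine ⟨?_, ?_, ?_⟩
    · obtain ⟨c, -, rfl⟩ := h.mem_orbit.1 hs
      exact (h.fus a ha ha1).trans (isConj_iff.2 ⟨c, rfl⟩)
    · obtain ⟨c, -, rfl⟩ := h.mem_orbit.1 ht
      exact (h.fus b hb hb1).trans (isConj_iff.2 ⟨c, rfl⟩)
    · have hd := (h.mem_core (h.orbit_coset ha hs)).2.2 b⁻¹ (h.comm (inv_mem hb) h.hvV)
      rw [inv_inv] at hd
      have e : v⁻¹ * (s * t) = b⁻¹ * (a⁻¹ * s) * b * (b⁻¹ * t) := by rw [← hab]; group
      rw [e]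
      exact mul_mem hd (h.orbit_coset hb ht)
  rw [← Nat.card_sigma, ← Fintype.card_coe, ← Nat.card_eq_fintype_card]
  refine Nat.card_congr
    { toFun := fun p => ⟨p.2.1, ?_⟩
      invFun := fun q => ⟨⟨v⁻¹ * (q.1.1 * q.1.2), ?_⟩, ⟨q.1, ?_⟩⟩
      left_inv := ?_
      right_inv := fun q => Subtype.ext rfl }
  · obtain ⟨d, ⟨⟨s, t⟩, hs, ht, hst⟩⟩ := p
    simp only at hs ht hst ⊢
    have hs2 := hinv s hs
    have ht2 := hinv t ht
    have hpow : (v * (d : G)) ^ orderOf (d : G) = v := by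
      rw [(show Commute v d from (h.mem_core d.2).1.symm).mul_pow, pow_orderOf_eq_one, mul_one]
      obtain ⟨j, hj⟩ := (h.mem_core d.2).2.1
      rw [hj, pow_succ, pow_mul, pow_two, h.sq h.hvV, one_pow, one_mul]
    have e : s * (v * d) * s⁻¹ = (v * (d : G))⁻¹ := by
      rw [← hst, invol_inv hs2, mul_inv_rev, invol_inv hs2, invol_inv ht2,
        show s * (s * t) * s = s * s * t * s by group, invol_mul_self hs2, one_mul]
    have e2 := congrArg (· ^ orderOf (d : G)) e
    simp only [conj_pow, inv_pow, hpow, inv_eq_of_mul_eq_one_right (h.sq h.hvV)] at e2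
    have hsv : s * v = v * s := mul_inv_eq_iff_eq_mul.1 e2
    have hteq : t = s * v * d := by rw [mul_assoc, ← hst, ← mul_assoc, invol_mul_self hs2, one_mul]
    have htv : t * v = v * t := by
      rw [hteq]
      exact ((show Commute s v from hsv).mul_left (Commute.refl v)).mul_left
        (show Commute (d : G) v from (h.mem_core d.2).1) |>.eq
    rcases h.invol_mem_orbit hs2 hsv with hsv' | ⟨a, ha, ha1, hav, hsa⟩
    · exfalso
      rw [hsv', h.sq h.hvV, one_mul] at hteq
      have := (h.mem_core d.2).2.1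
      rw [← hteq, ht2] at this
      exact absurd this (by decide)
    rcases h.invol_mem_orbit ht2 htv with htv' | ⟨b, hb, hb1, hbv, htb⟩
    · exfalso
      rw [htv'] at hst
      have hco : s ∈ (centralizerPPrimeCore 2 v) → False := fun hsD => by
        have := (h.mem_core hsD).2.1
        rw [hs2] at this; exact absurd this (by decide)
      have e3 : s = v * (d : G) * v⁻¹ := by rw [← hst]; group
      exact hco (e3 ▸ (h.mem_core d.2).2.2 v rfl)
    have hab : a * b = v := by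
      refine (huniq v h.hvV (a * b) (mul_mem ha hb) ?_).symm
      have hd := (h.mem_core (h.orbit_coset ha hsa)).2.2 b⁻¹ (h.comm (inv_mem hb) h.hvV)
      rw [inv_inv] at hd
      have hx := mul_mem hd (h.orbit_coset hb htb)
      have e4 : b⁻¹ * (a⁻¹ * s) * b * (b⁻¹ * t) = (a * b)⁻¹ * (v * (d : G)) := by
        rw [← hst]; group
      rw [e4] at hx
      have := inv_mem (mul_mem hx (inv_mem d.2))
      rwa [show ((a * b)⁻¹ * (v * (d : G)) * (d : G)⁻¹)⁻¹ = v⁻¹ * (a * b) by group] at this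
    rw [hA, Finset.mem_union, Finset.mem_product, Finset.mem_product]
    rcases hfour a ha ha1 hav with rfl | rfl
    · refine Or.inl ⟨hsa, ?_⟩
      convert htb
      rw [hu', ← hab, ← mul_assoc, h.sq ha, one_mul]
    · refine Or.inr ⟨hsa, ?_⟩
      convert htb
      have : b = u' * v := by rw [← hab, ← mul_assoc, h.sq ha, one_mul]
      rw [this, hu', mul_assoc, h.sq h.hvV, mul_one]
  · rcases (Finset.mem_union.1 q.2).imp Finset.mem_product.1 Finset.mem_product.1 with
      ⟨h1, h2⟩ | ⟨h1, h2⟩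
    · exact (hmem u u' hu hu1 hu'V hu'1 (by rw [hu', ← mul_assoc, h.sq hu, one_mul]) _ _ h1 h2).2.2
    · exact (hmem u' u hu'V hu'1 hu hu1 (by
        rw [hu', mul_assoc, h.comm h.hvV hu, ← mul_assoc, h.sq hu, one_mul]) _ _ h1 h2).2.2
  · rcases (Finset.mem_union.1 q.2).imp Finset.mem_product.1 Finset.mem_product.1 with
      ⟨h1, h2⟩ | ⟨h1, h2⟩
    · obtain ⟨a, b, -⟩ := hmem u u' hu hu1 hu'V hu'1 (by rw [hu', ← mul_assoc, h.sq hu, one_mul]) _ _ h1 h2
      exact ⟨a, b, (mul_inv_cancel_left _ _).symm⟩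
    · obtain ⟨a, b, -⟩ := hmem u' u hu'V hu'1 hu hu1 (by
        rw [hu', mul_assoc, h.comm h.hvV hu, ← mul_assoc, h.sq hu, one_mul]) _ _ h1 h2
      exact ⟨a, b, (mul_inv_cancel_left _ _).symm⟩
  · rintro ⟨d, ⟨p, hs, ht, hst⟩⟩
    refine Sigma.subtype_ext (Subtype.ext ?_) rfl
    show v⁻¹ * (p.1 * p.2) = (d : G)
    rw [hst, inv_mul_cancel_left]

omit h in
/-- A real irreducible character of odd degree has indicator one, a non-real one zero. -/
lemma indicator_cases [Fintype G] {χ : G → ℂ} (hχ : IsIrrCharacter G χ) {x : ℕ} (hx : χ 1 = x)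
    (hodd : Odd x) :
    ((∃ s : G, (χ s).im ≠ 0) ∧ (Nat.card G : ℂ)⁻¹ * ∑ s : G, χ (s * s) = 0) ∨
    ((∀ s : G, (χ s).im = 0) ∧ (Nat.card G : ℂ)⁻¹ * ∑ s : G, χ (s * s) = 1) := by
  obtain ⟨h0, h1⟩ := Lib.Characters.frobeniusSchur hχ
  by_cases hre : ∃ s : G, (χ s).im ≠ 0
  · exact Or.inl ⟨hre, h0 hre⟩
  · push Not at hre
    obtain ⟨n, B, ε, hn, hdet, hε, hT, he⟩ := h1 hre
    refine Or.inr ⟨hre, he.trans ?_⟩
    rcases hε with rfl | rfl
    · rfl
    · exfalso
      have hxn : x = n := by exact_mod_cast hx.symm.trans hn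
      have := congrArg Matrix.det hT
      rw [Matrix.det_transpose, neg_one_smul, Matrix.det_neg, Fintype.card_fin,
        (hxn ▸ hodd : Odd n).neg_one_pow, neg_one_mul] at this
      exact hdet (by linear_combination this / 2)

variable (M : Ideal AlgInt) (hM : IsPModular 2 M) {χ₁ χ₂ χ₃ : IrrCharacter G} {ε₁ ε₂ ε₃ : ℤ}
  (hB : principalBlock M G = {χ : IrrCharacter G |
    (χ : G → ℂ) = (fun _ => 1) ∨ χ = χ₁ ∨ χ = χ₂ ∨ χ = χ₃})
  (hd1 : (χ₁ : G → ℂ) ≠ (fun _ => 1)) (hd2 : (χ₂ : G → ℂ) ≠ (fun _ => 1))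
  (hd3 : (χ₃ : G → ℂ) ≠ (fun _ => 1)) (h12 : χ₁ ≠ χ₂) (h13 : χ₁ ≠ χ₃) (h23 : χ₂ ≠ χ₃)
  (he1 : ε₁ = 1 ∨ ε₁ = -1) (he2 : ε₂ = 1 ∨ ε₂ = -1) (he3 : ε₃ = 1 ∨ ε₃ = -1)
  (hv1 : (χ₁ : G → ℂ) v = ε₁) (hv2 : (χ₂ : G → ℂ) v = ε₂) (hv3 : (χ₃ : G → ℂ) v = ε₃)

include hM hB hd1 hd2 hd3 h12 h13 h23 he1 he2 he3 hv1 hv2 hv3

/-- The averaged columns are supported on the four characters. -/
lemma avg_values [Fintype G] [Fintype (IrrCharacter G)] [DecidableEq (IrrCharacter G)]
    [Fintype (centralizerPPrimeCore 2 v)] (f : IrrCharacter G → ℂ) :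
    ∑ χ : IrrCharacter G, f χ * ∑ d : centralizerPPrimeCore 2 v, (χ : G → ℂ) (v * d)
      = (Nat.card (centralizerPPrimeCore 2 v) : ℂ) *
        (f (trivIrr G) + f χ₁ * ε₁ + f χ₂ * ε₂ + f χ₃ * ε₃) := by
  classical
  have := Fact.mk Nat.prime_two
  set B : Finset (IrrCharacter G) := {trivIrr G, χ₁, χ₂, χ₃} with hBdef
  have hT : ∀ χ : IrrCharacter G, (χ : G → ℂ) = (fun _ => 1) ↔ χ = trivIrr G :=
    fun χ => ⟨fun e => Subtype.ext e, fun e => by rw [e]; rfl⟩
  have n1 : χ₁ ≠ trivIrr G := fun e => hd1 ((hT _).2 e)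
  have n2 : χ₂ ≠ trivIrr G := fun e => hd2 ((hT _).2 e)
  have n3 : χ₃ ≠ trivIrr G := fun e => hd3 ((hT _).2 e)
  have hconst : ∀ χ ∈ principalBlock M G, ∑ d : centralizerPPrimeCore 2 v, (χ : G → ℂ) (v * d)
      = (Nat.card (centralizerPPrimeCore 2 v) : ℂ) * (χ : G → ℂ) v := by
    intro χ hχ
    rw [Finset.sum_congr rfl fun (d : centralizerPPrimeCore 2 v) _ =>
      Cfsg.Agent.S0942.result 2 M hM v ⟨1, by rw [pow_one, h.hv]⟩ d d.2 χ hχ, Finset.sum_const,
      Finset.card_univ, ← Nat.card_eq_fintype_card, nsmul_eq_mul]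
  have hm : ∀ χ ∈ B, χ ∈ principalBlock M G := by
    intro χ hχ
    rw [hB]
    simp only [hBdef, Finset.mem_insert, Finset.mem_singleton] at hχ
    rcases hχ with e | e | e | e
    · exact Or.inl ((hT _).2 e)
    · exact Or.inr (Or.inl e)
    · exact Or.inr (Or.inr (Or.inl e))
    · exact Or.inr (Or.inr (Or.inr e))
  have hsum : ∀ g : IrrCharacter G → ℂ,
      ∑ χ ∈ B, g χ = g (trivIrr G) + g χ₁ + g χ₂ + g χ₃ := by
    intro g
    rw [hBdef, Finset.sum_insert (by simp [n1.symm, n2.symm, n3.symm]),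
      Finset.sum_insert (by simp [h12, h13]), Finset.sum_insert (by simp [h23]),
      Finset.sum_singleton]
    ring
  have hzero : ∀ χ ∉ B, ∑ d : centralizerPPrimeCore 2 v, (χ : G → ℂ) (v * d) = 0 := by
    intro χ hχ
    let S : IrrCharacter G → ℂ := fun ψ =>
      ∑ d : centralizerPPrimeCore 2 v, (ψ : G → ℂ) (v * d)
    have h1 : ∑ ψ ∈ B, S ψ * conj (S ψ) = 4 * (Nat.card (centralizerPPrimeCore 2 v) : ℂ) ^ 2 := by
      rw [Finset.sum_congr rfl fun ψ hψ => by simp only [S, hconst ψ (hm ψ hψ)]; rfl,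
        hsum, hv1, hv2, hv3, trivIrr_apply]
      rcases he1 with rfl | rfl <;> rcases he2 with rfl | rfl <;> rcases he3 with rfl | rfl <;>
        simp only [map_mul, map_natCast, map_intCast, map_one] <;> push_cast <;> ring
    have h2 := h.sum_normSq
    rw [← Finset.sum_add_sum_compl B, h1] at h2
    have h3 : ∑ ψ ∈ Bᶜ, S ψ * conj (S ψ) = 0 := by linear_combination h2
    simp only [Complex.mul_conj] at h3
    have h4 : ∑ ψ ∈ Bᶜ, Complex.normSq (S ψ) = 0 := by exact_mod_cast h3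
    exact Complex.normSq_eq_zero.1
      ((Finset.sum_eq_zero_iff_of_nonneg fun ψ _ => Complex.normSq_nonneg _).1 h4 χ
        (Finset.mem_compl.2 hχ))
  rw [← Finset.sum_subset (Finset.subset_univ B) (fun χ _ hχ => by rw [hzero χ hχ, mul_zero]),
    Finset.sum_congr rfl fun χ hχ => by rw [hconst χ (hm χ hχ)], hsum, hv1, hv2, hv3, trivIrr_apply]
  ring

/-- Brauer's order formula. -/
theorem order_formula (x₁ x₂ x₃ : ℕ) (hx1 : (χ₁ : G → ℂ) 1 = x₁) (hx2 : (χ₂ : G → ℂ) 1 = x₂)
    (hx3 : (χ₃ : G → ℂ) 1 = x₃) :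
    (1 + ε₁ * (x₁ : ℤ) + ε₂ * x₂ + ε₃ * x₃ = 0) ∧
    (Nat.card G : ℚ) * (1 + (ε₁ : ℚ) / x₁ + (ε₂ : ℚ) / x₂ + (ε₃ : ℚ) / x₃) *
      (Nat.card (Subgroup.centralizer ((V : Subgroup G) : Set G)) : ℚ) ^ 2
      = 8 * (Nat.card (Subgroup.centralizer ({v} : Set G)) : ℚ) ^ 3 := by
  classical
  haveI := Fintype.ofFinite G
  haveI := Fintype.ofFinite (IrrCharacter G)
  haveI := Lib.Blocks.isPrime_of_isPModular hM
  have := Fact.mk Nat.prime_two
  have hT : ∀ χ : IrrCharacter G, (χ : G → ℂ) = (fun _ => 1) ↔ χ = trivIrr G :=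
    fun χ => ⟨fun e => Subtype.ext e, fun e => by rw [e]; rfl⟩
  have n1 : χ₁ ≠ trivIrr G := fun e => hd1 ((hT _).2 e)
  have n2 : χ₂ ≠ trivIrr G := fun e => hd2 ((hT _).2 e)
  have n3 : χ₃ ≠ trivIrr G := fun e => hd3 ((hT _).2 e)
  constructor
  · have e := Cfsg.Agent.S0907.result 2 M hM _ Lib.Blocks.isPBlock_principalBlock 1 v
      (by simp) (by rw [h.hv])
    rw [Lib.Blocks.finsum_irr_eq_sum_ite, ← Finset.sum_filter,
      show Finset.univ.filter (fun χ => χ ∈ principalBlock M G) = {trivIrr G, χ₁, χ₂, χ₃} by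
        ext χ
        simp only [hB, Set.mem_setOf_eq, Finset.mem_filter, Finset.mem_univ, true_and,
          Finset.mem_insert, Finset.mem_singleton, hT],
      Finset.sum_insert (by simp [n1.symm, n2.symm, n3.symm]),
      Finset.sum_insert (by simp [h12, h13]), Finset.sum_insert (by simp [h23]),
      Finset.sum_singleton] at e
    simp only [trivIrr_apply, hx1, hx2, hx3, hv1, hv2, hv3, map_one, map_intCast] at e
    have e2 : (((1 + ε₁ * (x₁ : ℤ) + ε₂ * x₂ + ε₃ * x₃) : ℤ) : ℂ) = 0 := by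
      push_cast
      linear_combination e
    exact_mod_cast e2
  · set D := centralizerPPrimeCore 2 v
    haveI := Fintype.ofFinite D
    set C := Nat.card (Subgroup.centralizer ({v} : Set G)) with hC
    set P := Nat.card (Subgroup.centralizer ((V : Subgroup G) : Set G)) with hP
    set K := Nat.card {y : G // IsConj v y} with hK
    have hKC : K * C = Nat.card G := card_conj_mul_card_centralizer v
    have hCD : C = 4 * Nat.card D := h.card_core.1
    have hp : ((∑ d : D, Nat.card {p : G × G // IsConj v p.1 ∧ IsConj v p.2 ∧ p.1 * p.2 = v * d}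
        : ℕ) : ℂ) * (P : ℂ) ^ 2 = 2 * (C : ℂ) ^ 2 := by exact_mod_cast h.sum_pairs
    have hs : ((∑ d : D, Nat.card {p : G × G // IsConj v p.1 ∧ IsConj v p.2 ∧ p.1 * p.2 = v * d}
        : ℕ) : ℂ) = (K : ℂ) * K / (Nat.card G : ℂ) * ((Nat.card D : ℂ) *
          (1 + (ε₁ : ℂ) / x₁ + (ε₂ : ℂ) / x₂ + (ε₃ : ℂ) / x₃)) := by
      have key : ∀ d : D, (Nat.card {p : G × G // IsConj v p.1 ∧ IsConj v p.2 ∧ p.1 * p.2 = v * d} : ℂ)
          = (K : ℂ) * K / (Nat.card G : ℂ) * ∑ χ : IrrCharacter G,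
            conj ((χ : G → ℂ) v * (χ : G → ℂ) v / (χ : G → ℂ) 1) * (χ : G → ℂ) (v * d) := by
        intro d
        have e := congrArg (starRingEnd ℂ) (card_class_mul v v (v * (d : G)))
        simp only [map_natCast, map_mul, map_div₀, map_sum, Complex.conj_conj] at e
        rw [e]
        refine congrArg _ (Finset.sum_congr rfl fun χ _ => ?_)
        rw [map_div₀, map_mul]; ring
      rw [Nat.cast_sum, Finset.sum_congr rfl fun d _ => key d, ← Finset.mul_sum, Finset.sum_comm]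
      congr 1
      simp only [← Finset.mul_sum]
      rw [h.avg_values M hM hB hd1 hd2 hd3 h12 h13 h23 he1 he2 he3 hv1 hv2 hv3]
      simp only [trivIrr_apply, hx1, hx2, hx3, hv1, hv2, hv3, map_div₀, map_mul, map_intCast,
        map_natCast, map_one]
      rcases he1 with rfl | rfl <;> rcases he2 with rfl | rfl <;> rcases he3 with rfl | rfl <;>
        push_cast <;> ring
    rw [hs, ← hKC, hCD] at hp
    have hD0 : (Nat.card D : ℂ) ≠ 0 := Nat.cast_ne_zero.2 Nat.card_pos.ne'
    have hK0 : (K : ℂ) ≠ 0 := fun e => by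
      have e' : K = 0 := by exact_mod_cast e
      have := (Nat.card_pos (α := G)).ne'
      rw [← hKC, e', zero_mul] at this
      exact this rfl
    have goal' : (((Nat.card G : ℚ) * (1 + (ε₁ : ℚ) / x₁ + (ε₂ : ℚ) / x₂ + (ε₃ : ℚ) / x₃) *
        (P : ℚ) ^ 2 : ℚ) : ℂ) = ((8 * (C : ℚ) ^ 3 : ℚ) : ℂ) := by
      rw [← hKC, hCD]
      push_cast at hp ⊢
      field_simp at hp
      linear_combination 4 * (Nat.card D : ℂ) * hp
    exact_mod_cast goal'

/-- The relation between the indicators. -/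
theorem indicator_relation [Fintype G] :
    1 + (ε₁ : ℂ) * ((Nat.card G : ℂ)⁻¹ * ∑ s : G, (χ₁ : G → ℂ) (s * s))
      + (ε₂ : ℂ) * ((Nat.card G : ℂ)⁻¹ * ∑ s : G, (χ₂ : G → ℂ) (s * s))
      + (ε₃ : ℂ) * ((Nat.card G : ℂ)⁻¹ * ∑ s : G, (χ₃ : G → ℂ) (s * s)) = 0 := by
  classical
  haveI := Fintype.ofFinite (IrrCharacter G)
  set D := centralizerPPrimeCore 2 v
  haveI := Fintype.ofFinite D
  have := Fact.mk Nat.prime_two
  have hnone : ∀ (s : G) (d : D), ¬ IsConj (s * s) (v * d) := by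
    intro s d hsd
    obtain ⟨g, hg⟩ := isConj_iff.1 hsd
    have hd := (h.mem_core d.2).1
    have h2 : orderOf (v * (d : G)) = 2 * orderOf (d : G) := by
      rw [(show Commute v d from hd.symm).orderOf_mul_eq_mul_orderOf_of_coprime (by
        rw [h.hv]; exact Nat.coprime_two_left.2 (h.mem_core d.2).2.1), h.hv]
    rw [← hg, orderOf_conj_eq] at h2
    have h4 : 4 ∣ orderOf s := by
      have e : orderOf (s * s) = orderOf s / Nat.gcd (orderOf s) 2 := by
        rw [← pow_two, orderOf_pow]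
      rw [h2] at e
      have hs0 := orderOf_pos s
      rcases Nat.even_or_odd (orderOf s) with he | ho
      · rw [Nat.gcd_eq_right he.two_dvd] at e
        obtain ⟨r, hr⟩ := he
        omega
      · rw [Nat.Coprime.gcd_eq_one (Nat.coprime_two_right.2 ho), Nat.div_one] at e
        obtain ⟨r, hr⟩ := ho
        omega
    obtain ⟨r, hr⟩ := h4
    have hr0 : 0 < r := by have := orderOf_pos s; omega
    have ho : orderOf (s ^ r) = 4 := by
      rw [orderOf_pow' _ hr0.ne', hr, Nat.gcd_eq_right (dvd_mul_left r 4), Nat.mul_div_cancel _ hr0]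
    obtain ⟨R, hR⟩ := (IsPGroup.of_card (G := ↥(Subgroup.zpowers (s ^ r))) (p := 2) (n := 2)
      (by rw [Nat.card_zpowers, ho]; norm_num)).exists_le_sylow
    obtain ⟨y, hy⟩ := MulAction.exists_smul_eq G R V
    have hmem : y * s ^ r * y⁻¹ ∈ (V : Subgroup G) := by
      rw [← hy]; exact ⟨_, hR (Subgroup.mem_zpowers _), rfl⟩
    have h3 : (y * s ^ r * y⁻¹) ^ 2 = 1 := by rw [pow_two]; exact h.sq hmem
    have := orderOf_dvd_of_pow_eq_one h3
    rw [orderOf_conj_eq, ho] at this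
    norm_num at this
  have key : ∀ d : D, ∑ χ : IrrCharacter G,
      ((Nat.card G : ℂ)⁻¹ * ∑ s : G, (χ : G → ℂ) (s * s)) * conj ((χ : G → ℂ) (v * d)) = 0 := by
    intro d
    simp only [Finset.mul_sum, Finset.sum_mul]
    rw [Finset.sum_comm]
    refine Finset.sum_eq_zero fun s _ => ?_
    simp only [mul_assoc, ← Finset.mul_sum]
    rw [sum_irr_mul_conj, if_neg (hnone s d), mul_zero]
  have hsum : ∑ χ : IrrCharacter G, ((Nat.card G : ℂ)⁻¹ * ∑ s : G, (χ : G → ℂ) (s * s)) *
      conj (∑ d : D, (χ : G → ℂ) (v * d)) = 0 := by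
    rw [Finset.sum_congr rfl fun χ _ => by rw [map_sum, Finset.mul_sum]]
    rw [Finset.sum_comm]
    exact Finset.sum_eq_zero fun d _ => key d
  have h2 := congrArg (starRingEnd ℂ) hsum
  simp only [map_sum, map_mul, Complex.conj_conj, map_zero] at h2
  rw [h.avg_values M hM hB hd1 hd2 hd3 h12 h13 h23 he1 he2 he3 hv1 hv2 hv3] at h2
  have hD0 : (Nat.card D : ℂ) ≠ 0 := Nat.cast_ne_zero.2 Nat.card_pos.ne'
  have h3 := congrArg (starRingEnd ℂ) ((mul_eq_zero.1 h2).resolve_left hD0)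
  simp only [map_add, map_mul, map_sum, map_intCast, Complex.conj_conj, map_zero, trivIrr_apply,
    Finset.sum_const, Finset.card_univ, nsmul_eq_mul, mul_one, map_natCast, map_one] at h3
  rw [Nat.card_eq_fintype_card] at h3 ⊢
  rw [inv_mul_cancel₀ (Nat.cast_ne_zero.2 Fintype.card_ne_zero)] at h3
  linear_combination h3

end KleinBase

end Cfsg.Agent.Lib.InvChar
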