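import Mathlib
import Cfsg.Agent.Lib.Characters.Ortho

/-!
# Landau's theorem: the number of classes bounds the order
-/

set_option autoImplicit false

namespace Cfsg.Agent.Lib.InvChar.Landau

/-- Finitely many ways of writing a number as a sum of `k` unit fractions. -/
theorem exists_bound (k : ℕ) : ∀ r : ℚ, ∃ N : ℕ, ∀ m : Multiset ℕ, m.card = k →
    (∀ x ∈ m, 0 < x) → (m.map fun x : ℕ => (x : ℚ)⁻¹).sum = r → ∀ x ∈ m, x ≤ N := by
  induction k with
  | zero =>
    intro r
    exact ⟨0, fun m hm _ _ x hx => by simp [Multiset.card_eq_zero.1 hm] at hx⟩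
  | succ k IH =>
    intro r
    choose F hF using IH
    set A := ⌈((k + 1 : ℕ) : ℚ) / r⌉₊ with hA
    refine ⟨A + ∑ a ∈ Finset.range (A + 1), F (r - (a : ℚ)⁻¹), fun m hm hpos hsum x hx => ?_⟩
    obtain ⟨a, ha, hmin⟩ : ∃ a ∈ m, ∀ y ∈ m, a ≤ y := by
      obtain ⟨a, ha, hmin⟩ := Finset.exists_min_image m.toFinset id
        ⟨x, Multiset.mem_toFinset.2 hx⟩
      exact ⟨a, Multiset.mem_toFinset.1 ha, fun y hy => hmin y (Multiset.mem_toFinset.2 hy)⟩
    have ha0 : (0 : ℚ) < a := by exact_mod_cast hpos a ha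
    obtain ⟨m', rfl⟩ := Multiset.exists_cons_of_mem ha
    rw [Multiset.map_cons, Multiset.sum_cons] at hsum
    rw [Multiset.card_cons, Nat.succ_inj] at hm
    have hnn : 0 ≤ (m'.map fun x : ℕ => (x : ℚ)⁻¹).sum := by
      refine Multiset.sum_nonneg fun y hy => ?_
      obtain ⟨z, -, rfl⟩ := Multiset.mem_map.1 hy
      positivity
    have hub : (m'.map fun x : ℕ => (x : ℚ)⁻¹).sum ≤ k * (a : ℚ)⁻¹ := by
      refine (Multiset.sum_le_card_nsmul _ ((a : ℚ)⁻¹) fun y hy => ?_).trans (le_of_eq ?_)
      · obtain ⟨z, hz, rfl⟩ := Multiset.mem_map.1 hy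
        exact inv_anti₀ ha0 (by exact_mod_cast hmin z (Multiset.mem_cons_of_mem hz))
      · rw [Multiset.card_map, hm, nsmul_eq_mul]
    have hr : 0 < r := by
      have := inv_pos.2 ha0
      linarith
    have haA : a ≤ A := by
      have h1 : (a : ℚ) * r ≤ ((k + 1 : ℕ) : ℚ) := by
        calc (a : ℚ) * r ≤ a * ((a : ℚ)⁻¹ + k * (a : ℚ)⁻¹) :=
              mul_le_mul_of_nonneg_left (by linarith) ha0.le
          _ = _ := by field_simp; push_cast; ring
      have h2 : (a : ℚ) ≤ A := ((le_div_iff₀ hr).2 h1).trans (Nat.le_ceil _)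
      exact_mod_cast h2
    rcases Multiset.mem_cons.1 hx with rfl | hx'
    · exact haA.trans (Nat.le_add_right _ _)
    · refine (hF (r - (a : ℚ)⁻¹) m' hm (fun y hy => hpos y (Multiset.mem_cons_of_mem hy))
        (by linarith) x hx').trans ?_
      refine le_trans ?_ (Nat.le_add_left _ _)
      exact Finset.single_le_sum (f := fun b : ℕ => F (r - (b : ℚ)⁻¹)) (fun _ _ => Nat.zero_le _)
        (Finset.mem_range.2 (Nat.lt_succ_of_le haA))

/-- The bound on the order of a group with `k` conjugacy classes. -/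
noncomputable def bound (k : ℕ) : ℕ := (exists_bound k 1).choose

/-- Landau's theorem. -/
theorem card_le_bound (G : Type*) [Group G] [Finite G] :
    Nat.card G ≤ bound (Nat.card (ConjClasses G)) := by
  classical
  haveI := Fintype.ofFinite G
  haveI := Fintype.ofFinite (ConjClasses G)
  choose g hg using fun C : ConjClasses G => C.exists_rep
  let n : ConjClasses G → ℕ := fun C => Nat.card (Subgroup.centralizer ({g C} : Set G))
  have hmul : ∀ C : ConjClasses G, C.carrier.ncard * n C = Nat.card G := by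
    intro C
    have hcar : C.carrier = {x | IsConj (g C) x} := by
      ext x
      rw [ConjClasses.mem_carrier_iff_mk_eq, Set.mem_ofPred_eq]
      conv_lhs => rw [← hg C]
      rw [ConjClasses.mk_eq_mk_iff_isConj]
      exact isConj_comm
    have h := Characters.card_conj_eq_index (g C)
    rw [hcar, ← Nat.card_coe_set_eq]
    exact (congrArg (· * n C) h).trans (Subgroup.index_mul_card _)
  have hsum : ((Finset.univ.val.map n).map fun x : ℕ => (x : ℚ)⁻¹).sum = 1 := by
    rw [Multiset.map_map]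
    show ∑ C, ((n C : ℚ))⁻¹ = 1
    have hG : (Nat.card G : ℚ) ≠ 0 := Nat.cast_ne_zero.2 Nat.card_pos.ne'
    have hterm : ∀ C, ((n C : ℚ))⁻¹ = (C.carrier.ncard : ℚ) / Nat.card G := by
      intro C
      have h : (C.carrier.ncard : ℚ) * n C = Nat.card G := by exact_mod_cast hmul C
      have hn : (n C : ℚ) ≠ 0 := Nat.cast_ne_zero.2 Nat.card_pos.ne'
      field_simp
      linarith
    rw [Finset.sum_congr rfl fun C _ => hterm C, ← Finset.sum_div, ← Nat.cast_sum,
      ← finsum_eq_sum_of_fintype, Group.sum_card_conj_classes_eq_card, div_self hG]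
  have h := (exists_bound (Nat.card (ConjClasses G)) 1).choose_spec (Finset.univ.val.map n)
    (by rw [Multiset.card_map, Nat.card_eq_fintype_card]; rfl)
    (by
      intro x hx
      obtain ⟨C, -, rfl⟩ := Multiset.mem_map.1 hx
      exact Nat.card_pos)
    hsum (n (ConjClasses.mk 1)) (Multiset.mem_map_of_mem _ (Finset.mem_univ _))
  refine le_trans (le_of_eq ?_) h
  have h1 : g (ConjClasses.mk 1) = 1 := by
    have := hg (ConjClasses.mk 1)
    exact isConj_one_left.1 (ConjClasses.mk_eq_mk_iff_isConj.1 this)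
  show Nat.card G = Nat.card (Subgroup.centralizer ({g (ConjClasses.mk 1)} : Set G))
  rw [h1, Subgroup.centralizer_eq_top_iff_subset.2 (by simp), Subgroup.card_top]

end Cfsg.Agent.Lib.InvChar.Landau
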