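import Mathlib
import Cfsg.Prelude

set_option autoImplicit false

open scoped commutatorElement

namespace Cfsg.Agent.Lib.InvChar

universe u
variable {G : Type u} [Group G]

/-- Elementwise data of an extraspecial 2-group `E` with central involution `z`. -/
structure ExtraData (E : Subgroup G) (z : G) : Prop where
  z_mem : z ∈ E
  z_ne : z ≠ 1
  z_sq : z * z = 1
  z_comm : ∀ a ∈ E, a * z = z * a
  comm_or : ∀ a ∈ E, ∀ b ∈ E, a * b = b * a ∨ a * b = b * a * z
  sq_or : ∀ a ∈ E, a * a = 1 ∨ a * a = z
  central : ∀ x ∈ E, (∀ a ∈ E, a * x = x * a) → x = 1 ∨ x = z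

lemma ExtraData.of_isExtraspecial [Finite G] {E : Subgroup G} {z : G}
    (hext : Cfsg.IsExtraspecial 2 ↥E) (hz : orderOf z = 2) (hzE : z ∈ E)
    (hzc : ∀ a ∈ E, a * z = z * a) : ExtraData E z := by
  obtain ⟨hsp, hcard⟩ := hext
  have hcm : commutator ↥E = Subgroup.center ↥E := by
    unfold Cfsg.IsSpecial at hsp
    aesop
  have hz1 : z ≠ 1 := by
    intro h; rw [h, orderOf_one] at hz; norm_num at hz
  have hz2 : z * z = 1 := by
    rw [← pow_two, ← hz]; exact pow_orderOf_eq_one z
  have hcen : ∀ c ∈ Subgroup.center ↥E, (c : G) = 1 ∨ (c : G) = z := by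
    intro c hc
    by_contra hne
    push Not at hne
    have hzC : (⟨z, hzE⟩ : ↥E) ∈ Subgroup.center ↥E :=
      Subgroup.mem_center_iff.2 fun a => Subtype.ext (hzc a.1 a.2)
    have h2 := Nat.card_eq_two_iff' (1 : ↥(Subgroup.center ↥E)) |>.1 hcard
    obtain ⟨w, hw, huniq⟩ := h2
    have e1 := huniq ⟨c, hc⟩ (by
      intro h; exact hne.1 (congrArg (fun t : ↥(Subgroup.center ↥E) => ((t : ↥E) : G)) h))
    have e2 := huniq ⟨⟨z, hzE⟩, hzC⟩ (by
      intro h; exact hz1 (congrArg (fun t : ↥(Subgroup.center ↥E) => ((t : ↥E) : G)) h))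
    exact hne.2 (congrArg (fun t : ↥(Subgroup.center ↥E) => ((t : ↥E) : G)) (e1.trans e2.symm))
  have hcomm : ∀ a ∈ E, ∀ b ∈ E, a * b = b * a ∨ a * b = b * a * z := by
    intro a ha b hb
    have hmem : ⁅(⟨a, ha⟩ : ↥E)⁻¹, (⟨b, hb⟩ : ↥E)⁻¹⁆ ∈ Subgroup.center ↥E := by
      rw [← hcm]
      exact Subgroup.commutator_mem_commutator (Subgroup.mem_top _) (Subgroup.mem_top _)
    rcases hcen _ hmem with h | h
    · left
      simp [commutatorElement_def] at h
      calc a * b = b * a * (a⁻¹ * b⁻¹ * a * b) := by group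
        _ = _ := by rw [h, mul_one]
    · right
      simp [commutatorElement_def] at h
      calc a * b = b * a * (a⁻¹ * b⁻¹ * a * b) := by group
        _ = _ := by rw [h]
  refine ⟨hzE, hz1, hz2, hzc, hcomm, ?_, ?_⟩
  · intro a ha
    refine hcen (⟨a, ha⟩ * ⟨a, ha⟩) (Subgroup.mem_center_iff.2 fun b => Subtype.ext ?_)
    show (b : G) * (a * a) = a * a * b
    rcases hcomm b b.2 a ha with h | h
    · rw [← mul_assoc, h, mul_assoc, h, mul_assoc]
    · have hza : z * a = a * z := (hzc a ha).symm
      calc (b : G) * (a * a) = (b * a) * a := by group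
        _ = a * b * (z * a) := by rw [h]; group
        _ = a * (b * a) * z := by rw [hza]; group
        _ = a * a * b * (z * z) := by rw [h]; group
        _ = a * a * b := by rw [hz2, mul_one]
  · intro x hx hall
    exact hcen ⟨x, hx⟩ (Subgroup.mem_center_iff.2 fun a => Subtype.ext (hall a a.2))

/-- An extraspecial group which is covered by an abelian subgroup `A` and one translate `u A`
has order at most eight. -/
lemma ExtraData.card_le_eight [Finite G] {E : Subgroup G} {z : G} (D : ExtraData E z)
    (A : Subgroup G) (hA : ∀ a ∈ A, ∀ b ∈ A, a * b = b * a) (hAE : A ≤ E) (u : G) (hu : u ∈ E)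
    (hcov : ∀ x ∈ E, x ∈ A ∨ u⁻¹ * x ∈ A) : Nat.card ↥E ≤ 8 := by
  classical
  have hzen : ∀ a ∈ A, u * a = a * u → a = 1 ∨ a = z := by
    intro a ha hua
    refine D.central a (hAE ha) fun x hx => ?_
    rcases hcov x hx with h | h
    · exact hA x h a ha
    · have := hA (u⁻¹ * x) h a ha
      calc x * a = u * (u⁻¹ * x * a) := by group
        _ = u * a * (u⁻¹ * x) := by rw [this]; group
        _ = a * u * (u⁻¹ * x) := by rw [hua]
        _ = a * x := by group
  by_cases hex : ∃ a0 ∈ A, u * a0 ≠ a0 * u
  · obtain ⟨a0, ha0, hne⟩ := hex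
    have hcomm0 : u * a0 = a0 * u * z := (D.comm_or u hu a0 (hAE ha0)).resolve_left hne
    have hsub : (E : Set G) ⊆
        ↑(({1, z, a0, a0 * z} : Finset G) ∪ ({1, z, a0, a0 * z} : Finset G).image (u * ·)) := by
      have key : ∀ a ∈ A, a ∈ ({1, z, a0, a0 * z} : Finset G) := by
        intro a ha
        simp only [Finset.mem_insert, Finset.mem_singleton]
        by_cases h : u * a = a * u
        · rcases hzen a ha h with h | h <;> simp [h]
        · have h' : u * a = a * u * z := (D.comm_or u hu a (hAE ha)).resolve_left h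
          have hb : u * (a0⁻¹ * a) = a0⁻¹ * a * u := by
            have e1 : u * a0⁻¹ = a0⁻¹ * u * z := by
              have : a0 * (u * a0⁻¹) = u * z := by
                calc a0 * (u * a0⁻¹) = a0 * u * z * z * a0⁻¹ := by
                      rw [mul_assoc (a0 * u), D.z_sq, mul_one, mul_assoc]
                  _ = u * a0 * z * a0⁻¹ := by rw [hcomm0]
                  _ = u * (a0 * z) * a0⁻¹ := by group
                  _ = u * z := by rw [D.z_comm a0 (hAE ha0)]; group
              calc u * a0⁻¹ = a0⁻¹ * (a0 * (u * a0⁻¹)) := by group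
                _ = _ := by rw [this, mul_assoc]
            calc u * (a0⁻¹ * a) = u * a0⁻¹ * a := by group
              _ = a0⁻¹ * u * (z * a) := by rw [e1]; group
              _ = a0⁻¹ * (u * a) * z := by rw [← D.z_comm a (hAE ha)]; group
              _ = a0⁻¹ * a * u * (z * z) := by rw [h']; group
              _ = a0⁻¹ * a * u := by rw [D.z_sq, mul_one]
          rcases hzen _ (A.mul_mem (A.inv_mem ha0) ha) hb with h2 | h2
          · right; right; left
            exact (inv_mul_eq_one.1 h2).symm
          · right; right; right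
            exact inv_mul_eq_iff_eq_mul.1 h2
      intro x hx
      rw [Finset.coe_union, Set.mem_union, Finset.mem_coe, Finset.mem_coe]
      rcases hcov x hx with h | h
      · exact Or.inl (key x h)
      · exact Or.inr (Finset.mem_image.2 ⟨u⁻¹ * x, key _ h, by group⟩)
    calc Nat.card ↥E = (E : Set G).ncard := Nat.card_coe_set_eq _
      _ ≤ _ := Set.ncard_le_ncard hsub (Finset.finite_toSet _)
      _ ≤ 4 + 4 := by
        rw [Set.ncard_coe_finset]
        refine (Finset.card_union_le _ _).trans (add_le_add Finset.card_le_four ?_)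
        exact Finset.card_image_le.trans Finset.card_le_four
      _ = 8 := rfl
  · push Not at hex
    have hsub : (E : Set G) ⊆ ↑(({1, z} : Finset G) ∪ ({1, z} : Finset G).image (u * ·)) := by
      have key : ∀ a ∈ A, a ∈ ({1, z} : Finset G) := by
        intro a ha
        simpa using hzen a ha (hex a ha)
      intro x hx
      rw [Finset.coe_union, Set.mem_union, Finset.mem_coe, Finset.mem_coe]
      rcases hcov x hx with h | h
      · exact Or.inl (key x h)
      · exact Or.inr (Finset.mem_image.2 ⟨u⁻¹ * x, key _ h, by group⟩)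
    calc Nat.card ↥E = (E : Set G).ncard := Nat.card_coe_set_eq _
      _ ≤ _ := Set.ncard_le_ncard hsub (Finset.finite_toSet _)
      _ ≤ 2 + 2 := by
        rw [Set.ncard_coe_finset]
        refine (Finset.card_union_le _ _).trans (add_le_add Finset.card_le_two ?_)
        exact Finset.card_image_le.trans Finset.card_le_two
      _ ≤ 8 := by norm_num

/-- Two elements of `E` both failing to commute with `y` have a product commuting with `y`. -/
lemma ExtraData.mul_comm_of {E : Subgroup G} {z : G} (D : ExtraData E z) {y u v : G}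
    (hy : y ∈ E) (hu : u ∈ E) (hv : v ∈ E) (h1 : u * y ≠ y * u) (h2 : v * y ≠ y * v) :
    u * v * y = y * (u * v) := by
  have e1 := (D.comm_or u hu y hy).resolve_left h1
  have e2 := (D.comm_or v hv y hy).resolve_left h2
  calc u * v * y = u * (v * y) := by group
    _ = u * y * (v * z) := by rw [e2]; group
    _ = y * u * (z * v) * z := by rw [e1]; group
    _ = y * u * v * (z * z) := by rw [← D.z_comm v hv]; group
    _ = y * (u * v) := by rw [D.z_sq]; group

/-- `E` is covered by `C_E(y)` and one translate. -/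
lemma ExtraData.cover {E : Subgroup G} {z : G} (D : ExtraData E z) {y u : G}
    (hy : y ∈ E) (hu : u ∈ E) (h1 : u * y ≠ y * u) {x : G} (hx : x ∈ E) :
    x * y = y * x ∨ u⁻¹ * x * y = y * (u⁻¹ * x) := by
  by_cases h : x * y = y * x
  · exact Or.inl h
  · refine Or.inr (D.mul_comm_of hy (E.inv_mem hu) hx ?_ h)
    intro hc
    apply h1
    calc u * y = u * (y * u⁻¹) * u := by group
      _ = u * (u⁻¹ * y) * u := by rw [hc]
      _ = y * u := by group

end Cfsg.Agent.Lib.InvChar
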