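import Mathlib

set_option autoImplicit false

namespace Cfsg.Agent.Lib.InvChar

open MulAction

universe u
variable {G : Type u} [Group G] [Finite G]

lemma out_inv_mul_mem (H : Subgroup G) {y : G} {p : G ⧸ H} (hp : y • p = p) :
    p.out⁻¹ * y * p.out ∈ H := by
  have h : (QuotientGroup.mk (y * p.out) : G ⧸ H) = QuotientGroup.mk p.out := by
    rw [← smul_eq_mul, ← MulAction.Quotient.smul_mk, QuotientGroup.out_eq']
    exact hp
  have := QuotientGroup.eq.1 h.symm
  simpa [mul_assoc] using this

/-- If a homomorphism `μ : H →* A` to a group with two-element range has trivial transfer, then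
for every involution `y` the points of `G ⧸ H` fixed by `y` at which `μ` takes the nontrivial
value form a set of even cardinality. -/
lemma even_card_fixed_of_transfer_eq_one {A : Type*} [CommGroup A] (H : Subgroup G)
    (μ : H →* A) (a : A) (ha : a ≠ 1) (hval : ∀ h, μ h = 1 ∨ μ h = a) (ha2 : a * a = 1)
    (y : G) (hy : y * y = 1) (htr : MonoidHom.transfer μ y = 1) :
    Even (Nat.card {p : G ⧸ H // ∃ hp : y • p = p, μ ⟨_, out_inv_mul_mem H hp⟩ ≠ 1}) := by
  classical
  have := Fintype.ofFinite (G ⧸ H)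
  have := Fintype.ofFinite (Quotient (orbitRel (Subgroup.zpowers y) (G ⧸ H)))
  rw [MonoidHom.transfer_eq_prod_quotient_orbitRel_zpowers_quot] at htr
  set v : G ⧸ H → A := fun p =>
    if hp : y • p = p then μ ⟨_, out_inv_mul_mem H hp⟩ else 1 with hv
  have hper : ∀ p : G ⧸ H, Function.minimalPeriod (y • ·) p = 1 ∨
      (Function.minimalPeriod (y • ·) p = 2 ∧ y • p ≠ p) := by
    intro p
    by_cases hp : y • p = p
    · exact Or.inl (Function.minimalPeriod_eq_one_iff_isFixedPt.2 hp)
    · refine Or.inr ⟨?_, hp⟩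
      refine Function.minimalPeriod_eq_prime ?_ ?_
      · show (y • ·)^[2] p = p
        simp [Function.iterate_succ, smul_smul, hy]
      · exact hp
  have hterm : ∀ q : Quotient (orbitRel (Subgroup.zpowers y) (G ⧸ H)),
      μ ⟨q.out.out⁻¹ * y ^ Function.minimalPeriod (y • ·) q.out * q.out.out,
        QuotientGroup.out_conj_pow_minimalPeriod_mem H y q.out⟩ = v q.out := by
    intro q
    rcases hper q.out with h | ⟨h, hne⟩
    · have hp : y • q.out = q.out := Function.minimalPeriod_eq_one_iff_isFixedPt.1 h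
      simp only [hv, dif_pos hp]
      congr 1
      exact Subtype.ext (by simp [h])
    · simp only [hv, dif_neg hne]
      rw [← map_one μ]
      congr 1
      exact Subtype.ext (by simp [h, pow_two, hy])
  rw [Finset.prod_congr rfl (fun q _ => hterm q)] at htr
  set S := (Finset.univ : Finset (Quotient (orbitRel (Subgroup.zpowers y) (G ⧸ H)))).filter
    (fun q => v q.out ≠ 1)
  have hprod : a ^ S.card = 1 := by
    rw [← htr, ← Finset.prod_filter_ne_one]
    symm
    rw [← Finset.prod_const]
    refine Finset.prod_congr rfl fun q hq => ?_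
    have hne := (Finset.mem_filter.1 hq).2
    simp only [hv] at hne ⊢
    split_ifs at hne ⊢ with hp
    · exact (hval _).resolve_left hne
    · exact absurd rfl hne
  have heven : Even S.card := by
    by_contra h
    rw [Nat.not_even_iff_odd] at h
    obtain ⟨k, hk⟩ := h
    rw [hk, pow_succ, pow_mul, pow_two, ha2, one_pow, one_mul] at hprod
    exact ha hprod
  have hfix : ∀ p : G ⧸ H, y • p = p →
      (Quotient.mk (orbitRel (Subgroup.zpowers y) (G ⧸ H)) p).out = p := by
    intro p hp
    have h := Quotient.mk_out (s := orbitRel (Subgroup.zpowers y) (G ⧸ H)) p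
    obtain ⟨⟨g, hg⟩, hgp⟩ := (orbitRel_apply.1 h : _ ∈ orbit _ p)
    rw [← hgp]
    have hst : g ∈ stabilizer G p :=
      (Subgroup.zpowers_le.2 (show y ∈ stabilizer G p from hp)) hg
    exact hst
  have hcard : Nat.card {p : G ⧸ H // ∃ hp : y • p = p, μ ⟨_, out_inv_mul_mem H hp⟩ ≠ 1}
      = S.card := by
    rw [← Nat.card_eq_finsetCard]
    refine Nat.card_congr ⟨fun p => ⟨Quotient.mk _ p.1, ?_⟩, fun q => ⟨q.1.out, ?_⟩, ?_, ?_⟩
    · obtain ⟨hp, hne⟩ := p.2
      refine Finset.mem_filter.2 ⟨Finset.mem_univ _, ?_⟩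
      rw [hfix _ hp]
      simpa [hv, dif_pos hp] using hne
    · have hne := (Finset.mem_filter.1 q.2).2
      simp only [hv] at hne
      split_ifs at hne with hp
      · exact ⟨hp, hne⟩
      · exact absurd rfl hne
    · rintro ⟨p, hp, hne⟩
      exact Subtype.ext (hfix p hp)
    · rintro ⟨q, hq⟩
      exact Subtype.ext (Quotient.out_eq q)
  rw [hcard]
  exact heven

/-- If moreover a 2-group `P` centralising `y` acts on this set, it has an even number of fixed
points there. -/
lemma even_card_fixed_pGroup (H : Subgroup G) (P : Subgroup G) (hP : IsPGroup 2 P)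
    (s : Set (G ⧸ H)) (hs : ∀ x ∈ P, ∀ p ∈ s, x • p ∈ s) (heven : Even (Nat.card s)) :
    Even (Nat.card {p : G ⧸ H // p ∈ s ∧ ∀ x ∈ P, x • p = p}) := by
  let act : MulAction P s :=
    { smul := fun x p => ⟨(x : G) • p.1, hs x.1 x.2 p.1 p.2⟩
      one_smul := fun p => Subtype.ext (one_smul G p.1)
      mul_smul := fun x x' p => Subtype.ext (mul_smul (x : G) (x' : G) p.1) }
  have : Fact (Nat.Prime 2) := ⟨Nat.prime_two⟩
  have h := hP.card_modEq_card_fixedPoints (α := s)
  have e : Nat.card (MulAction.fixedPoints P s)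
      = Nat.card {p : G ⧸ H // p ∈ s ∧ ∀ x ∈ P, x • p = p} := by
    refine Nat.card_congr ⟨fun p => ⟨p.1.1, p.1.2, fun x hx => congrArg Subtype.val (p.2 ⟨x, hx⟩)⟩,
      fun p => ⟨⟨p.1, p.2.1⟩, fun x => Subtype.ext (p.2.2 x.1 x.2)⟩, fun p => rfl, fun p => rfl⟩
  rw [← e, Nat.even_iff]
  rw [Nat.even_iff] at heven
  unfold Nat.ModEq at h
  omega

end Cfsg.Agent.Lib.InvChar
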