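import Mathlib
import Cfsg.Prelude
import Cfsg.Agent.Lib.InvChar.LargeExtraspecial
import Cfsg.Agent.Lib.InvChar.TransferInvolution

set_option autoImplicit false
open scoped commutatorElement

namespace Cfsg.Agent.Lib.InvChar

universe u
variable {G : Type u} [Group G]

/-- The centraliser in `C(z)` of the centraliser in `E` of `y` is `⟨y, z⟩`. -/
lemma ExtraData.centralizer_of_centralizer {E : Subgroup G} {z : G} (D : ExtraData E z)
    (hcent : Subgroup.centralizer (E : Set G) ≤ E) {y u w : G} (hy : y ∈ E) (hy2 : y * y = 1)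
    (hu : u ∈ E)
    (huy : u * y ≠ y * u) (hwE : ∀ a ∈ E, w * a * w⁻¹ ∈ E)
    (hw : ∀ a ∈ E, a * y = y * a → w * a = a * w) :
    w = 1 ∨ w = z ∨ w = y ∨ w = y * z := by
  have hsq := D.sq_or
  have hz' : z⁻¹ = z := inv_eq_of_mul_eq_one_right D.z_sq
  have hwz : w * z = z * w := hw z D.z_mem (D.z_comm y hy).symm
  have hwy : w * y = y * w := hw y hy rfl
  set c := u⁻¹ * (w * u * w⁻¹) with hc
  have hcE : c ∈ E := E.mul_mem (E.inv_mem hu) (hwE u hu)
  have hcC : ∀ k ∈ E, k * y = y * k → c * k = k * c := by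
    intro k hk hky
    have hwk := hw k hk hky
    rcases D.comm_or u hu k hk with h | h
    · have h' : u⁻¹ * k = k * u⁻¹ := by
        calc u⁻¹ * k = u⁻¹ * (k * u) * u⁻¹ := by group
          _ = k * u⁻¹ := by rw [← h]; group
      calc c * k = u⁻¹ * w * u * (w⁻¹ * k) := by rw [hc]; group
        _ = u⁻¹ * w * u * (k * w⁻¹) := by
          congr 1
          calc w⁻¹ * k = w⁻¹ * (k * w) * w⁻¹ := by group
            _ = k * w⁻¹ := by rw [← hwk]; group
        _ = u⁻¹ * (w * k) * u * w⁻¹ := by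
          calc u⁻¹ * w * u * (k * w⁻¹) = u⁻¹ * w * (u * k) * w⁻¹ := by group
            _ = _ := by rw [h]; group
        _ = (u⁻¹ * k) * (w * u * w⁻¹) := by rw [hwk]; group
        _ = k * c := by rw [h', hc]; group
    · have hw' : w⁻¹ * k = k * w⁻¹ := by
        calc w⁻¹ * k = w⁻¹ * (k * w) * w⁻¹ := by group
          _ = k * w⁻¹ := by rw [← hwk]; group
      have hwz' : z * w⁻¹ = w⁻¹ * z := by
        calc z * w⁻¹ = w⁻¹ * (w * z) * w⁻¹ := by group
          _ = w⁻¹ * z := by rw [hwz]; group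
      have hu' : u⁻¹ * k = k * u⁻¹ * z := by
        have e2 : k * u = u * k * z := by
          rw [h, mul_assoc, D.z_sq, mul_one]
        calc u⁻¹ * k = u⁻¹ * (k * u) * u⁻¹ := by group
          _ = k * (z * u⁻¹) := by rw [e2]; group
          _ = k * (u⁻¹ * z) := by rw [D.z_comm _ (E.inv_mem hu)]
          _ = _ := by group
      have hzc : z * (w * u * w⁻¹) = (w * u * w⁻¹) * z := (D.z_comm _ (hwE u hu)).symm
      calc c * k = u⁻¹ * w * u * (w⁻¹ * k) := by rw [hc]; group
        _ = u⁻¹ * w * (u * k) * w⁻¹ := by rw [hw']; group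
        _ = u⁻¹ * (w * k) * u * (z * w⁻¹) := by rw [h]; group
        _ = (u⁻¹ * k) * ((w * u * w⁻¹) * z) := by rw [hwk, hwz']; group
        _ = k * u⁻¹ * (z * z) * (w * u * w⁻¹) := by rw [hu', ← hzc]; group
        _ = k * c := by rw [D.z_sq, hc]; group
  have hcy : c * y = y * c := hcC y hy rfl
  have hcen : ∀ v : G, v ∈ E → v * y = y * v → (∀ k ∈ E, k * y = y * k → v * k = k * v) →
      v * u = u * v → v = 1 ∨ v = z := by
    intro v hv hvy hall hvu
    refine D.central v hv fun a ha => ?_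
    rcases D.cover hy hu huy ha with h | h
    · exact (hall a ha h).symm
    · have := hall (u⁻¹ * a) (E.mul_mem (E.inv_mem hu) ha) h
      calc a * v = u * ((u⁻¹ * a) * v) := by group
        _ = (u * v) * (u⁻¹ * a) := by rw [← this]; group
        _ = v * a := by rw [← hvu]; group
  have hc4 : c = 1 ∨ c = z ∨ c = y ∨ c = y * z := by
    rcases D.comm_or c hcE u hu with h | h
    · rcases hcen c hcE hcy hcC h with h2 | h2 <;> simp [h2]
    · have e1 := (D.comm_or y hy u hu).resolve_left (fun hh => huy hh.symm)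
      have hprod : (y * c) * u = u * (y * c) := by
        calc (y * c) * u = y * (c * u) := by group
          _ = y * u * (c * z) := by rw [h]; group
          _ = u * y * (z * c) * z := by rw [e1]; group
          _ = u * y * c * (z * z) := by rw [← D.z_comm c hcE]; group
          _ = u * (y * c) := by rw [D.z_sq]; group
      have hall : ∀ k ∈ E, k * y = y * k → (y * c) * k = k * (y * c) := by
        intro k hk hky
        rw [mul_assoc, hcC k hk hky, ← mul_assoc, ← hky, mul_assoc]
      rcases hcen (y * c) (E.mul_mem hy hcE) (by rw [mul_assoc, hcy]) hall hprod with h2 | h2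
      · have hc' : c = y⁻¹ := eq_inv_of_mul_eq_one_right h2
        right; right; left; rw [hc']; exact inv_eq_of_mul_eq_one_right hy2
      · have hc' : c = y⁻¹ * z := by rw [← h2]; group
        right; right; right; rw [hc', inv_eq_of_mul_eq_one_right hy2]
  have hwu : w * u * w⁻¹ = u * c := by rw [hc]; group
  have hzu : (w * u * w⁻¹) * (w * u * w⁻¹) = u * u := by
    have e : (w * u * w⁻¹) * (w * u * w⁻¹) = w * (u * u) * w⁻¹ := by group
    rw [e]
    rcases hsq u hu with h | h
    · rw [h]; group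
    · rw [h, hwz]; group
  have hbad : ∀ d : G, (d = 1 ∨ d = z) → c = y * d → False := by
    intro d hd hcd
    rw [hwu, hcd] at hzu
    have hdz : d * d = 1 := by rcases hd with h | h <;> simp [h, D.z_sq]
    have hdE : d ∈ E := by rcases hd with h | h <;> simp [h, D.z_mem, E.one_mem]
    have hdu : ∀ a ∈ E, a * d = d * a := by
      intro a ha
      rcases hd with h | h
      · simp [h]
      · rw [h]; exact D.z_comm a ha
    have e1 := (D.comm_or u hu y hy).resolve_left huy
    have h3 : y * d * u * (y * d) = u := by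
      apply mul_left_cancel (a := u)
      rw [← hzu]; group
    have h4 : u * (y * y) * z = u := by
      have e2 : y * u = u * y * z := by rw [e1, mul_assoc, D.z_sq, mul_one]
      calc u * (y * y) * z = u * (y * y) * z * (d * d) := by rw [hdz, mul_one]
        _ = u * y * (y * z) * d * d := by group
        _ = u * y * z * y * d * d := by rw [D.z_comm y hy]; group
        _ = y * u * (y * d) * d := by rw [← e2]; group
        _ = y * (u * (y * d) * d) := by group
        _ = y * (d * (u * (y * d))) := by rw [hdu _ (E.mul_mem hu (E.mul_mem hy hdE))]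
        _ = y * d * u * (y * d) := by group
        _ = u := h3
    rw [hy2, mul_one] at h4
    exact D.z_ne (mul_eq_left.1 h4)
  have hE : ∀ v : G, (∀ a ∈ E, a * y = y * a → v * a = a * v) → v * u = u * v → v = 1 ∨ v = z := by
    intro v hv hvu
    have hvE : v ∈ E := by
      refine hcent (Subgroup.mem_centralizer_iff.2 fun a ha => ?_)
      rcases D.cover hy hu huy ha with h | h
      · exact (hv a ha h).symm
      · have := hv (u⁻¹ * a) (E.mul_mem (E.inv_mem hu) ha) h
        calc a * v = u * ((u⁻¹ * a) * v) := by group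
          _ = (u * v) * (u⁻¹ * a) := by rw [← this]; group
          _ = v * a := by rw [← hvu]; group
    exact hcen v hvE (hv y hy rfl) hv hvu
  rcases hc4 with hc4 | hc4 | hc4 | hc4
  · have hwu' : w * u = u * w := by
      calc w * u = (w * u * w⁻¹) * w := by group
        _ = u * w := by rw [hwu, hc4, mul_one]
    rcases hE w hw hwu' with h | h
    · exact Or.inl h
    · exact Or.inr (Or.inl h)
  · have e1 := (D.comm_or y hy u hu).resolve_left (fun hh => huy hh.symm)
    have hv : (w * y) * u = u * (w * y) := by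
      calc (w * y) * u = w * (y * u) := by group
        _ = (w * u * w⁻¹) * (w * y) * z := by rw [e1]; group
        _ = u * (z * w) * y * z := by rw [hwu, hc4]; group
        _ = u * w * (z * y) * z := by rw [← hwz]; group
        _ = u * w * y * (z * z) := by rw [← D.z_comm y hy]; group
        _ = u * (w * y) := by rw [D.z_sq]; group
    have hv' : ∀ a ∈ E, a * y = y * a → (w * y) * a = a * (w * y) := by
      intro a ha hay
      rw [mul_assoc, ← hay, ← mul_assoc, hw a ha hay, mul_assoc]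
    have hwy2 : w = (w * y) * y := by rw [mul_assoc, hy2, mul_one]
    rcases hE (w * y) hv' hv with h | h
    · right; right; left; rw [hwy2, h, one_mul]
    · right; right; right; rw [hwy2, h, D.z_comm y hy]
  · exact (hbad 1 (Or.inl rfl) (by rw [hc4, mul_one])).elim
  · exact (hbad z (Or.inr rfl) hc4).elim

/-- In a group with trivial 2-residual quotient, an extraspecial subgroup `E` of order at least
32 of the centraliser `H` of an involution, normal in `H` and containing its centraliser, lies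
in the kernel of every homomorphism from `H` to a group of order two. -/
lemma map_eq_one_of_large_extraspecial [Finite G] (hres : Cfsg.pResidual 2 G = ⊤) (z : G)
    (E : Subgroup G) (D : ExtraData E z) {H : Subgroup G}
    (hH : H = Subgroup.centralizer ({z} : Set G)) (hEH : E ≤ H)
    (hnorm : ∀ h ∈ H, ∀ a ∈ E, h * a * h⁻¹ ∈ E)
    (hcent : Subgroup.centralizer (E : Set G) ≤ E) (hcard : 32 ≤ Nat.card ↥E)
    (hP : IsPGroup 2 ↥E)
    {A : Type*} [CommGroup A] (a : A) (ha : a ≠ 1) (ha2 : a * a = 1)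
    (μ : ↥H →* A) (hval : ∀ h, μ h = 1 ∨ μ h = a) :
    ∀ x (hx : x ∈ E), μ ⟨x, hEH hx⟩ = 1 := by
  classical
  have hHiff : ∀ {x : G}, x ∈ H ↔ x * z = z * x := by
    intro x
    rw [hH, Subgroup.mem_centralizer_singleton_iff]
  by_contra hcon
  push Not at hcon
  obtain ⟨y0, hy0, hμy0⟩ := hcon
  -- an involution of `E` outside the kernel
  obtain ⟨y, hy, hy2, hμy⟩ : ∃ y, ∃ hy : y ∈ E, y * y = 1 ∧ μ ⟨y, hEH hy⟩ ≠ 1 := by
    by_contra hno
    push Not at hno
    have hsqz : ∀ x, ∀ hx : x ∈ E, μ ⟨x, hEH hx⟩ ≠ 1 → x * x = z := fun x hx h =>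
      (D.sq_or x hx).resolve_left (fun h1 => h (hno x hx h1))
    let A0 : Subgroup G := (μ.ker.map H.subtype) ⊓ E
    have hA0 : ∀ {x}, x ∈ A0 ↔ ∃ hx : x ∈ E, μ ⟨x, hEH hx⟩ = 1 := by
      intro x
      constructor
      · rintro ⟨⟨q, hq, rfl⟩, hx⟩; exact ⟨hx, hq⟩
      · rintro ⟨hx, h⟩; exact ⟨⟨⟨x, hEH hx⟩, h, rfl⟩, hx⟩
    have hy0z := hsqz y0 hy0 hμy0
    have hinv : ∀ k ∈ A0, y0 * k * y0⁻¹ = k⁻¹ := by
      intro k hk
      obtain ⟨hkE, hk1⟩ := hA0.1 hk
      have h := hsqz (y0 * k) (E.mul_mem hy0 hkE) (by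
        have e : (⟨y0 * k, hEH (E.mul_mem hy0 hkE)⟩ : ↥H) = ⟨y0, hEH hy0⟩ * ⟨k, hEH hkE⟩ := rfl
        rw [e, map_mul, hk1, mul_one]; exact hμy0)
      apply eq_inv_of_mul_eq_one_left
      calc y0 * k * y0⁻¹ * k = y0 * k * (y0 * k) * ((y0 * k)⁻¹ * y0⁻¹ * k) := by group
        _ = z * (k⁻¹ * (y0 * y0)⁻¹ * k) := by rw [h]; group
        _ = z * (k⁻¹ * (z⁻¹ * k)) := by rw [hy0z]; group
        _ = 1 := by
          have : z⁻¹ * k = k * z⁻¹ := by
            rw [inv_eq_of_mul_eq_one_right D.z_sq, D.z_comm k hkE]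
          rw [this]; group
    have habel : ∀ p ∈ A0, ∀ q ∈ A0, p * q = q * p := by
      intro p hp q hq
      have e := hinv (p * q) (A0.mul_mem hp hq)
      have e' : y0 * (p * q) * y0⁻¹ = (y0 * p * y0⁻¹) * (y0 * q * y0⁻¹) := by group
      rw [e', hinv p hp, hinv q hq, ← mul_inv_rev] at e
      exact (inv_injective e).symm
    have := D.card_le_eight A0 habel inf_le_right y0 hy0 (fun x hx => by
      rcases hval ⟨x, hEH hx⟩ with h | h
      · exact Or.inl (hA0.2 ⟨hx, h⟩)
      · refine Or.inr (hA0.2 ⟨E.mul_mem (E.inv_mem hy0) hx, ?_⟩)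
        have e : (⟨y0⁻¹ * x, hEH (E.mul_mem (E.inv_mem hy0) hx)⟩ : ↥H)
            = ⟨y0, hEH hy0⟩⁻¹ * ⟨x, hEH hx⟩ := rfl
        rw [e, map_mul, map_inv, h, (hval ⟨y0, hEH hy0⟩).resolve_left hμy0, inv_mul_cancel])
    omega
  -- `y` is not central in `E`
  have hμz : μ ⟨z, hEH D.z_mem⟩ = 1 → True := fun _ => trivial
  have hnc : ∀ c ∈ E, ∀ d ∈ E, c * d = d * c * z → z = c⁻¹ * d⁻¹ * c * d := by
    intro c _ d _ h
    calc z = c⁻¹ * d⁻¹ * (d * c * z) := by group
      _ = _ := by rw [← h]; group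
  let C : Subgroup G := E ⊓ Subgroup.centralizer ({y} : Set G)
  have hCiff : ∀ {x}, x ∈ C ↔ x ∈ E ∧ x * y = y * x := by
    intro x
    simp only [C, Subgroup.mem_inf, Subgroup.mem_centralizer_singleton_iff]
  obtain ⟨c, hc, d, hd, hcd⟩ : ∃ c ∈ C, ∃ d ∈ C, c * d ≠ d * c := by
    by_contra hno
    push Not at hno
    by_cases hex : ∃ u ∈ E, u * y ≠ y * u
    · obtain ⟨u, hu, huy⟩ := hex
      have := D.card_le_eight C hno inf_le_left u hu (fun x hx => by
        rcases D.cover hy hu huy hx with h | h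
        · exact Or.inl (hCiff.2 ⟨hx, h⟩)
        · exact Or.inr (hCiff.2 ⟨E.mul_mem (E.inv_mem hu) hx, h⟩))
      omega
    · push Not at hex
      have := D.card_le_eight C hno inf_le_left 1 E.one_mem (fun x hx =>
        Or.inl (hCiff.2 ⟨hx, hex x hx⟩))
      omega
  have hzcd : z = c⁻¹ * d⁻¹ * c * d :=
    hnc c (hCiff.1 hc).1 d (hCiff.1 hd).1
      ((D.comm_or c (hCiff.1 hc).1 d (hCiff.1 hd).1).resolve_left hcd)
  have hμz : μ ⟨z, hEH D.z_mem⟩ = 1 := by
    have e : (⟨z, hEH D.z_mem⟩ : ↥H) = ⟨c, hEH (hCiff.1 hc).1⟩⁻¹ * ⟨d, hEH (hCiff.1 hd).1⟩⁻¹ *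
        ⟨c, hEH (hCiff.1 hc).1⟩ * ⟨d, hEH (hCiff.1 hd).1⟩ := Subtype.ext hzcd
    rw [e]
    simp only [map_mul, map_inv]
    rw [mul_comm (μ _)⁻¹ (μ _)⁻¹]
    group
  have hyz : y ≠ z := by
    intro h
    apply hμy
    simp only [h]
    exact hμz
  have hy1 : y ≠ 1 := by
    intro h
    apply hμy
    simp only [h]
    exact map_one μ
  obtain ⟨u, hu, huy⟩ : ∃ u ∈ E, u * y ≠ y * u := by
    by_contra hno
    push Not at hno
    rcases D.central y hy hno with h | h
    · exact hy1 h
    · exact hyz h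
  -- transfer
  have htr : MonoidHom.transfer μ y = 1 := by
    have hker : (⊤ : Subgroup G) ≤ (MonoidHom.transfer μ).ker := by
      rw [← hres]
      refine (Subgroup.closure_le _).2 fun g hg => ?_
      show MonoidHom.transfer μ g = 1
      set v := MonoidHom.transfer μ g
      have hrange : ∀ g' : G, (MonoidHom.transfer μ g') ^ 2 = 1 := by
        intro g'
        have hμ2 : ∀ h, μ h ^ 2 = 1 := by
          intro h; rcases hval h with e | e <;> simp [e, pow_two, ha2]
        have := Fintype.ofFinite (G ⧸ H)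
        have := Fintype.ofFinite (Quotient (MulAction.orbitRel (Subgroup.zpowers g') (G ⧸ H)))
        rw [MonoidHom.transfer_eq_prod_quotient_orbitRel_zpowers_quot, ← Finset.prod_pow]
        exact Finset.prod_eq_one fun q _ => hμ2 _
      have h1 : v ^ orderOf g = 1 := by rw [← map_pow, pow_orderOf_eq_one, map_one]
      have := pow_gcd_eq_one.2 ⟨h1, hrange g⟩
      rwa [hg, pow_one] at this
    exact hker (Subgroup.mem_top y)
  have heven := even_card_fixed_of_transfer_eq_one H μ a ha hval ha2 y hy2 htr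
  set s : Set (G ⧸ H) := {p | ∃ hp : y • p = p, μ ⟨_, out_inv_mul_mem H hp⟩ ≠ 1} with hs
  have hCP : IsPGroup 2 ↥C := hP.to_le inf_le_left
  have hinvar : ∀ x ∈ C, ∀ p ∈ s, x • p ∈ s := by
    rintro x hx p ⟨hp, hne⟩
    obtain ⟨hxE, hxy⟩ := hCiff.1 hx
    have hp' : y • (x • p) = x • p := by rw [smul_smul, ← hxy, ← smul_smul, hp]
    refine ⟨hp', ?_⟩
    have hmk : (QuotientGroup.mk (x * p.out) : G ⧸ H) = QuotientGroup.mk (x • p).out := by
      rw [QuotientGroup.out_eq', ← smul_eq_mul, ← MulAction.Quotient.smul_mk, QuotientGroup.out_eq']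
    have hk : (x * p.out)⁻¹ * (x • p).out ∈ H := QuotientGroup.eq.1 hmk
    set k : ↥H := ⟨_, hk⟩ with hk'
    have e : (⟨_, out_inv_mul_mem H hp'⟩ : ↥H) = k⁻¹ * ⟨_, out_inv_mul_mem H hp⟩ * k := by
      apply Subtype.ext
      simp only [hk', Subgroup.coe_mul, Subgroup.coe_inv]
      have e2 : x⁻¹ * y * x = y := by rw [mul_assoc, ← hxy]; group
      calc (x • p).out⁻¹ * y * (x • p).out
          = ((x * p.out)⁻¹ * (x • p).out)⁻¹ * (p.out⁻¹ * (x⁻¹ * y * x) * p.out) *
              ((x * p.out)⁻¹ * (x • p).out) := by group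
        _ = _ := by rw [e2]
    rw [e, map_mul, map_mul, map_inv, mul_comm _ (μ k), mul_inv_cancel_left]
    exact hne
  have h2 := even_card_fixed_pGroup H C hCP s hinvar heven
  have hone : ∀ p : G ⧸ H, (p ∈ s ∧ ∀ x ∈ C, x • p = p) ↔ p = QuotientGroup.mk 1 := by
    intro p
    constructor
    · rintro ⟨⟨hp, hne⟩, hfix⟩
      set g := p.out with hg
      have hmem : ∀ x ∈ C, g⁻¹ * x * g ∈ H := fun x hx => out_inv_mul_mem H (hfix x hx)
      set w := g * z * g⁻¹ with hw
      have hwC : ∀ x ∈ E, x * y = y * x → w * x = x * w := by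
        intro x hx hxy
        have := hHiff.1 (hmem x (hCiff.2 ⟨hx, hxy⟩))
        calc w * x = g * (z * (g⁻¹ * x * g)) * g⁻¹ := by rw [hw]; group
          _ = x * w := by rw [← this, hw]; group
      have hwH : w ∈ H := hHiff.2 (hwC z D.z_mem (D.z_comm y hy).symm)
      have hw1 : w ≠ 1 := by
        intro h
        apply D.z_ne
        calc z = g⁻¹ * w * g := by rw [hw]; group
          _ = 1 := by rw [h]; group
      have hmemH : g * z = z * g → p = QuotientGroup.mk 1 := by
        intro h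
        rw [← QuotientGroup.out_eq' p, QuotientGroup.eq]
        rw [← hg, mul_one]
        exact H.inv_mem (hHiff.2 h)
      have hbadw : w = y ∨ w = y * z → False := by
        intro hh
        apply hne
        have hgz : ∀ x ∈ C, g⁻¹ * x * g ∈ H := hmem
        let c' : ↥H := ⟨_, hmem c hc⟩
        let d' : ↥H := ⟨_, hmem d hd⟩
        let z' : ↥H := ⟨z, hEH D.z_mem⟩
        rcases hh with hh | hh
        · have e : (⟨_, out_inv_mul_mem H hp⟩ : ↥H) = z' := by
            apply Subtype.ext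
            show g⁻¹ * y * g = z
            rw [← hh, hw]; group
          rw [e]; exact hμz
        · have e : (⟨_, out_inv_mul_mem H hp⟩ : ↥H) = z' * (c'⁻¹ * d'⁻¹ * c' * d')⁻¹ := by
            apply Subtype.ext
            show g⁻¹ * y * g = z * ((g⁻¹ * c * g)⁻¹ * (g⁻¹ * d * g)⁻¹ * (g⁻¹ * c * g) * (g⁻¹ * d * g))⁻¹
            calc g⁻¹ * y * g = g⁻¹ * (y * z * z⁻¹) * g := by group
              _ = g⁻¹ * (w * (c⁻¹ * d⁻¹ * c * d)⁻¹) * g := by rw [hh, ← hzcd]
              _ = _ := by rw [hw]; group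
          rw [e, map_mul, map_inv]
          simp only [map_mul, map_inv]
          rw [show μ z' = 1 from hμz, mul_comm (μ c')⁻¹ (μ d')⁻¹]
          group
      rcases D.centralizer_of_centralizer hcent hy hy2 hu huy (fun b hb => hnorm w hwH b hb) hwC
        with h | h | h | h
      · exact absurd h hw1
      · exact hmemH (by
          calc g * z = w * g := by rw [hw]; group
            _ = z * g := by rw [h])
      · exact (hbadw (Or.inl h)).elim
      · exact (hbadw (Or.inr h)).elim
    · rintro rfl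
      have hfix : ∀ x ∈ E, x • (QuotientGroup.mk 1 : G ⧸ H) = QuotientGroup.mk 1 := by
        intro x hx
        rw [MulAction.Quotient.smul_mk, smul_eq_mul, QuotientGroup.eq]
        simpa using hEH hx
      refine ⟨⟨hfix y hy, ?_⟩, fun x hx => hfix x (hCiff.1 hx).1⟩
      set k := (QuotientGroup.mk 1 : G ⧸ H).out with hk
      have hkH : k ∈ H := by
        have := QuotientGroup.eq.1 (QuotientGroup.out_eq' (QuotientGroup.mk 1 : G ⧸ H))
        simpa using H.inv_mem this
      have e : (⟨_, out_inv_mul_mem H (hfix y hy)⟩ : ↥H)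
          = ⟨k, hkH⟩⁻¹ * ⟨y, hEH hy⟩ * ⟨k, hkH⟩ := Subtype.ext rfl
      rw [e, map_mul, map_mul, map_inv, mul_comm _ (μ ⟨k, hkH⟩), mul_inv_cancel_left]
      exact hμy
  rw [Nat.card_congr (Equiv.subtypeEquivRight hone)] at h2
  simp at h2

end Cfsg.Agent.Lib.InvChar
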