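import Mathlib
import Cfsg.Agent.Lib.Involutions.Basic
import Cfsg.Agent.Lib.Involutions.BaerSuzuki
import Cfsg.Prelude.Def_Solvable

/-!
Involutions outside `O₂(G)` invert elements of odd order.
-/

set_option autoImplicit false

namespace Cfsg.Agent.Lib.InvChar

variable {G : Type*} [Group G] [Finite G]

theorem exists_odd_inverted {a : G} (ha : orderOf a = 2) (hO : a ∉ Cfsg.pCore 2 G) :
    ∃ x : G, x ≠ 1 ∧ Odd (orderOf x) ∧ a * x * a⁻¹ = x⁻¹ := by
  have : Fact (Nat.Prime 2) := ⟨Nat.prime_two⟩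
  by_contra hcon
  apply hO
  obtain ⟨N, hN, hNp, haN⟩ := Involutions.baer_suzuki (p := 2) (Subgroup.zpowers a)
    (IsPGroup.of_card (n := 1) (by rw [Nat.card_zpowers, ha, pow_one])) (fun g => by
    set b := g * a * g⁻¹ with hb
    have hbo : orderOf b = 2 := by rw [hb, Involutions.orderOf_conj_eq, ha]
    set y := a * b with hy
    have hinv : a * y * a⁻¹ = y⁻¹ := Involutions.conj_mul_left_invol ha hbo
    obtain ⟨k, m, hm, hkm⟩ := Nat.exists_eq_two_pow_mul_odd (orderOf_pos y).ne'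
    have hm1 : m = 1 := by
      by_contra hne
      apply hcon
      have ho : orderOf (y ^ (2 ^ k)) = m := by
        rw [orderOf_pow, hkm, Nat.gcd_mul_right_left, Nat.mul_div_cancel_left _ (Nat.two_pow_pos k)]
      refine ⟨y ^ (2 ^ k), fun h1 => hne (by rw [← ho, h1, orderOf_one]), ho.symm ▸ hm, ?_⟩
      rw [← conj_pow, hinv, inv_pow]
    rw [hm1, mul_one] at hkm
    have hyp : IsPGroup 2 ↥(Subgroup.zpowers y) := IsPGroup.of_card (n := k) (by rw [Nat.card_zpowers, hkm])
    have hap : IsPGroup 2 ↥(Subgroup.zpowers a) := IsPGroup.of_card (n := 1) (by rw [Nat.card_zpowers, ha, pow_one])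
    have hnorm : Subgroup.zpowers a ≤ Subgroup.normalizer ((Subgroup.zpowers y : Subgroup G) : Set G) := by
      refine Subgroup.zpowers_le.mpr (Subgroup.mem_normalizer_iff.mpr fun w => ⟨fun hw => ?_, fun hw => ?_⟩)
      · obtain ⟨j, rfl⟩ := Subgroup.mem_zpowers_iff.mp hw
        rw [← conj_zpow, hinv, inv_zpow]
        exact inv_mem (Subgroup.zpow_mem_zpowers y j)
      · obtain ⟨j, hj⟩ := Subgroup.mem_zpowers_iff.mp hw
        refine Subgroup.mem_zpowers_iff.mpr ⟨-j, ?_⟩
        have h3 : a * y ^ (-j) * a⁻¹ = a * w * a⁻¹ := by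
          rw [← conj_zpow, hinv, inv_zpow, ← zpow_neg, neg_neg, hj]
        exact mul_left_cancel (mul_right_cancel h3)
    refine (IsPGroup.to_sup_of_normal_left' hyp hap hnorm).to_le (sup_le le_sup_right ?_)
    rw [MonoidHom.map_zpowers, Subgroup.zpowers_le]
    have h1 : g * a * g⁻¹ = a⁻¹ * y := by rw [hy, inv_mul_cancel_left]
    show g * a * g⁻¹ ∈ _
    rw [h1]
    exact mul_mem (Subgroup.mem_sup_right (inv_mem (Subgroup.mem_zpowers a))) (Subgroup.mem_sup_left (Subgroup.mem_zpowers y)))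
  have hle : N ≤ Cfsg.pCore 2 G := le_sSup (show N ∈ {N : Subgroup G | N.Normal ∧ IsPGroup 2 ↥N} from ⟨hN, hNp⟩)
  exact hle (haN (Subgroup.mem_zpowers a))

end Cfsg.Agent.Lib.InvChar
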