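import Mathlib

/-!
# A canonical involution in a 2-group with a quaternion direct factor
-/

set_option autoImplicit false

namespace Cfsg.Agent.Lib.InvChar.QFactor

open QuaternionGroup

variable {n : ℕ}

local notation "M" => 2 ^ n
local notation "Q" => QuaternionGroup (2 ^ n)

lemma add_self_zero {m : ℕ} (hm : 0 < m) {i : ZMod (2 * m)} (h : i + i = 0) :
    i = 0 ∨ i = (m : ZMod (2 * m)) := by
  haveI : NeZero (2 * m) := ⟨by omega⟩
  have hv : ((i.val + i.val : ℕ) : ZMod (2 * m)) = 0 := by
    push_cast; rw [ZMod.natCast_zmod_val]; exact h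
  rw [ZMod.natCast_eq_zero_iff] at hv
  obtain ⟨c, hc⟩ := hv
  have hlt := i.val_lt
  rcases c with _ | _ | c
  · left
    have : i.val = 0 := by omega
    exact (ZMod.val_eq_zero i).1 this
  · right
    have : i.val = m := by omega
    have e := congrArg (fun k : ℕ => (k : ZMod (2 * m))) this
    simpa using e
  · nlinarith

lemma natCast_ne_zero {m : ℕ} (hm : 0 < m) : (m : ZMod (2 * m)) ≠ 0 := by
  rw [Ne, ZMod.natCast_eq_zero_iff]
  intro h
  have := Nat.le_of_dvd hm h
  omega

lemma natCast_add_self {m : ℕ} : (m : ZMod (2 * m)) + m = 0 := by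
  rw [← Nat.cast_add, ← two_mul, ZMod.natCast_self]

/-- The only involution is `a m`. -/
lemma eq_of_mul_self {m : ℕ} (hm : 0 < m) {x : QuaternionGroup m} (h : x * x = 1) :
    x = 1 ∨ x = a (m : ZMod (2 * m)) := by
  rcases x with i | i
  · rw [a_mul_a, one_def, QuaternionGroup.a.injEq] at h
    rcases add_self_zero hm h with rfl | rfl
    · exact Or.inl rfl
    · exact Or.inr rfl
  · exfalso
    rw [xa_mul_xa, one_def, QuaternionGroup.a.injEq, add_sub_cancel_right] at h
    exact natCast_ne_zero hm h

lemma half (hn : 1 ≤ n) : ((2 ^ (n - 1) : ℕ) : ZMod (2 * M)) + ((2 ^ (n - 1) : ℕ) : ZMod (2 * M)) =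
    ((M : ℕ) : ZMod (2 * M)) := by
  rw [← Nat.cast_add]
  congr 1
  rw [← two_mul, ← pow_succ', Nat.sub_add_cancel hn]

/-- `z = a m` is a commutator. -/
lemma comm_eq (hn : 1 ≤ n) :
    (a ((2 ^ (n - 1) : ℕ) : ZMod (2 * M)) : Q) * xa 0 *
      (a ((2 ^ (n - 1) : ℕ) : ZMod (2 * M)))⁻¹ * (xa 0)⁻¹ = a ((M : ℕ) : ZMod (2 * M)) := by
  have h := half hn
  have h2 := natCast_add_self (m := M)
  show a _ * xa 0 * a _ * xa _ = _
  rw [a_mul_xa, xa_mul_a, xa_mul_xa, QuaternionGroup.a.injEq]
  linear_combination h + h2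

lemma not_central (hn : 1 ≤ n) :
    ¬ ∀ u v : Q, Commute u v := by
  intro h
  have h1 := comm_eq hn
  rw [(h _ (xa 0)).eq, mul_inv_cancel_right, mul_inv_cancel, one_def,
    QuaternionGroup.a.injEq] at h1
  exact natCast_ne_zero (Nat.two_pow_pos n) h1.symm

lemma center_eq {m : ℕ} (hm : 0 < m) (hm2 : 2 ≤ m) {v : QuaternionGroup m}
    (h : ∀ u, Commute v u) : v = 1 ∨ v = a (m : ZMod (2 * m)) := by
  rcases v with i | i
  · have h1 := (h (xa 0)).eq
    rw [a_mul_xa, xa_mul_a, QuaternionGroup.xa.injEq, zero_sub, zero_add] at h1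
    have : i + i = 0 := by linear_combination -h1
    rcases add_self_zero hm this with rfl | rfl
    · exact Or.inl rfl
    · exact Or.inr rfl
  · exfalso
    have h1 := (h (a 1)).eq
    rw [xa_mul_a, a_mul_xa, QuaternionGroup.xa.injEq] at h1
    have : ((2 : ℕ) : ZMod (2 * m)) = 0 := by push_cast; linear_combination h1
    rw [ZMod.natCast_eq_zero_iff] at this
    have := Nat.le_of_dvd (by omega) this
    omega

lemma commute_center {m : ℕ} {v : QuaternionGroup m}
    (h : v = 1 ∨ v = a (m : ZMod (2 * m))) (u : QuaternionGroup m) : Commute v u := by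
  rcases h with rfl | rfl
  · exact Commute.one_left u
  · rcases u with i | i
    · show a _ * a i = a i * a _
      rw [a_mul_a, a_mul_a, add_comm]
    · show a _ * xa i = xa i * a _
      rw [a_mul_xa, xa_mul_a, QuaternionGroup.xa.injEq]
      linear_combination -(natCast_add_self (m := m))

/-- Centralizers of non-central elements are commutative. -/
lemma commute_trans {m : ℕ} (hm : 0 < m) {u v w : QuaternionGroup m}
    (hu : Commute v u) (hw : Commute v w) (hv : v ≠ 1) (hv' : v ≠ a (m : ZMod (2 * m))) :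
    Commute u w := by
  rcases v with i | i
  · have key : ∀ {t}, Commute (a i) t → ∃ j, t = a j := by
      intro t ht
      rcases t with j | j
      · exact ⟨j, rfl⟩
      · exfalso
        have h1 := ht.eq
        rw [a_mul_xa, xa_mul_a, QuaternionGroup.xa.injEq] at h1
        have : i + i = 0 := by linear_combination -h1
        rcases add_self_zero hm this with rfl | rfl
        · exact hv rfl
        · exact hv' rfl
    obtain ⟨j, rfl⟩ := key hu
    obtain ⟨l, rfl⟩ := key hw
    show a j * a l = a l * a j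
    rw [a_mul_a, a_mul_a, add_comm]
  · have key : ∀ {t}, Commute (xa i) t →
        (t = 1 ∨ t = a (m : ZMod (2 * m))) ∨ t = xa i ∨ t = xa (i + (m : ZMod (2 * m))) := by
      intro t ht
      rcases t with j | j
      · left
        have h1 := ht.eq
        rw [xa_mul_a, a_mul_xa, QuaternionGroup.xa.injEq] at h1
        have : j + j = 0 := by linear_combination h1
        rcases add_self_zero hm this with rfl | rfl
        · exact Or.inl rfl
        · exact Or.inr rfl
      · right
        have h1 := ht.eq
        rw [xa_mul_xa, xa_mul_xa, QuaternionGroup.a.injEq] at h1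
        have : (j - i) + (j - i) = 0 := by linear_combination h1
        rcases add_self_zero hm this with h | h
        · left; rw [sub_eq_zero.1 h]
        · right; rw [← h, add_sub_cancel]
    have h3 : Commute (xa i : QuaternionGroup m) (xa (i + (m : ZMod (2 * m)))) := by
      show xa i * xa _ = xa _ * xa i
      rw [xa_mul_xa, xa_mul_xa, QuaternionGroup.a.injEq]
      linear_combination (natCast_add_self (m := m))
    rcases key hu with h | rfl | rfl
    · exact commute_center h w
    · exact hw
    · rcases key hw with h | rfl | rfl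
      · exact (commute_center h _).symm
      · exact h3.symm
      · exact Commute.refl _

variable {R : Type*} [Group R]

lemma commutator_image_eq_one {A B : Type*} [Group A] [Group B] (f : A →* B)
    (h : ∀ x y, Commute (f x) (f y)) (x y : A) : f (x * y * x⁻¹ * y⁻¹) = 1 := by
  rw [map_mul, map_mul, map_mul, map_inv, map_inv, (h x y).eq, mul_inv_cancel_right,
    mul_inv_cancel]

/-- The images of the quaternion involution under automorphisms of `Q × R`. -/
theorem image_invol [Finite R] (hn : 1 ≤ n) (φ : (Q × R) ≃* (Q × R)) :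
    φ (a ((M : ℕ) : ZMod (2 * M)), 1) = (a ((M : ℕ) : ZMod (2 * M)), 1) ∨
      (φ (a ((M : ℕ) : ZMod (2 * M)), 1)).1 = 1 := by
  classical
  have hm : 0 < M := Nat.two_pow_pos n
  have hm2 : 2 ≤ M := Nat.le_self_pow (by omega) 2
  haveI : NeZero M := ⟨hm.ne'⟩
  set z : Q := a ((M : ℕ) : ZMod (2 * M)) with hzdef
  let A : Q →* Q × R := φ.toMonoidHom.comp (MonoidHom.inl Q R)
  let B : R →* Q × R := φ.toMonoidHom.comp (MonoidHom.inr Q R)
  let f1 : Q →* Q := (MonoidHom.fst Q R).comp A
  let g1 : Q →* R := (MonoidHom.snd Q R).comp A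
  let f2 : R →* Q := (MonoidHom.fst Q R).comp B
  let g2 : R →* R := (MonoidHom.snd Q R).comp B
  have hAB : ∀ q r, Commute (A q) (B r) := fun q r =>
    (show Commute ((q, 1) : Q × R) (1, r) from Prod.ext (by simp) (by simp)).map φ.toMonoidHom
  have hsplit : ∀ q r, φ (q, r) = A q * B r := fun q r => by
    show φ (q, r) = φ (q, 1) * φ (1, r)
    rw [← map_mul]; simp
  have hcz : ∀ (f : Q →* Q), (∀ x y, Commute (f x) (f y)) → f z = 1 := fun f h => by
    rw [hzdef, ← comm_eq hn]; exact commutator_image_eq_one f h _ _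
  by_cases h1 : ∀ q, f1 q = 1 ∨ f1 q = z
  · exact Or.inr (hcz f1 fun x y => commute_center (h1 x) _)
  left
  push Not at h1
  obtain ⟨q0, hq0, hq0'⟩ := h1
  have h2 : ∀ r, f2 r = 1 ∨ f2 r = z := by
    intro r
    by_contra hr
    push Not at hr
    have hc : ∀ q, Commute (f1 q0) q := by
      intro q
      obtain ⟨⟨q', r'⟩, hq'⟩ := φ.surjective (q, 1)
      have e : q = f1 q' * f2 r' := by
        have := congrArg Prod.fst (hq'.symm.trans (hsplit q' r'))
        exact this.trans (by rfl)
      rw [e]
      exact (commute_trans hm ((hAB q0 r).map (MonoidHom.fst Q R)).symm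
        ((hAB q' r).map (MonoidHom.fst Q R)).symm hr.1 hr.2).mul_right
        ((hAB q0 r').map (MonoidHom.fst Q R))
    rcases center_eq hm hm2 hc with h | h
    · exact hq0 h
    · exact hq0' h
  have hf2c : ∀ x y, Commute (f2 x) (f2 y) := fun x y => commute_center (h2 x) _
  obtain ⟨p1, hp1⟩ := φ.surjective (a ((2 ^ (n - 1) : ℕ) : ZMod (2 * M)), 1)
  obtain ⟨p2, hp2⟩ := φ.surjective (xa 0, 1)
  set c : Q := p1.1 * p2.1 * p1.1⁻¹ * p2.1⁻¹ with hc
  set d : R := p1.2 * p2.2 * p1.2⁻¹ * p2.2⁻¹ with hd
  have hcd : φ (c, d) = (z, 1) := by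
    have : (c, d) = p1 * p2 * p1⁻¹ * p2⁻¹ := rfl
    rw [this, map_mul, map_mul, map_mul, map_inv, map_inv, hp1, hp2]
    refine Prod.ext ?_ (by simp)
    exact comm_eq hn
  have hzne : z ≠ 1 := fun h => natCast_ne_zero hm
    (by rw [hzdef, one_def, QuaternionGroup.a.injEq] at h; exact h)
  have hf1c : f1 c = z := by
    have := congrArg Prod.fst ((hsplit c d).symm.trans hcd)
    simp only [Prod.fst_mul] at this
    have e : f2 d = 1 := commutator_image_eq_one f2 hf2c _ _
    change f1 c * f2 d = z at this
    rwa [e, mul_one] at this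
  have hpg : IsPGroup 2 Q := IsPGroup.of_card (n := n + 2) (by
    rw [Nat.card_eq_fintype_card, QuaternionGroup.card, pow_add]; ring)
  have hf1inj : Function.Injective f1 := by
    rw [injective_iff_map_eq_one]
    intro x hx
    by_contra hx1
    obtain ⟨s, hs⟩ := IsPGroup.iff_orderOf.1 hpg x
    rcases s with _ | s
    · exact hx1 (orderOf_eq_one_iff.1 (by simpa using hs))
    have hy : x ^ 2 ^ s = z := by
      refine (eq_of_mul_self hm ?_).resolve_left fun h => ?_
      · rw [← pow_add, ← two_mul, ← pow_succ', ← hs, pow_orderOf_eq_one]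
      · have := Nat.le_of_dvd (Nat.two_pow_pos s) (orderOf_dvd_of_pow_eq_one h)
        rw [hs, pow_succ] at this
        have := Nat.two_pow_pos s
        omega
    have h1 : f1 z = 1 := by rw [← hy, map_pow, hx, one_pow]
    -- all `xa i` are mapped to central elements, hence everything
    have hxa : ∀ i, f1 (xa i) = 1 ∨ f1 (xa i) = z := fun i => eq_of_mul_self hm (by
      rw [← map_mul, xa_mul_xa, add_sub_cancel_right]; exact h1)
    refine hzne (hf1c.symm.trans ?_)
    refine commutator_image_eq_one f1 (fun u v => ?_) _ _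
    rcases u with i | i
    · have : (a i : Q) = xa 0 * xa (i - ((M : ℕ) : ZMod (2 * M))) := by
        rw [xa_mul_xa, sub_zero, add_sub_cancel]
      rw [this, map_mul]
      exact (commute_center (hxa _) _).mul_left (commute_center (hxa _) _)
    · exact commute_center (hxa i) _
  have hcz' : c = z := by
    refine (hf1inj ?_)
    rw [hf1c]
    have hzz : z * z = 1 := by rw [hzdef, a_mul_a, natCast_add_self, a_zero]
    exact ((eq_of_mul_self hm (by rw [← map_mul, hzz, map_one])).resolve_left
      fun h => hzne (hf1inj (h.trans f1.map_one.symm))).symm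
  have hg2 : Function.Injective g2 := by
    rw [injective_iff_map_eq_one]
    intro r hr
    by_contra hr1
    have hB : φ (1, r) = (f2 r, 1) := Prod.ext rfl hr
    rcases h2 r with h | h
    · rw [h] at hB
      exact hr1 (congrArg Prod.snd (φ.injective (hB.trans (map_one φ).symm)))
    · rw [h, ← hcd] at hB
      exact hzne (hcz' ▸ (congrArg Prod.fst (φ.injective hB)).symm)
  have hg1 : g1 z = 1 := by
    rw [hzdef, ← comm_eq hn]
    refine commutator_image_eq_one g1 (fun x y => ?_) _ _
    obtain ⟨r, hr⟩ := (Finite.injective_iff_surjective.1 hg2) (g1 y)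
    rw [← hr]
    exact (hAB x r).map (MonoidHom.snd Q R)
  refine Prod.ext ?_ hg1
  show f1 z = z
  rw [← hcz', hf1c, hcz']

end Cfsg.Agent.Lib.InvChar.QFactor
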