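import Mathlib
import Cfsg.Agent.Lib.Classical.LinearSimple
import Cfsg.Agent.Lib.Classical.LinearCard
import Cfsg.Agent.Lib.Classical.SLTwoTorus

/-!
Facts on `SL₂` over fields of odd characteristic used for commuting pairs of `SL₂` subgroups.
-/

set_option autoImplicit false

open Matrix

namespace Cfsg.Agent.Lib.InvChar

variable {F : Type*} [Field F]

theorem two_ne_zero_of_odd [Fintype F] (hF : Odd (Fintype.card F)) : (2 : F) ≠ 0 :=
  Ring.two_ne_zero fun h =>
    Nat.not_even_iff_odd.mpr hF (Nat.even_iff.mpr (FiniteField.even_card_of_char_two h))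

/-- There is no nontrivial homomorphism from `SL₂` to a group of exponent two. -/
theorem sl2_hom_trivial (h2 : (2 : F) ≠ 0) {A : Type*} [Group A] (hA : ∀ a : A, a * a = 1)
    (f : SpecialLinearGroup (Fin 2) F →* A) (g : SpecialLinearGroup (Fin 2) F) : f g = 1 := by
  rw [← MonoidHom.mem_ker]
  refine (Classical.SL_eq_top_of_transvection_mem (fun i j hij b => ?_)).ge (Subgroup.mem_top g)
  rw [MonoidHom.mem_ker, show b = b / 2 + b / 2 by field_simp; ring,
    SpecialLinearGroup.transvection_add, map_mul, hA]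

/-- The centraliser of a non-central element of `SL₂` is abelian. -/
theorem sl2_centralizer_comm (h2 : (2 : F) ≠ 0) {z x y : SpecialLinearGroup (Fin 2) F}
    (hz : z ∉ Subgroup.center (SpecialLinearGroup (Fin 2) F)) (hx : x * z = z * x) (hy : y * z = z * y) :
    x * y = y * x := by
  have ex : (x : Matrix (Fin 2) (Fin 2) F) * z = z * x :=
    congrArg Subtype.val hx
  have ey : (y : Matrix (Fin 2) (Fin 2) F) * z = z * y :=
    congrArg Subtype.val hy
  obtain ⟨a, ha⟩ : ∃ a, (z : Matrix (Fin 2) (Fin 2) F) 0 0 = a := ⟨_, rfl⟩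
  obtain ⟨b, hb⟩ : ∃ b, (z : Matrix (Fin 2) (Fin 2) F) 0 1 = b := ⟨_, rfl⟩
  obtain ⟨c, hc⟩ : ∃ c, (z : Matrix (Fin 2) (Fin 2) F) 1 0 = c := ⟨_, rfl⟩
  obtain ⟨d, hd⟩ : ∃ d, (z : Matrix (Fin 2) (Fin 2) F) 1 1 = d := ⟨_, rfl⟩
  have x00 := congrFun (congrFun ex 0) 0
  have x01 := congrFun (congrFun ex 0) 1
  have x10 := congrFun (congrFun ex 1) 0
  have y00 := congrFun (congrFun ey 0) 0
  have y01 := congrFun (congrFun ey 0) 1
  have y10 := congrFun (congrFun ey 1) 0
  simp only [Matrix.mul_apply, Fin.sum_univ_two, ha, hb, hc, hd] at x00 x01 x10 y00 y01 y10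
  apply Subtype.ext
  show (x : Matrix (Fin 2) (Fin 2) F) * y = y * x
  set p := (x : Matrix (Fin 2) (Fin 2) F) 0 0 with hp
  set q := (x : Matrix (Fin 2) (Fin 2) F) 0 1 with hq
  set r := (x : Matrix (Fin 2) (Fin 2) F) 1 0 with hr
  set s := (x : Matrix (Fin 2) (Fin 2) F) 1 1 with hs
  set p' := (y : Matrix (Fin 2) (Fin 2) F) 0 0 with hp'
  set q' := (y : Matrix (Fin 2) (Fin 2) F) 0 1 with hq'
  set r' := (y : Matrix (Fin 2) (Fin 2) F) 1 0 with hr'
  set s' := (y : Matrix (Fin 2) (Fin 2) F) 1 1 with hs'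
  have key : q * r' = q' * r ∧ q' * (p - s) = q * (p' - s') ∧ r' * (p - s) = r * (p' - s') := by
    by_cases hb0 : b = 0
    · subst hb0
      by_cases hc0 : c = 0
      · subst hc0
        have had : a - d ≠ 0 := fun h => hz (by
          rw [Classical.mem_center_sl2_iff h2]
          have hdet := z.2
          rw [Matrix.det_fin_two, ha, hb, hc, hd, (sub_eq_zero.mp h).symm] at hdet
          rcases mul_self_eq_one_iff.mp (show a * a = 1 by linear_combination hdet) with h1 | h1
          · left; ext i j; fin_cases i <;> fin_cases j <;> simp [ha, hb, hc, hd, (sub_eq_zero.mp h).symm, h1]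
          · right; ext i j; fin_cases i <;> fin_cases j <;> simp [ha, hb, hc, hd, (sub_eq_zero.mp h).symm, h1])
        have hq0 : q = 0 := (mul_eq_zero.mp (show (a - d) * q = 0 by linear_combination -x01)).resolve_left had
        have hr0 : r = 0 := (mul_eq_zero.mp (show (a - d) * r = 0 by linear_combination x10)).resolve_left had
        have hq0' : q' = 0 := (mul_eq_zero.mp (show (a - d) * q' = 0 by linear_combination -y01)).resolve_left had
        have hr0' : r' = 0 := (mul_eq_zero.mp (show (a - d) * r' = 0 by linear_combination y10)).resolve_left had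
        simp [hq0, hr0, hq0', hr0']
      · have hq0 : q = 0 := (mul_eq_zero.mp (show c * q = 0 by linear_combination x00)).resolve_left hc0
        have hq0' : q' = 0 := (mul_eq_zero.mp (show c * q' = 0 by linear_combination y00)).resolve_left hc0
        refine ⟨by simp [hq0, hq0'], by simp [hq0, hq0'], mul_left_cancel₀ hc0 ?_⟩
        linear_combination r * y10 - r' * x10
    · have e2 : q' * (p - s) = q * (p' - s') := mul_left_cancel₀ hb0 (by linear_combination q' * x01 - q * y01)
      refine ⟨mul_left_cancel₀ hb0 ?_, e2, mul_left_cancel₀ hb0 ?_⟩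
      · linear_combination q' * x00 - q * y00
      · linear_combination (p' - s') * x00 - (p - s) * y00 + c * e2
  obtain ⟨k1, k2, k3⟩ := key
  ext i j
  fin_cases i <;> fin_cases j <;> simp [Matrix.mul_apply, Fin.sum_univ_two, ← hp, ← hq, ← hr, ← hs, ← hp', ← hq', ← hr', ← hs']
  · linear_combination k1
  · linear_combination k2
  · linear_combination -k3
  · linear_combination -k1

theorem card_sl2_inj {E : Type*} [Field E] [Fintype F] [Fintype E]
    (h : Nat.card (SpecialLinearGroup (Fin 2) F) = Nat.card (SpecialLinearGroup (Fin 2) E)) :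
    Fintype.card F = Fintype.card E := by
  rw [Classical.card_SL2, Classical.card_SL2] at h
  have hmono : ∀ a b : ℕ, 2 ≤ a → a < b → a * (a ^ 2 - 1) < b * (b ^ 2 - 1) := by
    intro a b ha hab
    have h1 : a ^ 2 < b ^ 2 := Nat.pow_lt_pow_left hab (by norm_num)
    have h2 : 4 ≤ a ^ 2 := by nlinarith
    exact Nat.mul_lt_mul'' hab (by omega)
  rcases lt_trichotomy (Fintype.card F) (Fintype.card E) with h1 | h1 | h1
  · exact absurd h (hmono _ _ Fintype.one_lt_card h1).ne
  · exact h1
  · exact absurd h (hmono _ _ Fintype.one_lt_card h1).ne'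

/-- Two subgroups of `SL₂` commuting elementwise and generating it: one of them is central. -/
theorem sl2_central_of_commuting (h2 : (2 : F) ≠ 0) {X Y : Subgroup (SpecialLinearGroup (Fin 2) F)}
    (hXY : ∀ x ∈ X, ∀ y ∈ Y, x * y = y * x) (htop : ∀ g, ∃ x ∈ X, ∃ y ∈ Y, x * y = g) :
    X ≤ Subgroup.center _ ∨ Y ≤ Subgroup.center _ := by
  refine or_iff_not_imp_left.mpr fun hX y hy => ?_
  by_contra hyc
  apply hX
  intro x hx
  by_contra hxc
  have hXX : ∀ a ∈ X, ∀ b ∈ X, a * b = b * a := fun a ha b hb =>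
    sl2_centralizer_comm h2 hyc (hXY a ha y hy) (hXY b hb y hy)
  apply hxc
  rw [Subgroup.mem_center_iff]
  intro g
  obtain ⟨a, ha, b, hb, rfl⟩ := htop g
  rw [mul_assoc, ← hXY x hx b hb, ← mul_assoc, hXX a ha x hx, mul_assoc]

end Cfsg.Agent.Lib.InvChar
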