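import Mathlib
import Cfsg.Prelude
import Cfsg.Agent.Lib.InvChar.ZStarChar
import Cfsg.Agent.Lib.Blocks.Central

/-!
# Fusion of class products: an eigenvalue argument in the principal block

If the product of an element `z` with every conjugate of one of finitely many involutions `s i` has
the same principal block character values as one of the `s j`, then some non-trivial character of
the principal block has `z` in its kernel.
-/

set_option autoImplicit false

namespace Cfsg.Agent.Lib.InvChar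

open Cfsg Cfsg.Agent.Lib.Characters Cfsg.Agent.Lib.Involutions
open scoped Classical

universe u

theorem exists_kernel_of_products {G : Type u} [Group G] [Finite G] (M : Ideal AlgInt)
    (hM : IsPModular 2 M) {ι : Type*} [Finite ι] [Nonempty ι] (z : G) (s : ι → G)
    (hs : ∀ i, orderOf (s i) = 2)
    (h : ∀ i, ∀ g : G, ∃ j, ∀ χ ∈ principalBlock M G,
      ((χ : IrrCharacter G) : G → ℂ) (z * (g * s i * g⁻¹)) = (χ : G → ℂ) (s j)) :
    ∃ χ ∈ principalBlock M G, χ ≠ trivIrr G ∧
      ((χ : IrrCharacter G) : G → ℂ) z = (χ : G → ℂ) 1 := by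
  have : Fact (Nat.Prime 2) := ⟨Nat.prime_two⟩
  haveI := Fintype.ofFinite G
  haveI := Fintype.ofFinite ι
  haveI := Fintype.ofFinite (IrrCharacter G)
  haveI := Lib.Blocks.isPrime_of_isPModular hM
  choose j hj using h
  set B := Finset.univ.filter (fun χ : IrrCharacter G => χ ∈ principalBlock M G) with hB
  let P : ι → ι → ℂ := fun i k =>
    ((Finset.univ.filter fun g : G => j i g = k).card : ℂ) / (Nat.card G : ℂ)
  have h0 : (Nat.card G : ℂ) ≠ 0 := Nat.cast_ne_zero.2 Nat.card_pos.ne'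
  have hrel : ∀ χ ∈ B, ∀ i, (χ : G → ℂ) z * (χ : G → ℂ) (s i)
      = (χ : G → ℂ) 1 * ∑ k, P i k * (χ : G → ℂ) (s k) := by
    intro χ hχB i
    have hχ := (Finset.mem_filter.1 hχB).2
    have hsum := Lib.Blocks.sum_char_mul_conj χ.2 z (s i)
    rw [Finset.sum_congr rfl fun g _ => hj i g χ hχ] at hsum
    rw [← Finset.sum_fiberwise Finset.univ (j i) fun g => (χ : G → ℂ) (s (j i g))] at hsum
    have he : ∀ k, ∑ g ∈ Finset.univ.filter (fun g => j i g = k), (χ : G → ℂ) (s (j i g))
        = (Nat.card G : ℂ) * (P i k * (χ : G → ℂ) (s k)) := by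
      intro k
      rw [Finset.sum_congr rfl fun g hg => by rw [(Finset.mem_filter.1 hg).2],
        Finset.sum_const, nsmul_eq_mul]
      simp only [P]
      field_simp
    rw [Finset.sum_congr rfl fun k _ => he k, ← Finset.mul_sum] at hsum
    have h1 := IsIrrCharacter.apply_one_ne_zero χ.2
    field_simp at hsum
    linear_combination -hsum
  have horth : ∀ i, ∑ χ ∈ B, (χ : G → ℂ) 1 * (χ : G → ℂ) (s i) = 0 := by
    intro i
    have h := Cfsg.Agent.S0907.result 2 M hM _ Lib.Blocks.isPBlock_principalBlock 1 (s i)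
      (by simp) (by rw [hs i])
    rw [Lib.Blocks.finsum_irr_eq_sum_ite] at h
    rw [hB, Finset.sum_filter]
    refine Eq.trans (Finset.sum_congr rfl fun χ _ => ?_) h
    rw [← IsCharacter.apply_inv (irr_isCharacter χ), invol_inv (hs i)]
  let lam : IrrCharacter G → ℂ := fun χ => (χ : G → ℂ) z / (χ : G → ℂ) 1
  have key : ∀ T : Finset ℂ, ∀ i,
      ∑ χ ∈ B, (χ : G → ℂ) 1 * (χ : G → ℂ) (s i) * ∏ μ ∈ T, (lam χ - μ) = 0 := by
    intro T
    induction T using Finset.induction with
    | empty => intro i; simpa using horth i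
    | @insert μ T hμ ih =>
      intro i
      have step : ∀ χ ∈ B, (χ : G → ℂ) 1 * (χ : G → ℂ) (s i) * ∏ ν ∈ insert μ T, (lam χ - ν)
          = (∑ k, P i k * ((χ : G → ℂ) 1 * (χ : G → ℂ) (s k) * ∏ ν ∈ T, (lam χ - ν)))
            - μ * ((χ : G → ℂ) 1 * (χ : G → ℂ) (s i) * ∏ ν ∈ T, (lam χ - ν)) := by
        intro χ hχ
        have h1 := IsIrrCharacter.apply_one_ne_zero χ.2
        have e1 : (χ : G → ℂ) 1 * (χ : G → ℂ) (s i) * lam χ
            = (χ : G → ℂ) 1 * ∑ k, P i k * (χ : G → ℂ) (s k) := by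
          rw [← hrel χ hχ i]
          simp only [lam]
          field_simp
        rw [Finset.prod_insert hμ]
        have e2 : (∑ k, P i k * ((χ : G → ℂ) 1 * (χ : G → ℂ) (s k) * ∏ ν ∈ T, (lam χ - ν)))
            = ((χ : G → ℂ) 1 * ∑ k, P i k * (χ : G → ℂ) (s k)) * ∏ ν ∈ T, (lam χ - ν) := by
          rw [Finset.mul_sum, Finset.sum_mul]
          exact Finset.sum_congr rfl fun k _ => by ring
        rw [e2, ← e1]
        ring
      rw [Finset.sum_congr rfl step, Finset.sum_sub_distrib, Finset.sum_comm]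
      simp only [← Finset.mul_sum, ih, mul_zero, Finset.sum_const_zero, sub_zero]
  obtain ⟨i⟩ := (inferInstance : Nonempty ι)
  have hT : trivIrr G ∈ B := Finset.mem_filter.2 ⟨Finset.mem_univ _,
    Lib.Blocks.self_mem_blockOf (M := M) (trivIrr G)⟩
  have hsum := key ((B.erase (trivIrr G)).image lam) i
  rw [Finset.sum_eq_single (trivIrr G)] at hsum
  · have hone : ((trivIrr G : IrrCharacter G) : G → ℂ) = fun _ => 1 := rfl
    simp only [hone, one_mul, lam, div_one, Finset.prod_eq_zero_iff] at hsum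
    obtain ⟨μ, hμ, hμ1⟩ := hsum
    rw [Finset.mem_image] at hμ
    obtain ⟨χ, hχ, hχμ⟩ := hμ
    rw [Finset.mem_erase] at hχ
    refine ⟨χ, (Finset.mem_filter.1 hχ.2).2, hχ.1, ?_⟩
    rw [sub_eq_zero] at hμ1
    rw [← hμ1, div_eq_iff (IsIrrCharacter.apply_one_ne_zero χ.2), one_mul] at hχμ
    exact hχμ
  · intro χ hχ hne
    rw [Finset.prod_eq_zero (Finset.mem_image.2 ⟨χ, Finset.mem_erase.2 ⟨hne, hχ⟩, rfl⟩) (sub_self _),
      mul_zero]
  · exact fun h => absurd hT h

end Cfsg.Agent.Lib.InvChar
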