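import Mathlib
import Cfsg.Prelude
import Cfsg.Agent.Lib.Characters
import Cfsg.Agent.Lib.Characters.ExtensionChar
import Cfsg.Agent.Lib.InvChar.JordanHall

/-!
# Abelian Sylow subgroups with constant centralizers and small faithful characters: basic set-up
-/

set_option autoImplicit false
set_option linter.unusedSectionVars false
set_option linter.style.haveILetI false

namespace Cfsg.Agent.Lib.InvChar.SmallTI

open Cfsg Cfsg.Agent.Lib.Characters
open scoped ComplexConjugate

universe u

variable {G : Type u} [Group G] {p : ℕ}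

/-- The centralizer of the Sylow subgroup. -/
abbrev CC (P : Sylow p G) : Subgroup G := Subgroup.centralizer ((P : Subgroup G) : Set G)

/-- The normalizer of the Sylow subgroup. -/
abbrev HH (P : Sylow p G) : Subgroup G := Subgroup.normalizer ((P : Subgroup G) : Set G)

/-- All nonidentity elements of `P` have the centralizer of `P`. -/
def Star (P : Sylow p G) : Prop :=
  ∀ x ∈ (P : Subgroup G), x ≠ 1 → Subgroup.centralizer ({x} : Set G) = CC P

variable {P : Sylow p G}

theorem le_CC (hs : Star P) : (P : Subgroup G) ≤ CC P := by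
  intro x hx
  by_cases h : x = 1
  · rw [h]; exact one_mem _
  · rw [← hs x hx h, Subgroup.mem_centralizer_iff]
    rintro _ rfl
    rfl

theorem CC_le_HH : CC P ≤ HH P := fun g hg => by
  rw [Subgroup.mem_normalizer_iff]
  intro x
  have hc := Subgroup.mem_centralizer_iff.1 hg
  constructor
  · intro hx
    have : g * x * g⁻¹ = x := by rw [← hc x hx, mul_inv_cancel_right]
    rw [this]; exact hx
  · intro hx
    have h := hc _ hx
    have h2 : g * x * g⁻¹ = x := by
      have h3 : g * x = g * (g * x * g⁻¹) := by rw [← h]; group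
      exact (mul_left_cancel h3).symm
    rwa [← h2]

variable [Fact p.Prime]

theorem mem_of_mem_CC {y : G} (hy : y ∈ CC P) {k : ℕ} (hk : y ^ p ^ k = 1) :
    y ∈ (P : Subgroup G) := by
  have hyp : IsPGroup p (Subgroup.zpowers y) := by
    rintro ⟨z, hz⟩
    obtain ⟨i, rfl⟩ := Subgroup.mem_zpowers_iff.1 hz
    refine ⟨k, Subtype.ext ?_⟩
    show (y ^ i) ^ p ^ k = 1
    rw [← zpow_natCast, ← zpow_mul, mul_comm, zpow_mul, zpow_natCast, hk, one_zpow]
  have hle : Subgroup.zpowers y ≤ Subgroup.normalizer ((P : Subgroup G) : Set G) := by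
    rw [Subgroup.zpowers_le]
    exact CC_le_HH hy
  have h := (IsPGroup.to_sup_of_normal_right' hyp P.isPGroup' hle)
  have := P.is_maximal' h le_sup_right
  rw [← this]
  exact Subgroup.mem_sup_left (Subgroup.mem_zpowers y)

variable [Finite G]

/-- `P` is a trivial intersection set with normalizer `HH P`. -/
theorem mem_HH_of_conj (hs : Star P) {g x : G} (hx : x ∈ (P : Subgroup G)) (hx1 : x ≠ 1)
    (hg : g⁻¹ * x * g ∈ (P : Subgroup G)) : g ∈ HH P := by
  have key : ∀ y ∈ (P : Subgroup G), g * y * g⁻¹ ∈ (P : Subgroup G) := by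
    intro y hy
    have hc : g⁻¹ * x * g * y = y * (g⁻¹ * x * g) := by
      have := Subgroup.mem_centralizer_iff.1 (le_CC hs hy) _ hg
      exact this
    have hmem : g * y * g⁻¹ ∈ CC P := by
      rw [← hs x hx hx1, Subgroup.mem_centralizer_iff]
      intro z hz
      obtain rfl : z = x := hz
      calc z * (g * y * g⁻¹) = g * (g⁻¹ * z * g * y) * g⁻¹ := by group
        _ = g * y * g⁻¹ * z := by rw [hc]; group
    obtain ⟨k, hk⟩ := P.isPGroup' ⟨y, hy⟩
    refine mem_of_mem_CC hmem (k := k) ?_
    have hk' : y ^ p ^ k = 1 := congrArg Subtype.val hk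
    rw [conj_pow, hk']; simp
  rw [Subgroup.mem_normalizer_iff]
  intro y
  refine ⟨key y, fun hy => ?_⟩
  have hinj : Function.Injective fun z : (P : Subgroup G) => (⟨g * z * g⁻¹, key z z.2⟩ : (P : Subgroup G)) := by
    intro a b hab
    exact Subtype.ext (by simpa using congrArg Subtype.val hab)
  obtain ⟨z, hz⟩ := (Finite.injective_iff_surjective.1 hinj) ⟨_, hy⟩
  have : (z : G) = y := by simpa using congrArg Subtype.val hz
  exact this ▸ z.2

/-- Projection of the centralizer onto the central Sylow subgroup. -/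
theorem exists_proj (hs : Star P) :
    ∃ r : CC P →* (P : Subgroup G), ∀ (c : CC P) (hc : (c : G) ∈ (P : Subgroup G)), r c = ⟨c, hc⟩ := by
  classical
  set Q := P.subtype (le_CC hs) with hQ
  have hQc : ∀ x ∈ (Q : Subgroup (CC P)), ∀ c : CC P, x * c = c * x := by
    intro x hx c
    exact Subtype.ext (Subgroup.mem_centralizer_iff.1 c.2 _ (Subgroup.mem_subgroupOf.1 hx))
  have hN : Subgroup.normalizer ((Q : Subgroup (CC P)) : Set (CC P)) ≤
      Subgroup.centralizer ((Q : Subgroup (CC P)) : Set (CC P)) := fun c _ =>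
    Subgroup.mem_centralizer_iff.2 fun x hx => hQc x hx c
  set t := MonoidHom.transferSylow Q hN with ht
  have hcop : (Nat.card (Q : Subgroup (CC P))).Coprime (Q : Subgroup (CC P)).index := by
    rw [Q.card_eq_multiplicity]
    exact Nat.Coprime.pow_left _ ((Nat.Prime.coprime_iff_not_dvd Fact.out).2 Q.not_dvd_index)
  let pc := powCoprime hcop
  have hcomm : ∀ a b : (Q : Subgroup (CC P)), a * b = b * a := fun a b =>
    Subtype.ext (hQc _ a.2 _)
  let f : CC P → (P : Subgroup G) := fun c => ⟨((pc.symm (t c) : (Q : Subgroup (CC P))) : CC P),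
    Subgroup.mem_subgroupOf.1 (pc.symm (t c)).2⟩
  refine ⟨MonoidHom.mk' f fun a b => ?_, fun c hc => ?_⟩
  · have h : pc.symm (t (a * b)) = pc.symm (t a) * pc.symm (t b) := by
      apply pc.injective
      have hmul : ∀ u v, pc (u * v) = pc u * pc v := fun u v => (Commute.mul_pow (hcomm u v) _)
      rw [hmul, Equiv.apply_symm_apply, Equiv.apply_symm_apply, Equiv.apply_symm_apply, map_mul]
    apply Subtype.ext
    show (((pc.symm (t (a * b)) : (Q : Subgroup (CC P))) : CC P) : G) = _
    rw [h]
    rfl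
  · have hcQ : c ∈ (Q : Subgroup (CC P)) := Subgroup.mem_subgroupOf.2 hc
    have h : pc.symm (t c) = ⟨c, hcQ⟩ := by
      rw [Equiv.symm_apply_eq, ht, MonoidHom.transferSylow_eq_pow Q hN c hcQ]
      rfl
    apply Subtype.ext
    show ((pc.symm (t c) : (Q : Subgroup (CC P))) : G) = c
    rw [h]

/-- The chosen projection. -/
noncomputable def proj (hs : Star P) : CC P →* (P : Subgroup G) := (exists_proj hs).choose

variable (hs : Star P)

include hs

theorem proj_of_mem {c : CC P} (hc : (c : G) ∈ (P : Subgroup G)) : proj hs c = ⟨c, hc⟩ :=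
  (exists_proj hs).choose_spec c hc

/-- The inclusion of `P` in its centralizer. -/
def incl : (P : Subgroup G) →* CC P := Subgroup.inclusion (le_CC hs)

theorem proj_incl (u : (P : Subgroup G)) : proj hs (incl hs u) = u :=
  proj_of_mem hs u.2

theorem card_P : Nat.card (P : Subgroup G) = p ^ (Nat.card G).factorization p :=
  P.card_eq_multiplicity

theorem exists_proj_exp : ∃ e : ℕ, ∀ c : CC P, ((proj hs c : (P : Subgroup G)) : G) = (c : G) ^ e := by
  obtain ⟨e, h1, h0⟩ := JordanHall.exists_proj (N := Nat.card G) (Fact.out : p.Prime) Nat.card_pos.ne'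
  refine ⟨e, fun c => ?_⟩
  have hmem : ((c ^ e : CC P) : G) ∈ (P : Subgroup G) := by
    refine mem_of_mem_CC (c ^ e).2 (k := (Nat.card G).factorization p) ?_
    rw [SubgroupClass.coe_pow]
    exact JordanHall.pow_proj_eq_one (c : G) h0
  have h := proj_of_mem hs hmem
  rw [map_pow] at h
  have hu : proj hs c ^ e = proj hs c := by
    have hN : proj hs c ^ (p ^ (Nat.card G).factorization p) = 1 := by
      rw [← card_P hs]; exact pow_card_eq_one'
    rw [pow_eq_pow_of_modEq h1 hN, pow_one]
  rw [hu] at h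
  rw [h, SubgroupClass.coe_pow]

theorem conj_mem_CC {h : G} (hh : h ∈ HH P) (c : CC P) : h⁻¹ * c * h ∈ CC P := by
  rw [Subgroup.mem_centralizer_iff]
  intro y hy
  have hy' : h * y * h⁻¹ ∈ (P : Subgroup G) := (Subgroup.mem_normalizer_iff.1 hh y).1 hy
  have := Subgroup.mem_centralizer_iff.1 c.2 _ hy'
  calc y * (h⁻¹ * c * h) = h⁻¹ * ((h * y * h⁻¹) * c) * h := by group
    _ = _ := by rw [this]; group

theorem conj_mem_P {h : G} (hh : h ∈ HH P) (u : (P : Subgroup G)) :
    h⁻¹ * u * h ∈ (P : Subgroup G) := by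
  have := (Subgroup.mem_normalizer_iff.1 ((HH P).inv_mem hh) (u : G)).1 u.2
  simpa using this

/-- Conjugation of the centralizer by an element of the normalizer. -/
def conjC (h : HH P) : CC P →* CC P where
  toFun c := ⟨(h : G)⁻¹ * c * h, conj_mem_CC hs h.2 c⟩
  map_one' := by ext; simp
  map_mul' a b := by ext; simp [mul_assoc]

/-- Conjugation of `P` by an element of the normalizer. -/
def conjP (h : HH P) : (P : Subgroup G) →* (P : Subgroup G) where
  toFun u := ⟨(h : G)⁻¹ * u * h, conj_mem_P hs h.2 u⟩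
  map_one' := by ext; simp
  map_mul' a b := by ext; simp [mul_assoc]

theorem proj_conjC (h : HH P) (c : CC P) : proj hs (conjC hs h c) = conjP hs h (proj hs c) := by
  obtain ⟨e, he⟩ := exists_proj_exp hs
  apply Subtype.ext
  show _ = (h : G)⁻¹ * ((proj hs c : (P : Subgroup G)) : G) * h
  rw [he, he]
  show ((h : G)⁻¹ * c * h) ^ e = _
  have := conj_pow (i := e) (a := (h : G)⁻¹) (b := (c : G))
  simpa using this

theorem conjC_bijective (h : HH P) : Function.Bijective (conjC hs h) := by
  refine Finite.injective_iff_bijective.1 fun a b hab => ?_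
  exact Subtype.ext (by simpa [conjC] using congrArg Subtype.val hab)

theorem conjP_bijective (h : HH P) : Function.Bijective (conjP hs h) := by
  refine Finite.injective_iff_bijective.1 fun a b hab => ?_
  exact Subtype.ext (by simpa [conjP] using congrArg Subtype.val hab)

/-- The Sylow subgroup is a trivial intersection set for the `p`-singular part of its centralizer. -/
theorem mem_HH_of_proj {g : G} {c c' : CC P} (hc : proj hs c ≠ 1) (h : (c' : G) = g⁻¹ * c * g) :
    g ∈ HH P := by
  obtain ⟨e, he⟩ := exists_proj_exp hs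
  refine mem_HH_of_conj hs (proj hs c).2 (fun h1 => hc (Subtype.ext h1)) ?_
  have : g⁻¹ * ((proj hs c : (P : Subgroup G)) : G) * g = (proj hs c' : (P : Subgroup G)) := by
    rw [he, he, h]
    have := conj_pow (i := e) (a := g⁻¹) (b := (c : G))
    simpa using this.symm
  rw [this]; exact (proj hs c').2

/-! ### Characters of the centralizer -/

/-- Twist of a function on the centralizer by a character of `P`. -/
noncomputable def tw (ν : (P : Subgroup G) →* ℂˣ) (a : CC P → ℂ) : CC P → ℂ :=
  fun c => (ν (proj hs c) : ℂ) * a c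

/-- The irreducible characters with `P` in the kernel. -/
def IsBase (a : CC P → ℂ) : Prop :=
  IsIrrCharacter (CC P) a ∧ ∀ (u : (P : Subgroup G)) (c : CC P), a (incl hs u * c) = a c

theorem isBase_one : IsBase hs (fun _ => (1 : ℂ)) := ⟨isIrrCharacter_one, fun _ _ => rfl⟩

theorem isIrr_tw (ν : (P : Subgroup G) →* ℂˣ) {a : CC P → ℂ} (ha : IsIrrCharacter (CC P) a) :
    IsIrrCharacter (CC P) (tw hs ν a) :=
  isIrrCharacter_twist (ν.comp (proj hs)) ha

theorem tw_apply_one (ν : (P : Subgroup G) →* ℂˣ) (a : CC P → ℂ) : tw hs ν a 1 = a 1 := by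
  simp [tw]

theorem tw_incl_mul (ν : (P : Subgroup G) →* ℂˣ) {a : CC P → ℂ} (ha : IsBase hs a)
    (u : (P : Subgroup G)) (c : CC P) :
    tw hs ν a (incl hs u * c) = (ν u : ℂ) * tw hs ν a c := by
  simp only [tw, map_mul, proj_incl, Units.val_mul, ha.2 u c]
  ring

theorem tw_injective {ν μ : (P : Subgroup G) →* ℂˣ} {a b : CC P → ℂ} (ha : IsBase hs a)
    (hb : IsBase hs b) (h : tw hs ν a = tw hs μ b) : ν = μ ∧ a = b := by
  have hνμ : ν = μ := by
    ext u
    have h1 := tw_incl_mul hs ν ha u 1
    have h2 := tw_incl_mul hs μ hb u 1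
    rw [← h] at h2
    rw [h1] at h2
    exact mul_right_cancel₀ (by rw [tw_apply_one]; exact IsIrrCharacter.apply_one_ne_zero ha.1) h2
  refine ⟨hνμ, funext fun c => ?_⟩
  have := congrFun h c
  subst hνμ
  exact mul_left_cancel₀ (Units.ne_zero _) this

/-- Every irreducible character of the centralizer is a twist of a base character. -/
theorem exists_eq_tw {ψ : CC P → ℂ} (hψ : IsIrrCharacter (CC P) ψ) :
    ∃ (ν : (P : Subgroup G) →* ℂˣ) (a : CC P → ℂ), IsBase hs a ∧ ψ = tw hs ν a := by
  have h1 : ψ 1 ≠ 0 := IsIrrCharacter.apply_one_ne_zero hψ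
  obtain ⟨d, σ, hσ, rfl⟩ := id hψ
  haveI := hσ
  have hsc : ∀ (u : (P : Subgroup G)) (c : CC P),
      σ.character (incl hs u * c) = σ.character (incl hs u) / σ.character 1 * σ.character c := by
    intro u c
    obtain ⟨z, hz⟩ := exists_smul_of_commute σ (σ (incl hs u)) fun g => by
      rw [← map_mul, ← map_mul]
      congr 1
      exact Subtype.ext (Subgroup.mem_centralizer_iff.1 g.2 _ u.2)
    have hval : ∀ g : CC P, σ.character (incl hs u * g) = z * σ.character g := by
      intro g
      have e : σ (incl hs u * g) = z • σ g := by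
        rw [map_mul, hz, smul_mul_assoc]
        congr 1
      simp [Representation.character, e]
    have hu := hval 1
    rw [mul_one] at hu
    rw [hval, hu, mul_div_assoc, div_self h1, mul_one]
  let ν₀ : (P : Subgroup G) →* ℂ :=
    { toFun := fun u => σ.character (incl hs u) / σ.character 1
      map_one' := by rw [map_one, div_self h1]
      map_mul' := fun u v => by
        show σ.character (incl hs (u * v)) / _ = _
        rw [map_mul, hsc u (incl hs v), mul_div_assoc] }
  refine ⟨ν₀.toHomUnits, tw hs ν₀.toHomUnits⁻¹ σ.character, ⟨isIrr_tw hs _ hψ, fun u c => ?_⟩, ?_⟩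
  · simp only [tw, map_mul, proj_incl, Units.val_mul, hsc u c]
    have hu : ((ν₀.toHomUnits u : ℂˣ) : ℂ) = σ.character (incl hs u) / σ.character 1 := rfl
    rw [← hu]
    have hinv : (((ν₀.toHomUnits)⁻¹ u : ℂˣ) : ℂ) * ((ν₀.toHomUnits u : ℂˣ) : ℂ) = 1 := by
      rw [← Units.val_mul, MonoidHom.inv_apply, inv_mul_cancel, Units.val_one]
    linear_combination (((ν₀.toHomUnits)⁻¹ (proj hs c) : ℂˣ) : ℂ) * σ.character c * hinv
  · funext c
    simp only [tw]
    rw [← mul_assoc, ← Units.val_mul, MonoidHom.inv_apply, mul_inv_cancel, Units.val_one, one_mul]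

/-- Conjugate of a function on the centralizer. -/
def cj (h : HH P) (θ : CC P → ℂ) : CC P → ℂ := fun c => θ (conjC hs h c)

theorem cj_tw (h : HH P) (ν : (P : Subgroup G) →* ℂˣ) (a : CC P → ℂ) :
    cj hs h (tw hs ν a) = tw hs (ν.comp (conjP hs h)) (cj hs h a) := by
  funext c
  simp [cj, tw, proj_conjC]

theorem isBase_cj (h : HH P) {a : CC P → ℂ} (ha : IsBase hs a) : IsBase hs (cj hs h a) := by
  refine ⟨IsIrrCharacter.comp_surjective ha.1 (conjC hs h) (conjC_bijective hs h).2, fun u c => ?_⟩
  show a (conjC hs h (incl hs u * c)) = a (conjC hs h c)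
  rw [map_mul, show conjC hs h (incl hs u) = incl hs (conjP hs h u) from Subtype.ext rfl, ha.2]

theorem cj_mul (h k : HH P) (θ : CC P → ℂ) : cj hs (h * k) θ = cj hs h (cj hs k θ) := by
  funext c
  refine congrArg θ (Subtype.ext ?_)
  simp [conjC, mul_assoc]

theorem cj_one (θ : CC P → ℂ) : cj hs 1 θ = θ := by
  funext c
  refine congrArg θ (Subtype.ext ?_)
  simp [conjC]

/-- A nontrivial character of `P` is fixed only by the centralizer. -/
theorem mem_CC_of_fixed {ν : (P : Subgroup G) →* ℂˣ} (hν : ν ≠ 1) {h : HH P}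
    (hfix : ν.comp (conjP hs h) = ν) : (h : G) ∈ CC P := by
  by_contra hh
  let f : ↥(P : Subgroup G) → ↥(P : Subgroup G) := fun u => conjP hs h u * u⁻¹
  have hcomm : ∀ a b : (P : Subgroup G), a * b = b * a := fun a b =>
    Subtype.ext ((Subgroup.mem_centralizer_iff.1 (le_CC hs b.2)) _ a.2)
  have hinj : Function.Injective f := by
    intro a b hab
    have h1 : conjP hs h (a * b⁻¹) = a * b⁻¹ := by
      rw [map_mul, map_inv]
      have hab' : conjP hs h a = conjP hs h b * b⁻¹ * a := by
        rw [show conjP hs h b * b⁻¹ = conjP hs h a * a⁻¹ from hab.symm, inv_mul_cancel_right]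
      rw [hab', hcomm _ a, mul_assoc, hcomm _ ((conjP hs h b)⁻¹), ← mul_assoc ((conjP hs h b)⁻¹),
        inv_mul_cancel, one_mul]
    by_contra hne
    have hx1 : ((a * b⁻¹ : (P : Subgroup G)) : G) ≠ 1 := fun h0 => hne (mul_inv_eq_one.1 (Subtype.ext h0))
    refine hh ?_
    rw [← hs _ (a * b⁻¹).2 hx1, Subgroup.mem_centralizer_iff]
    rintro _ rfl
    have h2 : (h : G)⁻¹ * ((a * b⁻¹ : (P : Subgroup G)) : G) * h = ((a * b⁻¹ : (P : Subgroup G)) : G) :=
      congrArg Subtype.val h1
    calc _ = (h : G) * ((h : G)⁻¹ * ((a * b⁻¹ : (P : Subgroup G)) : G) * h) := by group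
      _ = _ := by rw [h2]
  refine hν (MonoidHom.ext fun v => ?_)
  obtain ⟨u, rfl⟩ := (Finite.injective_iff_surjective.1 hinj) v
  show ν (conjP hs h u * u⁻¹) = 1
  rw [map_mul, map_inv, show ν (conjP hs h u) = ν u from DFunLike.congr_fun hfix u, mul_inv_cancel]

theorem cj_eq_self_iff {ν : (P : Subgroup G) →* ℂˣ} (hν : ν ≠ 1) {a : CC P → ℂ}
    (ha : IsBase hs a) (h : HH P) : cj hs h (tw hs ν a) = tw hs ν a ↔ (h : G) ∈ CC P := by
  refine ⟨fun he => ?_, fun hc => ?_⟩
  · rw [cj_tw] at he
    exact mem_CC_of_fixed hs hν (tw_injective hs (isBase_cj hs h ha) ha he).1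
  · funext c
    have hψ := IsCharacter.isClassFunction (IsIrrCharacter.isCharacter (isIrr_tw hs ν ha.1))
    refine Eq.trans ?_ (hψ c (⟨(h : G), hc⟩ : CC P)⁻¹)
    refine congrArg (tw hs ν a) (Subtype.ext ?_)
    simp [conjC]

end Cfsg.Agent.Lib.InvChar.SmallTI
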