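import Mathlib
import Cfsg.Prelude
import Cfsg.Agent.Lib.InvChar.SmallTI

/-!
# Small characters and exceptional differences
-/

set_option autoImplicit false
set_option linter.unusedSectionVars false
set_option linter.style.haveILetI false

namespace Cfsg.Agent.Lib.InvChar.SmallTI

open Cfsg Cfsg.Agent.Lib.Characters
open scoped ComplexConjugate

universe u

variable {G : Type u} [Group G] [Fintype G] {p : ℕ} [Fact p.Prime] {P : Sylow p G}
variable [Fintype (CC P)]

/-- The multiplicity of `ψ` in the restriction of `η`. -/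
noncomputable def mult (η : G → ℂ) (ψ : CC P → ℂ) : ℕ :=
  ⌊(classInner (fun c : CC P => η c) ψ).re⌋₊

theorem cast_mult {η : G → ℂ} (hη : IsCharacter G η) {ψ : CC P → ℂ} (hψ : IsCharacter (CC P) ψ) :
    classInner (fun c : CC P => η c) ψ = (mult η ψ : ℂ) := by
  obtain ⟨k, hk⟩ := IsCharacter.exists_classInner_nat (IsCharacter.restrict hη (CC P)) hψ
  rw [mult, hk, Complex.natCast_re, Nat.floor_natCast]

/-- The degree as a natural number. -/
noncomputable def deg {K : Type*} [Group K] (χ : K → ℂ) : ℕ := ⌊(χ 1).re⌋₊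

theorem cast_deg {K : Type*} [Group K] {χ : K → ℂ} (hχ : IsCharacter K χ) :
    χ 1 = (deg χ : ℂ) := by
  obtain ⟨n, hn⟩ := IsCharacter.exists_apply_one hχ
  rw [deg, hn, Complex.natCast_re, Nat.floor_natCast]

theorem deg_pos {K : Type*} [Group K] [Finite K] {χ : K → ℂ} (hχ : IsIrrCharacter K χ) : 0 < deg χ := by
  obtain ⟨n, hn, h⟩ := IsIrrCharacter.exists_apply_one hχ
  rw [deg, h, Complex.natCast_re, Nat.floor_natCast]; exact hn

theorem restrict_eq_sum [Fintype (IrrCharacter (CC P))] {η : G → ℂ} (hη : IsCharacter G η)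
    (c : CC P) : η c = ∑ ψ : IrrCharacter (CC P), (mult η (ψ : CC P → ℂ) : ℂ) * (ψ : CC P → ℂ) c := by
  obtain ⟨m, hm, hm'⟩ := IsCharacter.exists_nat_decomp (IsCharacter.restrict hη (CC P))
  have e : ∀ ψ : IrrCharacter (CC P), m ψ = mult η (ψ : CC P → ℂ) := fun ψ => by
    exact_mod_cast (hm' ψ).symm.trans (cast_mult hη (irr_isCharacter ψ))
  simpa [Finset.sum_apply, e] using congrFun hm c

/-- Distinct irreducible constituents of a restriction fit in the degree. -/
theorem sum_mult_le {η : G → ℂ} (hη : IsCharacter G η) {ι : Type*} (s : Finset ι)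
    (f : ι → CC P → ℂ) (hf : ∀ i ∈ s, IsIrrCharacter (CC P) (f i))
    (hinj : Set.InjOn f s) : ∑ i ∈ s, mult η (f i) * deg (f i) ≤ deg η := by
  classical
  haveI := Fintype.ofFinite (IrrCharacter (CC P))
  have h1 := restrict_eq_sum (P := P) hη 1
  rw [OneMemClass.coe_one, cast_deg hη] at h1
  simp only [fun ψ : IrrCharacter (CC P) => cast_deg (irr_isCharacter ψ)] at h1
  norm_cast at h1
  rw [h1]
  have hsum : ∑ i ∈ s.attach, mult η (f i.1) * deg (f i.1)
      = ∑ ψ ∈ s.attach.image (fun i => (⟨f i.1, hf i.1 i.2⟩ : IrrCharacter (CC P))),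
        mult η (ψ : CC P → ℂ) * deg (ψ : CC P → ℂ) := by
    rw [Finset.sum_image]
    intro i _ j _ h
    exact Subtype.ext (hinj i.2 j.2 (congrArg Subtype.val h))
  rw [← Finset.sum_attach, hsum]
  exact Finset.sum_le_sum_of_subset (Finset.subset_univ _)

variable (hs : Star P)

include hs

/-- Conjugation invariance of multiplicities. -/
theorem mult_cj {η : G → ℂ} (hη : IsCharacter G η) (h : HH P) (ψ : CC P → ℂ) :
    mult η (cj hs h ψ) = mult η ψ := by
  have hcl := IsCharacter.isClassFunction hη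
  have e : classInner (fun c : CC P => η c) (cj hs h ψ) = classInner (fun c : CC P => η c) ψ := by
    refine Eq.trans ?_ (classInner_comp_equiv
      (MulEquiv.ofBijective (conjC hs h) (conjC_bijective hs h)) _ _)
    congr 1
    funext c
    show η c = η ((h : G)⁻¹ * c * h)
    have := hcl (c : G) (h : G)⁻¹
    simpa using this.symm
  rw [mult, mult, e]

/-- Twist multiplicity. -/
noncomputable def f (η : G → ℂ) (ν : (P : Subgroup G) →* ℂˣ) (a : CC P → ℂ) : ℕ :=
  mult η (tw hs ν a)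

/-- Conjugacy of twisted base characters. -/
def Cj (ν : (P : Subgroup G) →* ℂˣ) (a : CC P → ℂ) (μ : (P : Subgroup G) →* ℂˣ) (b : CC P → ℂ) :
    Prop := ∃ h : HH P, cj hs h (tw hs ν a) = tw hs μ b

theorem Cj.refl (ν : (P : Subgroup G) →* ℂˣ) (a : CC P → ℂ) : Cj hs ν a ν a := ⟨1, cj_one hs _⟩

theorem Cj.symm {ν μ : (P : Subgroup G) →* ℂˣ} {a b : CC P → ℂ} (h : Cj hs ν a μ b) :
    Cj hs μ b ν a := by
  obtain ⟨k, hk⟩ := h
  exact ⟨k⁻¹, by rw [← hk, ← cj_mul, inv_mul_cancel, cj_one]⟩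

theorem Cj.trans {ν μ ω : (P : Subgroup G) →* ℂˣ} {a b c : CC P → ℂ} (h : Cj hs ν a μ b)
    (h' : Cj hs μ b ω c) : Cj hs ν a ω c := by
  obtain ⟨k, hk⟩ := h
  obtain ⟨l, hl⟩ := h'
  exact ⟨l * k, by rw [cj_mul, hk, hl]⟩

theorem f_eq_of_Cj {η : G → ℂ} (hη : IsCharacter G η) {ν μ : (P : Subgroup G) →* ℂˣ}
    {a b : CC P → ℂ} (h : Cj hs ν a μ b) : f hs η ν a = f hs η μ b := by
  obtain ⟨k, hk⟩ := h
  rw [f, f, ← hk, mult_cj hs hη]

/-- Conjugation of twisted characters keeps nontriviality. -/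
theorem ne_one_of_Cj {ν μ : (P : Subgroup G) →* ℂˣ} {a b : CC P → ℂ} (ha : IsBase hs a)
    (hb : IsBase hs b) (h : Cj hs ν a μ b) (hν : ν ≠ 1) : μ ≠ 1 := by
  obtain ⟨k, hk⟩ := h
  rw [cj_tw] at hk
  obtain ⟨hk1, -⟩ := tw_injective hs (isBase_cj hs k ha) hb hk
  rintro rfl
  refine hν (MonoidHom.ext fun v => ?_)
  obtain ⟨u, rfl⟩ := (conjP_bijective hs k).2 v
  exact DFunLike.congr_fun hk1 u

/-- The number of elements of the normalizer sending one character to another. -/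
theorem card_transporter_self {ν : (P : Subgroup G) →* ℂˣ} (hν : ν ≠ 1) {a : CC P → ℂ}
    (ha : IsBase hs a) :
    Nat.card {h : HH P // cj hs h (tw hs ν a) = tw hs ν a} = Nat.card (CC P) :=
  Nat.card_congr
    { toFun := fun h => ⟨(h.1 : G), (cj_eq_self_iff hs hν ha h.1).1 h.2⟩
      invFun := fun c => ⟨⟨(c : G), CC_le_HH c.2⟩, (cj_eq_self_iff hs hν ha _).2 c.2⟩
      left_inv := fun h => rfl
      right_inv := fun c => rfl }

/-- Inner products of induced differences. -/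
theorem classInner_indFun_diff [Fintype (HH P)] {F F' : CC P → ℂ}
    (hF : ∀ c, proj hs c = 1 → F c = 0) (hF' : ∀ c, proj hs c = 1 → F' c = 0) :
    classInner (indFun (CC P) F) (indFun (CC P) F')
      = (Nat.card (CC P) : ℂ)⁻¹ * ∑ h : HH P, classInner F (cj hs h F') := by
  classical
  rw [classInner_indFun _ F (isClassFunction_indFun _ F')]
  have key : ∀ c : CC P, proj hs c ≠ 1 → indFun (CC P) F' (c : G)
      = (Nat.card (CC P) : ℂ)⁻¹ * ∑ h : HH P, cj hs h F' c := by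
    intro c hc
    rw [indFun_apply]
    congr 1
    have hzero : ∀ g : G, g ∉ HH P → extendByZero (CC P) F' (g⁻¹ * c * g) = 0 := by
      intro g hg
      by_cases hm : g⁻¹ * c * g ∈ CC P
      · rw [extendByZero_of_mem _ _ hm]
        refine hF' _ ?_
        by_contra hne
        refine hg ?_
        have := mem_HH_of_proj hs (g := g⁻¹) hne (c' := c) (by simp [mul_assoc])
        simpa using (HH P).inv_mem this
      · rw [extendByZero_of_not_mem _ _ hm]
    rw [← Finset.sum_subset (s₁ := Finset.univ.filter (fun g : G => g ∈ HH P)) (Finset.subset_univ _)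
      (fun g _ hg => hzero g (by simpa using hg))]
    rw [Finset.sum_subtype (p := fun g : G => g ∈ HH P) _ (by simp) (fun g => extendByZero (CC P) F' (g⁻¹ * c * g))]
    exact Finset.sum_congr rfl fun h _ => extendByZero_of_mem _ _ (conj_mem_CC hs h.2 c)
  simp only [classInner, Finset.mul_sum]
  rw [Finset.sum_comm]
  refine Finset.sum_congr rfl fun c _ => ?_
  by_cases hc : proj hs c = 1
  · simp [hF c hc]
  · rw [key c hc, map_mul, map_inv₀, map_natCast, map_sum]
    simp only [Finset.mul_sum]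
    refine Finset.sum_congr rfl fun h _ => ?_
    ring

/-- The difference of two twists of one base character. -/
noncomputable def dvec (ν μ : (P : Subgroup G) →* ℂˣ) (a : CC P → ℂ) (η : G → ℂ) : ℤ :=
  (f hs η ν a : ℤ) - f hs η μ a

theorem diff_vanish (ν μ : (P : Subgroup G) →* ℂˣ) (a : CC P → ℂ) (c : CC P) (hc : proj hs c = 1) :
    (tw hs ν a - tw hs μ a) c = 0 := by
  simp [tw, hc]

theorem classInner_indFun_dvec {η : G → ℂ} (hη : IsCharacter G η) (ν μ : (P : Subgroup G) →* ℂˣ)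
    {a : CC P → ℂ} (ha : IsBase hs a) :
    classInner (indFun (CC P) (tw hs ν a - tw hs μ a)) η = (dvec hs ν μ a η : ℂ) := by
  rw [classInner_indFun _ _ (IsCharacter.isClassFunction hη), classInner_sub_left,
    ← IsCharacter.classInner_comm (IsCharacter.restrict hη _) (IsIrrCharacter.isCharacter (isIrr_tw hs ν ha.1)),
    ← IsCharacter.classInner_comm (IsCharacter.restrict hη _) (IsIrrCharacter.isCharacter (isIrr_tw hs μ ha.1)),
    cast_mult hη (IsIrrCharacter.isCharacter (isIrr_tw hs ν ha.1)),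
    cast_mult hη (IsIrrCharacter.isCharacter (isIrr_tw hs μ ha.1))]
  simp [dvec, f]

theorem classInner_tw_cj {ν μ : (P : Subgroup G) →* ℂˣ} {a b : CC P → ℂ} (ha : IsBase hs a)
    (hb : IsBase hs b) (h : HH P) [Decidable (cj hs h (tw hs μ b) = tw hs ν a)] :
    classInner (tw hs ν a) (cj hs h (tw hs μ b))
      = if cj hs h (tw hs μ b) = tw hs ν a then 1 else 0 := by
  split_ifs with e
  · rw [e, IsIrrCharacter.classInner_self (isIrr_tw hs ν ha.1)]
  · refine IsIrrCharacter.classInner_ne (isIrr_tw hs ν ha.1) ?_ (fun e' => e e'.symm)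
    rw [cj_tw]
    exact isIrr_tw hs _ (isBase_cj hs h hb).1

/-- Sums of products of difference vectors. -/
theorem sum_dvec_mul [Fintype (HH P)] [Fintype (IrrCharacter G)]
    (ν μ ν' μ' : (P : Subgroup G) →* ℂˣ) {a b : CC P → ℂ} (ha : IsBase hs a) (hb : IsBase hs b) :
    ((∑ η : IrrCharacter G, dvec hs ν μ a η * dvec hs ν' μ' b η : ℤ) : ℂ)
      = (Nat.card (CC P) : ℂ)⁻¹ *
        ((Nat.card {h : HH P // cj hs h (tw hs ν' b) = tw hs ν a} : ℂ)
          - Nat.card {h : HH P // cj hs h (tw hs μ' b) = tw hs ν a}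
          - Nat.card {h : HH P // cj hs h (tw hs ν' b) = tw hs μ a}
          + Nat.card {h : HH P // cj hs h (tw hs μ' b) = tw hs μ a}) := by
  classical
  have hcl : ∀ F : CC P → ℂ, IsClassFunction G (indFun (CC P) F) := fun F => isClassFunction_indFun _ F
  have h1 := classInner_eq_sum_irr (hcl (tw hs ν a - tw hs μ a)) (hcl (tw hs ν' b - tw hs μ' b))
  simp only [classInner_indFun_dvec hs (irr_isCharacter _) ν μ ha,
    classInner_indFun_dvec hs (irr_isCharacter _) ν' μ' hb, map_intCast] at h1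
  push_cast
  rw [← h1, classInner_indFun_diff hs (diff_vanish hs ν μ a) (diff_vanish hs ν' μ' b)]
  congr 1
  have hexp : ∀ h : HH P, cj hs h (tw hs ν' b - tw hs μ' b)
      = cj hs h (tw hs ν' b) - cj hs h (tw hs μ' b) := fun h => rfl
  simp only [hexp, classInner_sub_left, classInner_sub_right, classInner_tw_cj hs ha hb,
    Finset.sum_sub_distrib, Finset.sum_boole, Nat.card_eq_fintype_card, Fintype.card_subtype]
  ring

/-- The difference vector has norm two. -/
theorem sum_dvec_sq [Fintype (HH P)] [Fintype (IrrCharacter G)] {ν μ : (P : Subgroup G) →* ℂˣ}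
    {a : CC P → ℂ} (ha : IsBase hs a) (hν : ν ≠ 1) (hμ : μ ≠ 1) (hn : ¬ Cj hs ν a μ a) :
    ∑ η : IrrCharacter G, dvec hs ν μ a η ^ 2 = 2 := by
  have h := sum_dvec_mul hs ν μ ν μ ha ha
  have e1 : Nat.card {h : HH P // cj hs h (tw hs μ a) = tw hs ν a} = 0 :=
    Nat.card_eq_zero.2 (Or.inl ⟨fun h => hn (Cj.symm hs ⟨h.1, h.2⟩)⟩)
  have e2 : Nat.card {h : HH P // cj hs h (tw hs ν a) = tw hs μ a} = 0 :=
    Nat.card_eq_zero.2 (Or.inl ⟨fun h => hn ⟨h.1, h.2⟩⟩)
  rw [e1, e2, card_transporter_self hs hν ha, card_transporter_self hs hμ ha] at h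
  have hC : (Nat.card (CC P) : ℂ) ≠ 0 := natCard_ne_zero_complex
  rw [Nat.cast_zero, sub_zero, sub_zero, ← two_mul, mul_left_comm, inv_mul_cancel₀ hC, mul_one] at h
  have h' : (∑ η : IrrCharacter G, dvec hs ν μ a η * dvec hs ν μ a η) = 2 := by exact_mod_cast h
  simpa [sq] using h'

theorem sum_dvec_mul_eq_zero [Fintype (HH P)] [Fintype (IrrCharacter G)]
    {ν μ ν' μ' : (P : Subgroup G) →* ℂˣ} {a b : CC P → ℂ} (ha : IsBase hs a) (hb : IsBase hs b)
    (hab : ∀ h : HH P, cj hs h b ≠ a) :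
    ∑ η : IrrCharacter G, dvec hs ν μ a η * dvec hs ν' μ' b η = 0 := by
  have h := sum_dvec_mul hs ν μ ν' μ' ha hb
  have e : ∀ x y : (P : Subgroup G) →* ℂˣ, Nat.card {h : HH P // cj hs h (tw hs y b) = tw hs x a} = 0 := by
    intro x y
    refine Nat.card_eq_zero.2 (Or.inl ⟨fun h => hab h.1 ?_⟩)
    have := h.2
    rw [cj_tw] at this
    exact (tw_injective hs (isBase_cj hs h.1 hb) ha this).2
  rw [e, e, e, e] at h
  simp only [Nat.cast_zero, sub_zero, add_zero, mul_zero] at h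
  exact_mod_cast h

theorem sum_dvec_deg [Fintype (IrrCharacter G)] (ν μ : (P : Subgroup G) →* ℂˣ) {a : CC P → ℂ}
    (ha : IsBase hs a) : ∑ η : IrrCharacter G, dvec hs ν μ a η * (deg (η : G → ℂ) : ℤ) = 0 := by
  classical
  have hcl : IsClassFunction G (indFun (CC P) (tw hs ν a - tw hs μ a)) := isClassFunction_indFun _ _
  have h := congrFun (eq_sum_classInner hcl) 1
  rw [indFun_one, Pi.sub_apply, tw_apply_one, tw_apply_one, sub_self, mul_zero] at h
  simp only [Finset.sum_apply, Pi.smul_apply, smul_eq_mul,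
    classInner_indFun_dvec hs (irr_isCharacter _) ν μ ha, cast_deg (irr_isCharacter _)] at h
  exact_mod_cast h.symm

/-- The two constituents of a difference. -/
theorem exists_partner [Fintype (HH P)] [Fintype (IrrCharacter G)] {ν μ : (P : Subgroup G) →* ℂˣ}
    {a : CC P → ℂ} (ha : IsBase hs a) (hν : ν ≠ 1) (hμ : μ ≠ 1) (hn : ¬ Cj hs ν a μ a)
    {η : IrrCharacter G} (h1 : 1 ≤ dvec hs ν μ a η) :
    dvec hs ν μ a η = 1 ∧ ∃ ζ : IrrCharacter G, ζ ≠ η ∧ dvec hs ν μ a ζ = -1 ∧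
      deg (ζ : G → ℂ) = deg (η : G → ℂ) ∧
      ∀ ξ : IrrCharacter G, ξ ≠ η → ξ ≠ ζ → dvec hs ν μ a ξ = 0 := by
  classical
  have hsq := sum_dvec_sq hs ha hν hμ hn
  have hdeg := sum_dvec_deg hs ν μ ha
  set v := fun ξ : IrrCharacter G => dvec hs ν μ a ξ with hv
  rw [← Finset.add_sum_erase _ _ (Finset.mem_univ η)] at hsq hdeg
  have hnn : 0 ≤ ∑ ξ ∈ Finset.univ.erase η, v ξ ^ 2 := Finset.sum_nonneg fun _ _ => sq_nonneg _
  have hη1 : v η = 1 := by
    change 1 ≤ v η at h1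
    by_contra hne
    have h2 : (2 : ℤ) ≤ v η := by omega
    change v η ^ 2 + _ = 2 at hsq
    nlinarith
  refine ⟨hη1, ?_⟩
  change v η ^ 2 + ∑ ξ ∈ Finset.univ.erase η, v ξ ^ 2 = 2 at hsq
  rw [hη1] at hsq
  obtain ⟨ζ, hζe, hζ⟩ : ∃ ζ ∈ Finset.univ.erase η, v ζ ≠ 0 := by
    by_contra hall
    push Not at hall
    rw [Finset.sum_eq_zero fun ξ hξ => by rw [hall ξ hξ]; ring] at hsq
    norm_num at hsq
  rw [← Finset.add_sum_erase _ _ hζe] at hsq
  have hnn2 : 0 ≤ ∑ ξ ∈ (Finset.univ.erase η).erase ζ, v ξ ^ 2 := Finset.sum_nonneg fun _ _ => sq_nonneg _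
  have h0 : 0 < v ζ ^ 2 := sq_pos_iff.2 hζ
  have hrest : ∀ ξ ∈ (Finset.univ.erase η).erase ζ, v ξ = 0 := by
    intro ξ hξ
    by_contra hne
    have := Finset.single_le_sum (f := fun ξ => v ξ ^ 2) (fun i _ => sq_nonneg _) hξ
    have : 0 < v ξ ^ 2 := sq_pos_iff.2 hne
    linarith
  have hrest' : ∀ ξ : IrrCharacter G, ξ ≠ η → ξ ≠ ζ → v ξ = 0 := fun ξ a b =>
    hrest ξ (Finset.mem_erase.2 ⟨b, Finset.mem_erase.2 ⟨a, Finset.mem_univ _⟩⟩)
  rw [← Finset.add_sum_erase _ _ hζe, Finset.sum_eq_zero fun ξ hξ => by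
    show v ξ * _ = 0
    rw [hrest ξ hξ, zero_mul]] at hdeg
  change v η * _ + (v ζ * _ + 0) = 0 at hdeg
  rw [hη1, add_zero, one_mul] at hdeg
  have hζ2 : v ζ ^ 2 = 1 := by linarith
  have hpos : (0 : ℤ) < deg (η : G → ℂ) := by exact_mod_cast deg_pos η.2
  have hζ1 : v ζ = -1 := by
    rcases sq_eq_one_iff.1 hζ2 with h | h
    · exfalso; rw [h] at hdeg; omega
    · exact h
  rw [hζ1] at hdeg
  exact ⟨ζ, (Finset.mem_erase.1 hζe).1, hζ1, by omega, hrest'⟩

end Cfsg.Agent.Lib.InvChar.SmallTI
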