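import Mathlib
import Cfsg.Prelude
import Cfsg.Agent.Lib.InvChar.SmallTIMult

/-!
# Shape of the restrictions of small characters
-/

set_option autoImplicit false
set_option linter.unusedSectionVars false
set_option linter.style.haveILetI false

namespace Cfsg.Agent.Lib.InvChar.SmallTI

open Cfsg Cfsg.Agent.Lib.Characters
open scoped ComplexConjugate

universe u

variable {G : Type u} [Group G] [Fintype G] {p : ℕ} [Fact p.Prime] {P : Sylow p G}

theorem card_dual_P (hs : Star P) :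
    Nat.card ((P : Subgroup G) →* ℂˣ) = Nat.card (P : Subgroup G) := by
  letI : CommGroup (P : Subgroup G) :=
    { (inferInstance : Group (P : Subgroup G)) with
      mul_comm := fun a b =>
        Subtype.ext ((Subgroup.mem_centralizer_iff.1 (le_CC hs b.2)) _ a.2) }
  haveI : NeZero (Monoid.exponent (P : Subgroup G)) := ⟨Monoid.exponent_ne_zero_of_finite⟩
  exact CommGroup.card_monoidHom_of_hasEnoughRootsOfUnity (P : Subgroup G) ℂ

theorem finite_dual_P (hs : Star P) : Finite ((P : Subgroup G) →* ℂˣ) :=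
  Nat.finite_of_card_ne_zero (by rw [card_dual_P hs]; exact Nat.card_pos.ne')

theorem norm_dual_apply (ν : (P : Subgroup G) →* ℂˣ) (u : (P : Subgroup G)) :
    ‖((ν u : ℂˣ) : ℂ)‖ = 1 := by
  refine norm_eq_one_of_pow_eq_one' (n := Nat.card (P : Subgroup G)) Nat.card_pos.ne' ?_
  rw [← Units.val_pow_eq_pow_val, ← map_pow, pow_card_eq_one', map_one, Units.val_one]

theorem conj_dual_apply (ν : (P : Subgroup G) →* ℂˣ) (u : (P : Subgroup G)) :
    conj ((ν u : ℂˣ) : ℂ) = ((ν⁻¹ u : ℂˣ) : ℂ) := by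
  rw [MonoidHom.inv_apply, Units.val_inv_eq_inv_val, Complex.inv_eq_conj (norm_dual_apply ν u)]

variable [Fintype (CC P)] (hs : Star P)

include hs

/-- The action of the normalizer on characters of `P`. -/
def act (h : HH P) (ν : (P : Subgroup G) →* ℂˣ) : (P : Subgroup G) →* ℂˣ := ν.comp (conjP hs h)

theorem cj_tw' (h : HH P) (ν : (P : Subgroup G) →* ℂˣ) (a : CC P → ℂ) :
    cj hs h (tw hs ν a) = tw hs (act hs h ν) (cj hs h a) := cj_tw hs h ν a

theorem act_mul (h k : HH P) (ν : (P : Subgroup G) →* ℂˣ) :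
    act hs (h * k) ν = act hs h (act hs k ν) := by
  ext u
  refine congrArg (fun x => ((ν x : ℂˣ) : ℂ)) (Subtype.ext ?_)
  simp [conjP, mul_assoc]

theorem act_one (ν : (P : Subgroup G) →* ℂˣ) : act hs 1 ν = ν := by
  ext u
  refine congrArg (fun x => ((ν x : ℂˣ) : ℂ)) (Subtype.ext ?_)
  simp [conjP]

theorem act_CC {h : HH P} (hc : (h : G) ∈ CC P) (ν : (P : Subgroup G) →* ℂˣ) : act hs h ν = ν := by
  ext u
  refine congrArg (fun x => ((ν x : ℂˣ) : ℂ)) (Subtype.ext ?_)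
  show (h : G)⁻¹ * u * h = u
  rw [mul_assoc, Subgroup.mem_centralizer_iff.1 hc _ u.2, inv_mul_cancel_left]

theorem act_ne_one {ν : (P : Subgroup G) →* ℂˣ} (hν : ν ≠ 1) (h : HH P) : act hs h ν ≠ 1 :=
  ne_one_of_Cj hs (isBase_one hs) (isBase_cj hs h (isBase_one hs)) ⟨h, cj_tw' hs h ν _⟩ hν

variable [Fintype (HH P)]

/-- The inertial index. -/
noncomputable def inIdx (_hs : Star P) : ℕ := Nat.card (HH P) / Nat.card (CC P)

/-- The orbit of a twisted base character, as pairs. -/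
noncomputable def orb (ν : (P : Subgroup G) →* ℂˣ) (a : CC P → ℂ) :
    Finset (((P : Subgroup G) →* ℂˣ) × (CC P → ℂ)) :=
  open Classical in Finset.univ.image fun h : HH P => (act hs h ν, cj hs h a)

theorem mem_orb {ν : (P : Subgroup G) →* ℂˣ} {a : CC P → ℂ}
    {i : ((P : Subgroup G) →* ℂˣ) × (CC P → ℂ)} :
    i ∈ orb hs ν a ↔ ∃ h : HH P, i = (act hs h ν, cj hs h a) := by
  classical
  simp [orb, eq_comm]

theorem self_mem_orb (ν : (P : Subgroup G) →* ℂˣ) (a : CC P → ℂ) : (ν, a) ∈ orb hs ν a :=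
  (mem_orb hs).2 ⟨1, by rw [act_one, cj_one]⟩

theorem cj_CC {h : HH P} (hc : (h : G) ∈ CC P) {a : CC P → ℂ} (ha : IsBase hs a) :
    cj hs h a = a := by
  funext c
  refine Eq.trans ?_ (IsCharacter.isClassFunction (IsIrrCharacter.isCharacter ha.1) c (⟨(h : G), hc⟩ : CC P)⁻¹)
  refine congrArg a (Subtype.ext ?_)
  simp [conjC]

theorem mul_mem_CC_of_act_eq {ν : (P : Subgroup G) →* ℂˣ} (hν : ν ≠ 1) {h k : HH P}
    (he : act hs h ν = act hs k ν) : ((k⁻¹ * h : HH P) : G) ∈ CC P := by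
  refine mem_CC_of_fixed hs hν ?_
  show act hs (k⁻¹ * h) ν = ν
  rw [act_mul, he, ← act_mul, inv_mul_cancel, act_one]

theorem cj_eq_of_act_eq {ν : (P : Subgroup G) →* ℂˣ} (hν : ν ≠ 1) {a : CC P → ℂ} (ha : IsBase hs a)
    {h k : HH P} (he : act hs h ν = act hs k ν) : cj hs h a = cj hs k a := by
  conv_lhs => rw [← mul_inv_cancel_left k h, cj_mul, cj_CC hs (mul_mem_CC_of_act_eq hs hν he) ha]

theorem card_orb {ν : (P : Subgroup G) →* ℂˣ} (hν : ν ≠ 1) {a : CC P → ℂ} (ha : IsBase hs a) :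
    (orb hs ν a).card = inIdx hs := by
  classical
  have hfib : ∀ i ∈ orb hs ν a,
      ((Finset.univ : Finset (HH P)).filter fun h => (act hs h ν, cj hs h a) = i).card = Nat.card (CC P) := by
    intro i hi
    obtain ⟨k, rfl⟩ := (mem_orb hs).1 hi
    rw [← Fintype.card_subtype, ← Nat.card_eq_fintype_card]
    refine Nat.card_congr
      { toFun := fun h => ⟨((k⁻¹ * h.1 : HH P) : G), mul_mem_CC_of_act_eq hs hν (congrArg Prod.fst h.2)⟩
        invFun := fun c => ⟨k * ⟨(c : G), CC_le_HH c.2⟩, ?_⟩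
        left_inv := fun h => Subtype.ext (Subtype.ext (by simp))
        right_inv := fun c => Subtype.ext (by simp) }
    have hc : ((⟨(c : G), CC_le_HH c.2⟩ : HH P) : G) ∈ CC P := c.2
    rw [act_mul, cj_mul, act_CC hs hc, cj_CC hs hc ha]
  have h : Nat.card (HH P) = (orb hs ν a).card * Nat.card (CC P) := by
    rw [Nat.card_eq_fintype_card, ← Finset.card_univ,
      Finset.card_eq_sum_card_fiberwise (t := orb hs ν a)
        (f := fun h : HH P => (act hs h ν, cj hs h a)) (fun h _ => (mem_orb hs).2 ⟨h, rfl⟩),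
      Finset.sum_congr rfl hfib, Finset.sum_const, smul_eq_mul]
  rw [inIdx, h, Nat.mul_div_cancel _ Nat.card_pos]

theorem orb_fst_injOn {ν : (P : Subgroup G) →* ℂˣ} (hν : ν ≠ 1) {a : CC P → ℂ} (ha : IsBase hs a) :
    Set.InjOn Prod.fst (orb hs ν a : Set (((P : Subgroup G) →* ℂˣ) × (CC P → ℂ))) := by
  intro i hi j hj hij
  obtain ⟨h, rfl⟩ := (mem_orb hs).1 hi
  obtain ⟨k, rfl⟩ := (mem_orb hs).1 hj
  exact Prod.ext hij (cj_eq_of_act_eq hs hν ha hij)

theorem orb_spec {ν : (P : Subgroup G) →* ℂˣ} (hν : ν ≠ 1) {a : CC P → ℂ} (ha : IsBase hs a)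
    {i : ((P : Subgroup G) →* ℂˣ) × (CC P → ℂ)} (hi : i ∈ orb hs ν a) :
    i.1 ≠ 1 ∧ IsBase hs i.2 ∧ Cj hs ν a i.1 i.2 := by
  obtain ⟨h, rfl⟩ := (mem_orb hs).1 hi
  exact ⟨act_ne_one hs hν h, isBase_cj hs h ha, ⟨h, cj_tw' hs h ν a⟩⟩

theorem mem_orb_of_Cj {ν μ : (P : Subgroup G) →* ℂˣ} {a b : CC P → ℂ} (ha : IsBase hs a)
    (hb : IsBase hs b) (h : Cj hs ν a μ b) : (μ, b) ∈ orb hs ν a := by
  obtain ⟨k, hk⟩ := h
  rw [cj_tw'] at hk
  obtain ⟨h1, h2⟩ := tw_injective hs (isBase_cj hs k ha) hb hk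
  exact (mem_orb hs).2 ⟨k, by rw [h1, h2]⟩

theorem inIdx_mul : inIdx hs * Nat.card (CC P) = Nat.card (HH P) :=
  Nat.div_mul_cancel (Subgroup.card_dvd_of_le CC_le_HH)

theorem inIdx_coprime : (inIdx hs).Coprime p := by
  have hp : p.Prime := Fact.out
  refine ((Nat.Prime.coprime_iff_not_dvd hp).2 fun hd => ?_).symm
  obtain ⟨k, hk⟩ := hd
  obtain ⟨l, hl⟩ := Subgroup.card_dvd_of_le (le_CC hs)
  have h1 : p ^ ((Nat.card G).factorization p + 1) ∣ Nat.card G := by
    refine dvd_trans ?_ (Subgroup.card_subgroup_dvd_card (HH P))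
    rw [← inIdx_mul hs, hk, hl, card_P hs]
    exact ⟨k * l, by ring⟩
  have := (hp.pow_dvd_iff_le_factorization Nat.card_pos.ne').1 h1
  omega

/-! ### Small characters -/

variable [Fintype (IrrCharacter G)] [Fintype ((P : Subgroup G) →* ℂˣ)]

/-- A character is small when its degree is less than `|P| - 1`. -/
def Small (η : G → ℂ) : Prop := deg η + 1 < Nat.card (P : Subgroup G)

omit hs in
theorem deg_tw (hs : Star P) (ν : (P : Subgroup G) →* ℂˣ) (a : CC P → ℂ) :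
    deg (tw hs ν a) = deg a := by
  rw [deg, deg, tw_apply_one]

theorem sum_f_le {η : G → ℂ} (hη : IsCharacter G η) (T : Finset ((P : Subgroup G) →* ℂˣ))
    {a : CC P → ℂ} (ha : IsBase hs a) : (∑ ν ∈ T, f hs η ν a) * deg a ≤ deg η := by
  rw [Finset.sum_mul]
  have h := sum_mult_le hη T (fun ν => tw hs ν a) (fun ν _ => isIrr_tw hs ν ha.1)
    (fun ν _ μ _ he => (tw_injective hs ha ha he).1)
  simpa only [deg_tw, f] using h

/-- The nontrivial twists occurring in a restriction. -/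
noncomputable def pos (η : G → ℂ) (a : CC P → ℂ) : Finset ((P : Subgroup G) →* ℂˣ) :=
  open Classical in Finset.univ.filter fun ν => ν ≠ 1 ∧ 1 ≤ f hs η ν a

theorem mem_pos {η : G → ℂ} {a : CC P → ℂ} {ν : (P : Subgroup G) →* ℂˣ} :
    ν ∈ pos hs η a ↔ ν ≠ 1 ∧ 1 ≤ f hs η ν a := by
  classical
  simp [pos]

theorem card_pos_le {η : G → ℂ} (hη : IsCharacter G η) {a : CC P → ℂ} (ha : IsBase hs a) :
    (pos hs η a).card * deg a ≤ deg η := by
  refine le_trans (Nat.mul_le_mul_right _ ?_) (sum_f_le hs hη (pos hs η a) ha)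
  rw [Finset.card_eq_sum_ones]
  exact Finset.sum_le_sum fun ν hν => ((mem_pos hs).1 hν).2

theorem exists_zero {η : IrrCharacter G} (hsm : Small (P := P) (η : G → ℂ)) {a : CC P → ℂ}
    (ha : IsBase hs a) : ∃ z : (P : Subgroup G) →* ℂˣ, z ≠ 1 ∧ f hs η z a = 0 := by
  classical
  by_contra hall
  push Not at hall
  have h : (Finset.univ.erase (1 : (P : Subgroup G) →* ℂˣ)).card ≤ (pos hs (η : G → ℂ) a).card :=
    Finset.card_le_card fun ν hν => (mem_pos hs).2
      ⟨(Finset.mem_erase.1 hν).1, Nat.one_le_iff_ne_zero.2 (hall ν (Finset.mem_erase.1 hν).1)⟩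
  rw [Finset.card_erase_of_mem (Finset.mem_univ _), Finset.card_univ, ← Nat.card_eq_fintype_card,
    card_dual_P hs] at h
  have h2 := card_pos_le hs (irr_isCharacter η) ha
  have h3 : (pos hs (η : G → ℂ) a).card ≤ (pos hs (η : G → ℂ) a).card * deg a :=
    Nat.le_mul_of_pos_right _ (deg_pos ha.1)
  unfold Small at hsm
  omega

theorem not_Cj_of_f {η : G → ℂ} (hη : IsCharacter G η) {ν μ : (P : Subgroup G) →* ℂˣ}
    {a b : CC P → ℂ} (h : f hs η ν a ≠ f hs η μ b) : ¬ Cj hs ν a μ b :=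
  fun hc => h (f_eq_of_Cj hs hη hc)

theorem dvec_eq (ν μ : (P : Subgroup G) →* ℂˣ) (a : CC P → ℂ) (η : G → ℂ) :
    dvec hs ν μ a η = (f hs η ν a : ℤ) - f hs η μ a := rfl

theorem f_le_one {η : IrrCharacter G} (hsm : Small (P := P) (η : G → ℂ)) {a : CC P → ℂ}
    (ha : IsBase hs a) {ν : (P : Subgroup G) →* ℂˣ} (hν : ν ≠ 1) : f hs η ν a ≤ 1 := by
  by_contra hle
  obtain ⟨z, hz1, hz⟩ := exists_zero hs hsm ha
  have h := exists_partner hs ha hν hz1 (not_Cj_of_f hs (irr_isCharacter η) (by omega)) (η := η)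
    (by rw [dvec_eq, hz]; omega)
  have h1 := h.1
  rw [dvec_eq, hz] at h1
  omega

/-- A small character is exceptional in at most one family. -/
theorem base_conj {η : IrrCharacter G} (hsm : Small (P := P) (η : G → ℂ)) {a b : CC P → ℂ}
    (ha : IsBase hs a) (hb : IsBase hs b) {ν μ : (P : Subgroup G) →* ℂˣ} (hν : ν ≠ 1) (hμ : μ ≠ 1)
    (h1 : 1 ≤ f hs η ν a) (h2 : 1 ≤ f hs η μ b) : ∃ h : HH P, cj hs h b = a := by
  classical
  by_contra hne
  push Not at hne
  obtain ⟨z, hz1, hz⟩ := exists_zero hs hsm ha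
  obtain ⟨w, hw1, hw⟩ := exists_zero hs hsm hb
  obtain ⟨e1, ζ, hζ, eζ, -, hζ0⟩ := exists_partner hs ha hν hz1
    (not_Cj_of_f hs (irr_isCharacter η) (by omega)) (η := η) (by rw [dvec_eq, hz]; omega)
  obtain ⟨e2, ξ, hξ, eξ, -, hξ0⟩ := exists_partner hs hb hμ hw1
    (not_Cj_of_f hs (irr_isCharacter η) (by omega)) (η := η) (by rw [dvec_eq, hw]; omega)
  have h := sum_dvec_mul_eq_zero hs (ν := ν) (μ := z) (ν' := μ) (μ' := w) ha hb hne
  have hnn : ∀ θ ∈ Finset.univ.erase η, 0 ≤ dvec hs ν z a (θ : IrrCharacter G) * dvec hs μ w b θ := by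
    intro θ hθ
    have hθη := (Finset.mem_erase.1 hθ).1
    have v1 : dvec hs ν z a θ ≤ 0 := by
      by_cases e : θ = ζ
      · rw [e, eζ]; norm_num
      · rw [hζ0 θ hθη e]
    have v2 : dvec hs μ w b θ ≤ 0 := by
      by_cases e : θ = ξ
      · rw [e, eξ]; norm_num
      · rw [hξ0 θ hθη e]
    exact mul_nonneg_of_nonpos_of_nonpos v1 v2
  rw [← Finset.add_sum_erase _ _ (Finset.mem_univ η), e1, e2] at h
  linarith [Finset.sum_nonneg hnn]

/-- Two distinct small characters are not positive on the same twist. -/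
theorem eq_of_common {η ζ : IrrCharacter G} (hη : Small (P := P) (η : G → ℂ))
    (hζ : Small (P := P) (ζ : G → ℂ)) {a : CC P → ℂ} (ha : IsBase hs a)
    {ν z : (P : Subgroup G) →* ℂˣ} (hν : ν ≠ 1) (hz : z ≠ 1) (h1 : 1 ≤ f hs η ν a)
    (h2 : 1 ≤ f hs ζ ν a) (hz1 : f hs η z a = 0) (hz2 : f hs ζ z a = 0) : η = ζ := by
  by_contra hne
  obtain ⟨-, ξ, hξ, eξ, -, hξ0⟩ := exists_partner hs ha hν hz
    (not_Cj_of_f hs (irr_isCharacter η) (by omega)) (η := η) (by rw [dvec_eq, hz1]; omega)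
  by_cases e : ζ = ξ
  · rw [← e, dvec_eq, hz2] at eξ; omega
  · have := hξ0 ζ (fun h => hne h.symm) e
    rw [dvec_eq, hz2] at this; omega

/-- Exceptional small characters have one positive orbit or one zero orbit. -/
theorem dichotomy {η : IrrCharacter G} (hsm : Small (P := P) (η : G → ℂ)) {a : CC P → ℂ}
    (ha : IsBase hs a) {ν b c d : (P : Subgroup G) →* ℂˣ} (hν : ν ≠ 1) (hb : b ≠ 1) (hc : c ≠ 1)
    (hd : d ≠ 1) (hνb : ¬ Cj hs ν a b a) (hcd : ¬ Cj hs c a d a)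
    (fν : 1 ≤ f hs η ν a) (fb : 1 ≤ f hs η b a) (fc : f hs η c a = 0) (fd : f hs η d a = 0) :
    False := by
  classical
  have hnc : ∀ {x y}, 1 ≤ f hs η x a → f hs η y a = 0 → ¬ Cj hs x a y a := fun h1 h2 =>
    not_Cj_of_f hs (irr_isCharacter η) (by omega)
  have hge : ∀ {x y}, 1 ≤ f hs η x a → f hs η y a = 0 → 1 ≤ dvec hs x y a (η : G → ℂ) := fun h1 h2 => by
    rw [dvec_eq, h2]; omega
  obtain ⟨-, Z1, hZ1, e1, -, r1⟩ := exists_partner hs ha hν hc (hnc fν fc) (η := η) (hge fν fc)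
  obtain ⟨-, Z2, hZ2, e2, -, r2⟩ := exists_partner hs ha hb hc (hnc fb fc) (η := η) (hge fb fc)
  obtain ⟨-, Z3, hZ3, e3, -, r3⟩ := exists_partner hs ha hν hd (hnc fν fd) (η := η) (hge fν fd)
  obtain ⟨-, Z4, hZ4, e4, -, r4⟩ := exists_partner hs ha hb hd (hnc fb fd) (η := η) (hge fb fd)
  have hval : ∀ {x y} (Z : IrrCharacter G), x ≠ 1 → 1 ≤ f hs η x a → f hs η y a = 0 →
      dvec hs x y a (η : G → ℂ) = 1 := fun {x y} Z hx h1 h2 => by
    have := f_le_one hs hsm ha hx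
    rw [dvec_eq, h2]; omega
  have h12 : Z1 ≠ Z2 := by
    intro e
    have hz : ∀ θ : IrrCharacter G, dvec hs ν b a (θ : G → ℂ) = 0 := by
      intro θ
      have : dvec hs ν c a (θ : G → ℂ) = dvec hs b c a (θ : G → ℂ) := by
        by_cases h1 : θ = η
        · rw [h1, hval Z1 hν fν fc, hval Z2 hb fb fc]
        by_cases h2 : θ = Z1
        · rw [h2, e1, e, e2]
        · rw [r1 θ h1 h2, r2 θ h1 (e ▸ h2)]
      simp only [dvec_eq] at this ⊢
      omega
    have := sum_dvec_sq hs ha hν hb hνb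
    rw [Finset.sum_eq_zero fun θ _ => by rw [hz θ]; ring] at this
    norm_num at this
  have h13 : Z1 = Z3 := by
    by_contra hne
    have x1 := e1
    have x2 := r2 Z1 hZ1 h12
    have x3 := r3 Z1 hZ1 hne
    have x4 : dvec hs b d a (Z1 : G → ℂ) ≤ 0 := by
      by_cases h : Z1 = Z4
      · rw [h, e4]; norm_num
      · rw [r4 Z1 hZ1 h]
    simp only [dvec_eq] at x1 x2 x3 x4
    omega
  have hz : ∀ θ : IrrCharacter G, dvec hs c d a (θ : G → ℂ) = 0 := by
    intro θ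
    have : dvec hs ν c a (θ : G → ℂ) = dvec hs ν d a (θ : G → ℂ) := by
      by_cases h1 : θ = η
      · rw [h1, hval Z1 hν fν fc, hval Z3 hν fν fd]
      by_cases h2 : θ = Z1
      · rw [h2, e1, h13, e3]
      · rw [r1 θ h1 h2, r3 θ h1 (h13 ▸ h2)]
    simp only [dvec_eq] at this ⊢
    omega
  have := sum_dvec_sq hs ha hc hd hcd
  rw [Finset.sum_eq_zero fun θ _ => by rw [hz θ]; ring] at this
  norm_num at this

/-- Few positive twists form a single orbit. -/
theorem single_pos {η : IrrCharacter G} (hsm : Small (P := P) (η : G → ℂ)) {a : CC P → ℂ}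
    (ha : IsBase hs a) (hcount : (pos hs (η : G → ℂ) a).card + inIdx hs + 1 < Nat.card (P : Subgroup G))
    {ν μ : (P : Subgroup G) →* ℂˣ} (hν : ν ∈ pos hs (η : G → ℂ) a)
    (hμ : μ ∈ pos hs (η : G → ℂ) a) : Cj hs ν a μ a := by
  classical
  by_contra hn
  obtain ⟨z, hz1, hz⟩ := exists_zero hs hsm ha
  set others := ((Finset.univ.erase (1 : (P : Subgroup G) →* ℂˣ)) \ pos hs (η : G → ℂ) a) with ho
  have hsub : others ⊆ (orb hs z a).image Prod.fst := by
    intro d hd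
    obtain ⟨hd1, hd2⟩ := Finset.mem_sdiff.1 hd
    have hd1' := (Finset.mem_erase.1 hd1).1
    have hd0 : f hs η d a = 0 := by
      by_contra h0
      exact hd2 ((mem_pos hs).2 ⟨hd1', Nat.one_le_iff_ne_zero.2 h0⟩)
    have hc : Cj hs z a d a := by
      by_contra h
      exact dichotomy hs hsm ha ((mem_pos hs).1 hν).1 ((mem_pos hs).1 hμ).1 hz1 hd1' hn h
        ((mem_pos hs).1 hν).2 ((mem_pos hs).1 hμ).2 hz hd0
    exact Finset.mem_image.2 ⟨(d, a), mem_orb_of_Cj hs ha ha hc, rfl⟩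
  have h1 := (Finset.card_le_card hsub).trans Finset.card_image_le
  rw [card_orb hs hz1 ha, Finset.card_sdiff_of_subset, Finset.card_erase_of_mem (Finset.mem_univ _),
    Finset.card_univ, ← Nat.card_eq_fintype_card, card_dual_P hs] at h1
  · omega
  · intro x hx
    exact Finset.mem_erase.2 ⟨((mem_pos hs).1 hx).1, Finset.mem_univ _⟩

theorem pos_orbit_card {η : IrrCharacter G} {a : CC P → ℂ} (ha : IsBase hs a)
    {ν : (P : Subgroup G) →* ℂˣ} (hν : ν ≠ 1) (h1 : 1 ≤ f hs η ν a) :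
    inIdx hs * deg a ≤ deg (η : G → ℂ) := by
  classical
  rw [← card_orb hs hν ha]
  have h := sum_mult_le (irr_isCharacter η) (orb hs ν a) (fun i => tw hs i.1 i.2)
    (fun i hi => isIrr_tw hs i.1 (orb_spec hs hν ha hi).2.1.1)
    (fun i hi j hj he => by
      obtain ⟨e1, e2⟩ := tw_injective hs (orb_spec hs hν ha hi).2.1 (orb_spec hs hν ha hj).2.1 he
      exact Prod.ext e1 e2)
  refine le_trans ?_ h
  rw [← smul_eq_mul, ← Finset.sum_const]
  refine Finset.sum_le_sum fun i hi => ?_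
  obtain ⟨k, rfl⟩ := (mem_orb hs).1 hi
  have hfi : f hs η ν a = f hs η (act hs k ν) (cj hs k a) :=
    f_eq_of_Cj hs (irr_isCharacter η) ⟨k, cj_tw' hs k ν a⟩
  have hd : deg (tw hs (act hs k ν) (cj hs k a)) = deg a := by
    rw [deg_tw, deg, deg]
    show ⌊(a (conjC hs k 1)).re⌋₊ = _
    rw [map_one]
  show deg a ≤ mult (η : G → ℂ) (tw hs (act hs k ν) (cj hs k a)) * deg (tw hs (act hs k ν) (cj hs k a))
  rw [hd]
  refine Nat.le_mul_of_pos_left _ ?_
  exact lt_of_lt_of_le h1 (le_of_eq hfi)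

end Cfsg.Agent.Lib.InvChar.SmallTI
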