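import Mathlib
import Cfsg.Prelude
import Cfsg.Agent.Lib.InvChar.SmallTICount

/-!
# Restrictions of small characters are single orbits
-/

set_option autoImplicit false
set_option linter.unusedSectionVars false
set_option linter.style.haveILetI false

namespace Cfsg.Agent.Lib.InvChar.SmallTI

open Cfsg Cfsg.Agent.Lib.Characters
open scoped ComplexConjugate

universe u

variable {G : Type u} [Group G] [Fintype G] {p : ℕ} [Fact p.Prime] {P : Sylow p G}
variable [Fintype (CC P)]

/-- The characters of `P`. -/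
abbrev Dual (P : Sylow p G) := (P : Subgroup G) →* ℂˣ

/-- Pairs indexing twisted base characters. -/
abbrev Idx (P : Sylow p G) := Dual P × (CC P → ℂ)

theorem mult_eq_of_classInner {Φ : G → ℂ} {ψ : CC P → ℂ} {k : ℕ}
    (h : classInner (fun c : CC P => Φ c) ψ = (k : ℂ)) : mult Φ ψ = k := by
  rw [mult, h, Complex.natCast_re, Nat.floor_natCast]

/-- Multiplicities and degrees are additive in a decomposition. -/
theorem exists_decomp [Fintype (IrrCharacter G)] {Φ : G → ℂ} (hΦ : IsCharacter G Φ) :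
    ∃ m : IrrCharacter G → ℕ, (∀ η : IrrCharacter G, classInner Φ (η : G → ℂ) = (m η : ℂ)) ∧
      (∀ g : G, Φ g = ∑ η, (m η : ℂ) * (η : G → ℂ) g) ∧
      (∀ ψ : CC P → ℂ, IsCharacter (CC P) ψ → mult Φ ψ = ∑ η, m η * mult (η : G → ℂ) ψ) ∧
      deg Φ = ∑ η, m η * deg (η : G → ℂ) := by
  obtain ⟨m, hm, hm'⟩ := IsCharacter.exists_nat_decomp hΦ
  have hval : ∀ g : G, Φ g = ∑ η, (m η : ℂ) * (η : G → ℂ) g := fun g => by
    rw [congrFun hm g]
    simp [Finset.sum_apply]
  refine ⟨m, hm', hval, fun ψ hψ => ?_, ?_⟩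
  · refine mult_eq_of_classInner ?_
    push_cast
    simp only [← cast_mult (irr_isCharacter _) hψ, classInner, hval, Finset.sum_mul, Finset.mul_sum]
    rw [Finset.sum_comm]
    refine Finset.sum_congr rfl fun η _ => Finset.sum_congr rfl fun c _ => ?_
    ring
  · have h := hval 1
    rw [cast_deg hΦ] at h
    simp only [fun η : IrrCharacter G => cast_deg (irr_isCharacter η)] at h
    exact_mod_cast h

/-- A constituent seen by a given multiplicity. -/
theorem exists_constituent [Fintype (IrrCharacter G)] {Φ : G → ℂ} (hΦ : IsCharacter G Φ)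
    {ψ : CC P → ℂ} (hψ : IsCharacter (CC P) ψ) (h : 1 ≤ mult Φ ψ) :
    ∃ η : IrrCharacter G, deg (η : G → ℂ) ≤ deg Φ ∧ 1 ≤ mult (η : G → ℂ) ψ ∧
      ∀ ψ' : CC P → ℂ, IsCharacter (CC P) ψ' → mult (η : G → ℂ) ψ' ≤ mult Φ ψ' := by
  obtain ⟨m, -, -, hmult, hdeg⟩ := exists_decomp (P := P) hΦ
  rw [hmult ψ hψ] at h
  obtain ⟨η, -, hη⟩ := Finset.exists_ne_zero_of_sum_ne_zero (Nat.one_le_iff_ne_zero.1 h)
  obtain ⟨hm, hη'⟩ := mul_ne_zero_iff.1 hη
  have hm1 : 1 ≤ m η := Nat.one_le_iff_ne_zero.2 hm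
  refine ⟨η, ?_, Nat.one_le_iff_ne_zero.2 hη', fun ψ' hψ' => ?_⟩
  · rw [hdeg]
    exact le_trans (Nat.le_mul_of_pos_left _ hm1)
      (Finset.single_le_sum (f := fun ξ => m ξ * deg (ξ : G → ℂ)) (fun _ _ => Nat.zero_le _) (Finset.mem_univ η))
  · rw [hmult ψ' hψ']
    exact le_trans (Nat.le_mul_of_pos_left _ hm1)
      (Finset.single_le_sum (f := fun ξ => m ξ * mult (ξ : G → ℂ) ψ') (fun _ _ => Nat.zero_le _) (Finset.mem_univ η))

variable (hs : Star P)

include hs

theorem inIdx_pos : 0 < inIdx hs :=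
  Nat.div_pos (Nat.le_of_dvd Nat.card_pos (Subgroup.card_dvd_of_le CC_le_HH)) Nat.card_pos

theorem proj_surjective : Function.Surjective (proj hs) := fun u => ⟨incl hs u, proj_incl hs u⟩

theorem comm_P (a b : (P : Subgroup G)) : a * b = b * a :=
  Subtype.ext ((Subgroup.mem_centralizer_iff.1 (le_CC hs b.2)) _ a.2)

theorem dual_pow_card (ν : Dual P) : ν ^ Nat.card (P : Subgroup G) = 1 := by
  ext u
  rw [MonoidHom.pow_apply, ← map_pow, pow_card_eq_one', map_one, MonoidHom.one_apply]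

theorem incl_conjC (u : (P : Subgroup G)) (h : HH P) :
    conjC hs h (incl hs u) = incl hs (conjP hs h u) := Subtype.ext rfl

theorem tw_one_left (a : CC P → ℂ) : tw hs 1 a = a := by
  funext c
  simp [tw]

theorem cj_const (h : HH P) : cj hs h (fun _ => (1 : ℂ)) = fun _ => 1 := rfl

theorem eq_of_cj_eq {h : HH P} {a b : CC P → ℂ} (he : cj hs h a = cj hs h b) : a = b := by
  funext c
  obtain ⟨c', rfl⟩ := (conjC_bijective hs h).2 c
  exact congrFun he c'

/-- Without nontrivial twists the Sylow subgroup lies in the kernel. -/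
theorem ker_of_no_pos {η : G → ℂ} (hη : IsCharacter G η)
    (h : ∀ (ν : Dual P) (a : CC P → ℂ), IsBase hs a → ν ≠ 1 → f hs η ν a = 0)
    (u : (P : Subgroup G)) : η (u : G) = η 1 := by
  haveI := Fintype.ofFinite (IrrCharacter (CC P))
  have h1 := restrict_eq_sum (P := P) hη (incl hs u)
  have h2 := restrict_eq_sum (P := P) hη 1
  rw [OneMemClass.coe_one] at h2
  show η ((incl hs u : CC P) : G) = η 1
  rw [h1, h2]
  refine Finset.sum_congr rfl fun ψ _ => ?_
  obtain ⟨ν, a, ha, hψ⟩ := exists_eq_tw hs ψ.2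
  by_cases hν : ν = 1
  · have e := tw_incl_mul hs ν ha u 1
    rw [mul_one] at e
    rw [hψ, e, hν]
    simp
  · have := h ν a ha hν
    rw [f, ← hψ] at this
    rw [this]
    simp

variable [Fintype (HH P)]

omit hs in
/-- Multiplicities squared sum to the norm of the restriction. -/
theorem sum_sq_mult [Fintype (IrrCharacter (CC P))] {η : G → ℂ} (hη : IsCharacter G η) :
    (Nat.card (CC P) : ℝ) * (∑ ψ : IrrCharacter (CC P), mult η (ψ : CC P → ℂ) ^ 2 : ℕ)
      = ∑ c : CC P, Complex.normSq (η c) := by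
  have hfun : (fun c : CC P => η c)
      = ∑ ψ : IrrCharacter (CC P), (mult η (ψ : CC P → ℂ) : ℂ) • (ψ : CC P → ℂ) := by
    funext c
    rw [restrict_eq_sum hη c]
    simp [Finset.sum_apply]
  have h := classInner_sum_sum (G := CC P) (fun ψ => (mult η (ψ : CC P → ℂ) : ℂ))
    (fun ψ => (mult η (ψ : CC P → ℂ) : ℂ))
  rw [← hfun, classInner, inv_mul_eq_iff_eq_mul₀ natCard_ne_zero_complex] at h
  apply Complex.ofReal_injective
  push_cast
  simp only [Complex.normSq_eq_conj_mul_self, map_natCast, mul_comm (conj (η _))] at h ⊢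
  rw [h]
  congr 1
  exact Finset.sum_congr rfl fun ψ _ => by ring

/-- The restriction of an irreducible character has small norm. -/
theorem sum_sq_mult_le [Fintype (IrrCharacter (CC P))] (η : IrrCharacter G) :
    Nat.card (P : Subgroup G) * (∑ ψ : IrrCharacter (CC P), mult (η : G → ℂ) (ψ : CC P → ℂ) ^ 2)
      ≤ Nat.card (P : Subgroup G) * inIdx hs + deg (η : G → ℂ) ^ 2 := by
  classical
  set w : G → ℝ := fun g => Complex.normSq ((η : G → ℂ) g) with hw
  have hη := irr_isCharacter η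
  have htot : ∑ g, w g = (Nat.card G : ℝ) := by
    have h := IsIrrCharacter.classInner_self η.2
    rw [classInner, inv_mul_eq_iff_eq_mul₀ natCard_ne_zero_complex, mul_one] at h
    apply Complex.ofReal_injective
    push_cast
    rw [← h]
    exact Finset.sum_congr rfl fun g _ => by rw [hw, Complex.mul_conj]
  set S := Finset.univ.filter fun c : CC P => proj hs c ≠ 1 with hS
  set T := (Finset.univ : Finset G) ×ˢ S with hT
  have hfib : ∀ y : G, (T.filter fun q => q.1 * (q.2 : G) * q.1⁻¹ = y).card ≤ Nat.card (HH P) := by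
    intro y
    rcases (T.filter fun q => q.1 * (q.2 : G) * q.1⁻¹ = y).eq_empty_or_nonempty with h | ⟨q₀, hq₀⟩
    · rw [h]; simp
    obtain ⟨hq₀T, hq₀y⟩ := Finset.mem_filter.1 hq₀
    have hc₀ : proj hs q₀.2 ≠ 1 := (Finset.mem_filter.1 (Finset.mem_product.1 hq₀T).2).2
    refine le_trans (Finset.card_le_card_of_injOn (fun q => q₀.1⁻¹ * q.1)
      (t := Finset.univ.filter fun g : G => g ∈ HH P) (fun q hq => ?_) (fun q hq q' hq' he => ?_)) ?_
    · have hqy := (Finset.mem_filter.1 (Finset.mem_coe.1 hq)).2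
      refine Finset.mem_coe.2 (Finset.mem_filter.2 ⟨Finset.mem_univ _, ?_⟩)
      refine mem_HH_of_proj hs (c' := q.2) hc₀ ?_
      calc (q.2 : G) = q.1⁻¹ * (q.1 * q.2 * q.1⁻¹) * q.1 := by group
        _ = q.1⁻¹ * (q₀.1 * q₀.2 * q₀.1⁻¹) * q.1 := by rw [hqy, hq₀y]
        _ = _ := by group
    · have h1 : q.1 = q'.1 := mul_left_cancel he
      have h2 := ((Finset.mem_filter.1 (Finset.mem_coe.1 hq)).2).trans
        ((Finset.mem_filter.1 (Finset.mem_coe.1 hq')).2).symm
      rw [h1] at h2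
      exact Prod.ext h1 (Subtype.ext (mul_left_cancel (mul_right_cancel h2)))
    · rw [Nat.card_eq_fintype_card, Fintype.card_subtype]
  have hTI : (Nat.card G : ℝ) * ∑ c ∈ S, w (c : G) ≤ Nat.card (HH P) * (Nat.card G : ℝ) := by
    have e1 : ∑ q ∈ T, w (q.1 * (q.2 : G) * q.1⁻¹) = (Nat.card G : ℝ) * ∑ c ∈ S, w (c : G) := by
      rw [hT, Finset.sum_product, Nat.card_eq_fintype_card, ← Finset.card_univ, ← nsmul_eq_mul,
        ← Finset.sum_const]
      refine Finset.sum_congr rfl fun g _ => Finset.sum_congr rfl fun c _ => ?_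
      simp only [hw]
      rw [IsCharacter.conj_apply hη]
    rw [← e1, ← Finset.sum_fiberwise_of_maps_to (t := Finset.univ)
      (g := fun q : G × CC P => q.1 * (q.2 : G) * q.1⁻¹) (fun _ _ => Finset.mem_univ _),
      ← htot, Finset.mul_sum]
    refine Finset.sum_le_sum fun y _ => ?_
    rw [Finset.sum_congr rfl (g := fun _ => w y) fun q hq => by
      rw [(Finset.mem_filter.1 hq).2]]
    rw [Finset.sum_const, nsmul_eq_mul]
    exact mul_le_mul_of_nonneg_right (by exact_mod_cast hfib y) (Complex.normSq_nonneg _)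
  have hGpos : (0 : ℝ) < Nat.card G := by exact_mod_cast Nat.card_pos
  have hS' : ∑ c ∈ S, w (c : G) ≤ Nat.card (HH P) := by
    rw [mul_comm (Nat.card (HH P) : ℝ)] at hTI
    exact le_of_mul_le_mul_left hTI hGpos
  have hker : Nat.card (P : Subgroup G) * Nat.card (proj hs).ker = Nat.card (CC P) := by
    rw [mul_comm]
    have := (proj hs).ker.card_mul_index
    rwa [Subgroup.index_ker, MonoidHom.range_eq_top.2 (proj_surjective hs), Subgroup.card_top] at this
  have hO : ∑ c ∈ Finset.univ.filter (fun c : CC P => ¬ proj hs c ≠ 1), w (c : G)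
      ≤ (Nat.card (proj hs).ker : ℝ) * (deg (η : G → ℂ) : ℝ) ^ 2 := by
    refine le_trans (Finset.sum_le_card_nsmul _ _ ((deg (η : G → ℂ) : ℝ) ^ 2) fun c _ => ?_) ?_
    · simp only [hw]
      rw [Complex.normSq_eq_norm_sq]
      refine pow_le_pow_left₀ (norm_nonneg _) ?_ 2
      refine (IsCharacter.norm_le hη _).trans (le_of_eq ?_)
      rw [cast_deg hη, Complex.norm_natCast]
    · rw [nsmul_eq_mul]
      refine mul_le_mul_of_nonneg_right (le_of_eq ?_) (by positivity)
      rw [Nat.card_eq_fintype_card, ← Fintype.card_subtype]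
      exact_mod_cast Fintype.card_congr (Equiv.subtypeEquivRight fun c => by simp [MonoidHom.mem_ker])
  have hC := sum_sq_mult (P := P) hη
  rw [← Finset.sum_filter_add_sum_filter_not Finset.univ (fun c : CC P => proj hs c ≠ 1)] at hC
  have hH : (Nat.card (HH P) : ℝ) = inIdx hs * Nat.card (CC P) := by exact_mod_cast (inIdx_mul hs).symm
  have hk : (Nat.card (P : Subgroup G) : ℝ) * Nat.card (proj hs).ker = Nat.card (CC P) := by
    exact_mod_cast hker
  have hCpos : (0 : ℝ) < Nat.card (CC P) := by exact_mod_cast Nat.card_pos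
  set M := ∑ ψ : IrrCharacter (CC P), mult (η : G → ℂ) (ψ : CC P → ℂ) ^ 2 with hM
  have hb : (Nat.card (CC P) : ℝ) * M
      ≤ inIdx hs * Nat.card (CC P) + Nat.card (proj hs).ker * (deg (η : G → ℂ) : ℝ) ^ 2 := by
    rw [hC, ← hH]
    exact add_le_add hS' hO
  have hP0 : (0 : ℝ) ≤ Nat.card (P : Subgroup G) := Nat.cast_nonneg _
  have : (Nat.card (CC P) : ℝ) * ((Nat.card (P : Subgroup G) : ℝ) * M) ≤
      (Nat.card (CC P) : ℝ) * (Nat.card (P : Subgroup G) * inIdx hs + (deg (η : G → ℂ) : ℝ) ^ 2) := by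
    have h := mul_le_mul_of_nonneg_left hb hP0
    have e : (Nat.card (P : Subgroup G) : ℝ) * (Nat.card (proj hs).ker * (deg (η : G → ℂ) : ℝ) ^ 2)
        = Nat.card (CC P) * (deg (η : G → ℂ) : ℝ) ^ 2 := by rw [← mul_assoc, hk]
    nlinarith [h, e]
  exact_mod_cast le_of_mul_le_mul_left this hCpos

variable [Fintype (IrrCharacter G)] [Fintype (Dual P)]

/-- The positive twists of a small character form one orbit with multiplicity one. -/
theorem shape_pos {η : IrrCharacter G} (hsm : Small (P := P) (η : G → ℂ)) {a : CC P → ℂ}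
    (ha : IsBase hs a)
    (hcount : (pos hs (η : G → ℂ) a).card ≤ 1 ∨
      (pos hs (η : G → ℂ) a).card + inIdx hs + 1 < Nat.card (P : Subgroup G))
    {ν : Dual P} (hν : ν ≠ 1) (h1 : 1 ≤ f hs η ν a) :
    (∀ i ∈ orb hs ν a, f hs η i.1 i.2 = 1) ∧
      ∀ (μ : Dual P) (b : CC P → ℂ), IsBase hs b → μ ≠ 1 → 1 ≤ f hs η μ b → (μ, b) ∈ orb hs ν a := by
  have hη := irr_isCharacter η
  refine ⟨fun i hi => ?_, fun μ b hb hμ hμb => ?_⟩
  · obtain ⟨hi1, hi2, hc⟩ := orb_spec hs hν ha hi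
    rw [← f_eq_of_Cj hs hη hc]
    exact le_antisymm (f_le_one hs hsm ha hν) h1
  · obtain ⟨h, hh⟩ := base_conj hs hsm ha hb hν hμ h1 hμb
    have hc : Cj hs μ b (act hs h μ) a := ⟨h, by rw [cj_tw', hh]⟩
    have hμ' : act hs h μ ≠ 1 := act_ne_one hs hμ h
    have hmem1 : ν ∈ pos hs (η : G → ℂ) a := (mem_pos hs).2 ⟨hν, h1⟩
    have hmem2 : act hs h μ ∈ pos hs (η : G → ℂ) a :=
      (mem_pos hs).2 ⟨hμ', by rw [← f_eq_of_Cj hs hη hc]; exact hμb⟩
    have hcj : Cj hs ν a (act hs h μ) a := by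
      rcases hcount with h' | h'
      · rw [Finset.card_le_one.1 h' _ hmem2 _ hmem1]
        exact Cj.refl hs ν a
      · exact single_pos hs hsm ha h' hmem1 hmem2
    exact mem_orb_of_Cj hs ha hb (Cj.trans hs hcj (Cj.symm hs hc))

/-- The restriction is a single orbit when nothing else occurs. -/
theorem restrict_orb {η : IrrCharacter G} {a : CC P → ℂ} (ha : IsBase hs a) {ν : Dual P}
    (hν : ν ≠ 1) (hone : ∀ i ∈ orb hs ν a, f hs η i.1 i.2 = 1)
    (hall : ∀ (μ : Dual P) (b : CC P → ℂ), IsBase hs b → 1 ≤ f hs η μ b → (μ, b) ∈ orb hs ν a) :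
    (∀ c : CC P, (η : G → ℂ) c = ∑ i ∈ orb hs ν a, tw hs i.1 i.2 c) ∧
      deg (η : G → ℂ) = inIdx hs * deg a := by
  classical
  haveI := Fintype.ofFinite (IrrCharacter (CC P))
  have hirr : ∀ i : {i // i ∈ orb hs ν a}, IsIrrCharacter (CC P) (tw hs i.1.1 i.1.2) := fun i =>
    isIrr_tw hs _ (orb_spec hs hν ha i.2).2.1.1
  have hc : ∀ c : CC P, (η : G → ℂ) c = ∑ i ∈ orb hs ν a, tw hs i.1 i.2 c := by
    intro c
    rw [restrict_eq_sum (irr_isCharacter η) c,
      ← Finset.sum_subset (Finset.subset_univ ((orb hs ν a).attach.image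
        fun i => (⟨_, hirr i⟩ : IrrCharacter (CC P))))]
    · rw [Finset.sum_image, ← Finset.sum_attach (orb hs ν a)]
      · refine Finset.sum_congr rfl fun i _ => ?_
        show (mult (η : G → ℂ) (tw hs i.1.1 i.1.2) : ℂ) * _ = _
        rw [show mult (η : G → ℂ) (tw hs i.1.1 i.1.2) = 1 from hone i.1 i.2, Nat.cast_one, one_mul]
      · intro i _ j _ he
        obtain ⟨e1, e2⟩ := tw_injective hs (orb_spec hs hν ha i.2).2.1 (orb_spec hs hν ha j.2).2.1
          (congrArg Subtype.val he)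
        exact Subtype.ext (Prod.ext e1 e2)
    · intro ψ _ hψ
      obtain ⟨μ, b, hb, he⟩ := exists_eq_tw hs ψ.2
      have h0 : mult (η : G → ℂ) (ψ : CC P → ℂ) = 0 := by
        by_contra hne
        refine hψ (Finset.mem_image.2 ⟨⟨(μ, b), hall μ b hb ?_⟩, Finset.mem_attach _ _, Subtype.ext he.symm⟩)
        rw [f, ← he]
        exact Nat.one_le_iff_ne_zero.2 hne
      rw [h0, Nat.cast_zero, zero_mul]
  refine ⟨hc, ?_⟩
  have h := hc 1
  rw [OneMemClass.coe_one, cast_deg (irr_isCharacter η), Finset.sum_congr rfl (g := fun _ => (deg a : ℂ))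
    fun i hi => by
      obtain ⟨k, rfl⟩ := (mem_orb hs).1 hi
      rw [tw_apply_one, ← cast_deg (IsIrrCharacter.isCharacter ha.1)]
      show a (conjC hs k 1) = a 1
      rw [map_one], Finset.sum_const, card_orb hs hν ha, nsmul_eq_mul] at h
  exact_mod_cast h

/-- Small characters have no constituents trivial on the Sylow subgroup. -/
theorem no_fixed {η : IrrCharacter G}
    (hx : deg (η : G → ℂ) ^ 2 + 1 < Nat.card (P : Subgroup G)) {a : CC P → ℂ} (ha : IsBase hs a)
    {ν : Dual P} (hν : ν ≠ 1) (h1 : 1 ≤ f hs η ν a) :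
    (∀ i ∈ orb hs ν a, f hs η i.1 i.2 = 1) ∧
    (∀ (μ : Dual P) (b : CC P → ℂ), IsBase hs b → 1 ≤ f hs η μ b → (μ, b) ∈ orb hs ν a) ∧
    (∀ c : CC P, (η : G → ℂ) c = ∑ i ∈ orb hs ν a, tw hs i.1 i.2 c) ∧
      deg (η : G → ℂ) = inIdx hs * deg a := by
  classical
  have hd := deg_pos η.2
  have hsq : deg (η : G → ℂ) ≤ deg (η : G → ℂ) ^ 2 := Nat.le_self_pow (by norm_num) _
  have hsm : Small (P := P) (η : G → ℂ) := by unfold Small; omega
  have hpos := card_pos_le hs (irr_isCharacter η) ha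
  have hpos' : (pos hs (η : G → ℂ) a).card ≤ deg (η : G → ℂ) :=
    le_trans (Nat.le_mul_of_pos_right _ (deg_pos ha.1)) hpos
  have he : inIdx hs ≤ deg (η : G → ℂ) :=
    le_trans (Nat.le_mul_of_pos_right _ (deg_pos ha.1)) (pos_orbit_card hs ha hν h1)
  have hcount : (pos hs (η : G → ℂ) a).card ≤ 1 ∨
      (pos hs (η : G → ℂ) a).card + inIdx hs + 1 < Nat.card (P : Subgroup G) := by
    rcases Nat.lt_or_ge 1 (deg (η : G → ℂ)) with h | h
    · right
      have : 2 * deg (η : G → ℂ) ≤ deg (η : G → ℂ) ^ 2 := by rw [sq]; exact Nat.mul_le_mul_right _ h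
      omega
    · left; omega
  obtain ⟨hone, hall⟩ := shape_pos hs hsm ha hcount hν h1
  have hall' : ∀ (μ : Dual P) (b : CC P → ℂ), IsBase hs b → 1 ≤ f hs η μ b →
      (μ, b) ∈ orb hs ν a := by
    intro μ b hb hμb
    by_cases hμ : μ = 1
    · exfalso
      haveI := Fintype.ofFinite (IrrCharacter (CC P))
      have hle := sum_sq_mult_le hs η
      have hirr : ∀ i : {i // i ∈ insert (μ, b) (orb hs ν a)},
          IsIrrCharacter (CC P) (tw hs i.1.1 i.1.2) := fun i => by
        rcases Finset.mem_insert.1 i.2 with h | h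
        · rw [h]; exact isIrr_tw hs _ hb.1
        · exact isIrr_tw hs _ (orb_spec hs hν ha h).2.1.1
      have hbase : ∀ i : {i // i ∈ insert (μ, b) (orb hs ν a)}, IsBase hs i.1.2 := fun i => by
        rcases Finset.mem_insert.1 i.2 with h | h
        · rw [h]; exact hb
        · exact (orb_spec hs hν ha h).2.1
      have hnot : (μ, b) ∉ orb hs ν a := fun h => (orb_spec hs hν ha h).1 hμ
      have hcard : inIdx hs + 1 ≤ ∑ ψ : IrrCharacter (CC P), mult (η : G → ℂ) (ψ : CC P → ℂ) ^ 2 := by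
        refine le_trans ?_ (Finset.sum_le_sum_of_subset (Finset.subset_univ
          ((insert (μ, b) (orb hs ν a)).attach.image fun i => (⟨_, hirr i⟩ : IrrCharacter (CC P)))))
        rw [Finset.sum_image, ← card_orb hs hν ha, ← Finset.card_insert_of_notMem hnot,
          ← Finset.card_attach, Finset.card_eq_sum_ones]
        · refine Finset.sum_le_sum fun i _ => Nat.one_le_pow _ _ ?_
          show 1 ≤ f hs η i.1.1 i.1.2
          rcases Finset.mem_insert.1 i.2 with h | h
          · rw [h]; exact hμb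
          · exact (hone _ h).ge
        · intro i _ j _ e
          obtain ⟨e1, e2⟩ := tw_injective hs (hbase i) (hbase j) (congrArg Subtype.val e)
          exact Subtype.ext (Prod.ext e1 e2)
      have := Nat.mul_le_mul_left (Nat.card (P : Subgroup G)) hcard
      rw [Nat.mul_add, mul_one] at this
      omega
    · exact hall μ b hb hμ hμb
  exact ⟨hone, hall', restrict_orb hs ha hν hone hall'⟩

/-- The characters in an orbit. -/
noncomputable def lam (ν : Dual P) : Finset (Dual P) :=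
  open Classical in Finset.univ.image fun h : HH P => act hs h ν

theorem mem_lam {ν μ : Dual P} : μ ∈ lam hs ν ↔ ∃ h : HH P, μ = act hs h ν := by
  classical
  simp [lam, eq_comm]

theorem self_mem_lam (ν : Dual P) : ν ∈ lam hs ν := (mem_lam hs).2 ⟨1, (act_one hs ν).symm⟩

theorem fst_mem_lam {ν : Dual P} {a : CC P → ℂ} {i : Idx P} (hi : i ∈ orb hs ν a) :
    i.1 ∈ lam hs ν := by
  obtain ⟨h, rfl⟩ := (mem_orb hs).1 hi
  exact (mem_lam hs).2 ⟨h, rfl⟩

theorem card_lam {ν : Dual P} (hν : ν ≠ 1) : (lam hs ν).card = inIdx hs := by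
  classical
  rw [← card_orb hs hν (isBase_one hs), ← Finset.card_image_of_injOn (orb_fst_injOn hs hν (isBase_one hs))]
  congr 1
  ext μ
  simp [mem_lam, mem_orb]

theorem lam_disjoint {ν μ : Dual P} (hμ : μ ∉ lam hs ν) {x : Dual P} (hx : x ∈ lam hs ν)
    (hx' : x ∈ lam hs μ) : False := by
  obtain ⟨h, rfl⟩ := (mem_lam hs).1 hx
  obtain ⟨k, hk⟩ := (mem_lam hs).1 hx'
  refine hμ ((mem_lam hs).2 ⟨k⁻¹ * h, ?_⟩)
  rw [act_mul, hk, ← act_mul, inv_mul_cancel, act_one]

/-- Inner products of a product of twisted base characters. -/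
theorem classInner_tw_tw {ν d : Dual P} {A b : CC P → ℂ}
    (hA : ∀ (u : (P : Subgroup G)) (c : CC P), A (incl hs u * c) = A c) (hb : IsBase hs b)
    [Decidable (ν = d)] :
    classInner (tw hs ν A) (tw hs d b) = if ν = d then classInner A b else 0 := by
  split_ifs with e
  · subst e
    simp only [classInner, tw, map_mul]
    congr 1
    refine Finset.sum_congr rfl fun c _ => ?_
    rw [conj_dual_apply, MonoidHom.inv_apply]
    have : ((ν (proj hs c) : ℂˣ) : ℂ) * (((ν (proj hs c))⁻¹ : ℂˣ) : ℂ) = 1 := Units.mul_inv _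
    linear_combination A c * conj (b c) * this
  · obtain ⟨u, hu⟩ : ∃ u, ν u ≠ d u := by
      by_contra hall
      push Not at hall
      exact e (MonoidHom.ext hall)
    rw [classInner, mul_eq_zero]
    right
    set F : CC P → ℂ := fun c => tw hs ν A c * conj (tw hs d b c) with hF
    have hmul : ∀ c, F (incl hs u * c) = (ν u : ℂ) * ((d⁻¹) u : ℂˣ) * F c := by
      intro c
      simp only [hF]
      rw [tw_incl_mul hs d hb, map_mul, conj_dual_apply]
      simp only [tw, map_mul, proj_incl, Units.val_mul, hA]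
      ring
    have hsum : ∑ c, F c = (ν u : ℂ) * ((d⁻¹) u : ℂˣ) * ∑ c, F c := by
      rw [Finset.mul_sum]
      simp only [← hmul]
      exact (Fintype.sum_equiv (Equiv.mulLeft (incl hs u)) _ _ fun c => rfl).symm
    by_contra hne
    refine hu ?_
    have h1 : ((ν u : ℂˣ) : ℂ) * ((d⁻¹) u : ℂˣ) = 1 :=
      mul_right_cancel₀ hne (by rw [one_mul]; exact hsum.symm)
    rw [← Units.val_mul, Units.val_eq_one, MonoidHom.inv_apply, mul_inv_eq_one] at h1
    exact h1

omit hs in
/-- The ratio of the twists of a pair. -/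
noncomputable def ratio (q : Idx P × Idx P) : Dual P := q.1.1 * q.2.1⁻¹

/-- Inner products of a product with known restrictions. -/
theorem classInner_prod {η ζ : G → ℂ} {s t : Finset (Idx P)}
    (hs1 : ∀ i ∈ s, IsBase hs i.2) (ht1 : ∀ i ∈ t, IsBase hs i.2)
    (hη : ∀ c : CC P, η c = ∑ i ∈ s, tw hs i.1 i.2 c)
    (hζ : ∀ c : CC P, ζ c = ∑ i ∈ t, tw hs i.1 i.2 c) (d : Dual P) {b : CC P → ℂ}
    (hb : IsBase hs b) [DecidableEq (Dual P)] :
    classInner (fun c : CC P => η c * conj (ζ c)) (tw hs d b)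
      = ∑ q ∈ (s ×ˢ t).filter (fun q => ratio q = d),
          classInner (fun c => q.1.2 c * conj (q.2.2 c)) b := by
  have hfun : (fun c : CC P => η c * conj (ζ c))
      = ∑ q ∈ s ×ˢ t, tw hs (ratio q) (fun c => q.1.2 c * conj (q.2.2 c)) := by
    funext c
    rw [Finset.sum_apply, Finset.sum_product, hη, hζ, map_sum, Finset.sum_mul_sum]
    refine Finset.sum_congr rfl fun i _ => Finset.sum_congr rfl fun j _ => ?_
    simp only [tw, ratio, map_mul, MonoidHom.mul_apply, Units.val_mul, conj_dual_apply]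
    ring
  rw [hfun, classInner_sum_left, Finset.sum_filter]
  refine Finset.sum_congr rfl fun q hq => ?_
  obtain ⟨hq1, hq2⟩ := Finset.mem_product.1 hq
  exact classInner_tw_tw hs (fun u c => by rw [(hs1 _ hq1).2, (ht1 _ hq2).2]) hb

theorem mult_prod_one {η ζ : G → ℂ} {s t : Finset (Idx P)}
    (hs1 : ∀ i ∈ s, IsBase hs i.2) (ht1 : ∀ i ∈ t, IsBase hs i.2)
    (hη : ∀ c : CC P, η c = ∑ i ∈ s, tw hs i.1 i.2 c)
    (hζ : ∀ c : CC P, ζ c = ∑ i ∈ t, tw hs i.1 i.2 c) (d : Dual P)
    [DecidableEq (Dual P)] [DecidableEq (CC P → ℂ)] :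
    f hs (fun g => η g * conj (ζ g)) d (fun _ => 1)
      = ((s ×ˢ t).filter (fun q => ratio q = d ∧ q.1.2 = q.2.2)).card := by
  refine mult_eq_of_classInner ?_
  rw [classInner_prod hs hs1 ht1 hη hζ d (isBase_one hs), Finset.card_filter, Nat.cast_sum,
    Finset.sum_filter]
  refine Finset.sum_congr rfl fun q hq => ?_
  obtain ⟨hq1, hq2⟩ := Finset.mem_product.1 hq
  by_cases h1 : ratio q = d
  · rw [if_pos h1]
    have e : classInner (fun c => q.1.2 c * conj (q.2.2 c)) (fun _ : CC P => (1 : ℂ))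
        = classInner q.1.2 q.2.2 := by simp [classInner]
    rw [e]
    by_cases h2 : q.1.2 = q.2.2
    · rw [if_pos ⟨h1, h2⟩, h2, IsIrrCharacter.classInner_self (ht1 _ hq2).1, Nat.cast_one]
    · rw [if_neg (fun h => h2 h.2), IsIrrCharacter.classInner_ne (hs1 _ hq1).1 (ht1 _ hq2).1 h2,
        Nat.cast_zero]
  · rw [if_neg h1, if_neg (fun h => h1 h.1), Nat.cast_zero]

theorem mult_prod_zero {η ζ : G → ℂ} {s t : Finset (Idx P)}
    (hs1 : ∀ i ∈ s, IsBase hs i.2) (ht1 : ∀ i ∈ t, IsBase hs i.2)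
    (hη : ∀ c : CC P, η c = ∑ i ∈ s, tw hs i.1 i.2 c)
    (hζ : ∀ c : CC P, ζ c = ∑ i ∈ t, tw hs i.1 i.2 c) {d : Dual P}
    {b : CC P → ℂ} (hb : IsBase hs b) [DecidableEq (Dual P)]
    (h0 : ∀ i ∈ s, ∀ j ∈ t, i.1 * j.1⁻¹ = d → classInner (fun c => i.2 c * conj (j.2 c)) b = 0) :
    f hs (fun g => η g * conj (ζ g)) d b = 0 := by
  refine mult_eq_of_classInner ?_
  rw [classInner_prod hs hs1 ht1 hη hζ d hb, Nat.cast_zero]
  refine Finset.sum_eq_zero fun q hq => ?_
  obtain ⟨hq', hd⟩ := Finset.mem_filter.1 hq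
  exact h0 _ (Finset.mem_product.1 hq').1 _ (Finset.mem_product.1 hq').2 hd

theorem mul_conj_linear {a : CC P → ℂ} (ha : IsBase hs a) (h1 : a 1 = 1) (c : CC P) :
    a c * conj (a c) = 1 := by
  obtain ⟨l, rfl⟩ := IsCharacter.exists_hom_of_apply_one (IsIrrCharacter.isCharacter ha.1) h1
  have hn : ‖((l c : ℂˣ) : ℂ)‖ = 1 := by
    refine norm_eq_one_of_pow_eq_one' (n := Nat.card (CC P)) Nat.card_pos.ne' ?_
    rw [← Units.val_pow_eq_pow_val, ← map_pow, pow_card_eq_one', map_one, Units.val_one]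
  rw [Complex.mul_conj, Complex.normSq_eq_norm_sq, hn]
  simp

end Cfsg.Agent.Lib.InvChar.SmallTI
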