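import Mathlib
import Cfsg.Prelude
import Cfsg.Agent.Lib.InvChar.SmallTIShape

/-!
# The Sylow subgroup of a group with a small faithful character is normal
-/

set_option autoImplicit false
set_option linter.unusedSectionVars false
set_option linter.style.haveILetI false

namespace Cfsg.Agent.Lib.InvChar.SmallTI

open Cfsg Cfsg.Agent.Lib.Characters
open scoped ComplexConjugate

universe u

variable {G : Type u} [Group G] [Fintype G] {p : ℕ} [Fact p.Prime] {P : Sylow p G}
variable [Fintype (CC P)] [Fintype (HH P)] [Fintype (IrrCharacter G)] [Fintype (Dual P)]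
variable (hs : Star P)

include hs

omit hs in
theorem dual_mul_inv {x y : Dual P} : x * y⁻¹ = 1 ↔ x = y := mul_inv_eq_one (a := x) (b := y)

omit hs in
theorem dual_cancel (x y : Dual P) : x * (x * y⁻¹)⁻¹ = y := by
  ext u
  simp only [MonoidHom.mul_apply, MonoidHom.inv_apply]
  rw [mul_inv_rev, inv_inv, mul_comm (y u), mul_inv_cancel_left]

omit hs in
theorem isCharacter_prod {η ζ : G → ℂ} (hη : IsCharacter G η) (hζ : IsCharacter G ζ) :
    IsCharacter G (fun g => η g * conj (ζ g)) :=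
  IsCharacter.mul hη (IsCharacter.conjugate hζ)

omit hs in
theorem deg_prod {η ζ : G → ℂ} (hη : IsCharacter G η) (hζ : IsCharacter G ζ) :
    deg (fun g => η g * conj (ζ g)) = deg η * deg ζ := by
  have h := cast_deg (isCharacter_prod hη hζ)
  rw [cast_deg hη, cast_deg hζ, map_natCast] at h
  exact_mod_cast h.symm

theorem exists_outside {ν : Dual P} (hν : ν ≠ 1) (he : inIdx hs + 1 < Nat.card (P : Subgroup G)) :
    ∃ μ : Dual P, μ ≠ 1 ∧ μ ∉ lam hs ν := by
  classical
  by_contra hall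
  push Not at hall
  have h : (Finset.univ : Finset (Dual P)).card ≤ (insert 1 (lam hs ν)).card := by
    refine Finset.card_le_card fun μ _ => ?_
    by_cases h : μ = 1
    · exact Finset.mem_insert.2 (Or.inl h)
    · exact Finset.mem_insert.2 (Or.inr (hall μ h))
  rw [Finset.card_univ, ← Nat.card_eq_fintype_card, card_dual_P hs] at h
  have := h.trans (Finset.card_insert_le _ _)
  rw [card_lam hs hν] at this
  omega

/-- The partner of a small character outside its orbit. -/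
theorem exists_other {η : IrrCharacter G} (hx : deg (η : G → ℂ) ^ 2 + 1 < Nat.card (P : Subgroup G))
    {a : CC P → ℂ} (ha : IsBase hs a) {ν μ : Dual P} (hν : ν ≠ 1) (h1 : 1 ≤ f hs η ν a)
    (hμ : μ ≠ 1) (hout : μ ∉ lam hs ν) :
    ∃ ζ : IrrCharacter G, deg (ζ : G → ℂ) = deg (η : G → ℂ) ∧
      ∀ c : CC P, (ζ : G → ℂ) c = ∑ i ∈ orb hs μ a, tw hs i.1 i.2 c := by
  obtain ⟨-, hall, -, -⟩ := no_fixed hs hx ha hν h1
  have hz : f hs η μ a = 0 := by
    by_contra h
    exact hout (fst_mem_lam hs (hall μ a ha (Nat.one_le_iff_ne_zero.2 h)))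
  have hn : ¬ Cj hs ν a μ a := fun hc => hout (fst_mem_lam hs (mem_orb_of_Cj hs ha ha hc))
  obtain ⟨-, ζ, -, eζ, dζ, -⟩ := exists_partner hs ha hν hμ hn (η := η) (by rw [dvec_eq, hz]; omega)
  have hμ1 : 1 ≤ f hs ζ μ a := by rw [dvec_eq] at eζ; omega
  exact ⟨ζ, dζ, (no_fixed hs (by rw [dζ]; exact hx) ha hμ hμ1).2.2.1⟩

/-- Normalizing the base character of a small character. -/
theorem exists_linear_shape {η : IrrCharacter G}
    (hx : deg (η : G → ℂ) ^ 2 + 1 < Nat.card (P : Subgroup G)) {a : CC P → ℂ} (ha : IsBase hs a)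
    {ν : Dual P} (hν : ν ≠ 1) (h1 : 1 ≤ f hs η ν a) (he : 2 ≤ inIdx hs) :
    ∃ (χ : IrrCharacter G) (l : Dual P) (a₀ : CC P → ℂ), IsBase hs a₀ ∧ a₀ 1 = 1 ∧
      (∀ h : HH P, cj hs h a₀ = a₀) ∧ l ≠ 1 ∧ 1 ≤ f hs χ l a₀ ∧
      deg (χ : G → ℂ) = inIdx hs ∧ inIdx hs ^ 2 + 1 < Nat.card (P : Subgroup G) := by
  classical
  obtain ⟨hone, hall, hres, hdeg⟩ := no_fixed hs hx ha hν h1
  set e := inIdx hs with hedef
  have hda := deg_pos ha.1
  have hesq : e ^ 2 + 1 < Nat.card (P : Subgroup G) := by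
    have : e ^ 2 ≤ deg (η : G → ℂ) ^ 2 :=
      Nat.pow_le_pow_left (by rw [hdeg]; exact Nat.le_mul_of_pos_right _ hda) 2
    omega
  by_cases hlin : deg a = 1 ∧ ∀ h : HH P, cj hs h a = a
  · refine ⟨η, ν, a, ha, ?_, hlin.2, hν, h1, ?_, hesq⟩
    · rw [cast_deg (IsIrrCharacter.isCharacter ha.1), hlin.1, Nat.cast_one]
    · rw [hdeg, hlin.1, mul_one]
  have he1 : e + 1 < Nat.card (P : Subgroup G) := by
    have := Nat.le_self_pow (two_ne_zero) e
    omega
  obtain ⟨μ, hμ1, hout⟩ := exists_outside hs hν he1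
  obtain ⟨ζ, dζ, hresζ⟩ := exists_other hs hx ha hν h1 hμ1 hout
  set Φ := fun g => (η : G → ℂ) g * conj ((ζ : G → ℂ) g) with hΦdef
  have hΦ : IsCharacter G Φ := isCharacter_prod (irr_isCharacter η) (irr_isCharacter ζ)
  have hb1 : ∀ i ∈ orb hs ν a, IsBase hs i.2 := fun i hi => (orb_spec hs hν ha hi).2.1
  have hb2 : ∀ i ∈ orb hs μ a, IsBase hs i.2 := fun i hi => (orb_spec hs hμ1 ha hi).2.1
  set d₀ := ν * μ⁻¹ with hd₀
  have hd1 : d₀ ≠ 1 := by
    rw [hd₀, Ne, dual_mul_inv]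
    rintro rfl
    exact hout (self_mem_lam hs _)
  have hfΦ : 1 ≤ f hs Φ d₀ (fun _ => 1) := by
    rw [mult_prod_one hs hb1 hb2 hres hresζ]
    exact Finset.card_pos.2 ⟨((ν, a), (μ, a)), Finset.mem_filter.2
      ⟨Finset.mem_product.2 ⟨self_mem_orb hs ν a, self_mem_orb hs μ a⟩, rfl, rfl⟩⟩
  obtain ⟨θ, dθ, hθ1, hθle⟩ := exists_constituent hΦ
    (IsIrrCharacter.isCharacter (isIrr_tw hs d₀ (isBase_one hs).1)) hfΦ
  have hfix : ∀ b, IsBase hs b → f hs θ 1 b = 0 := by
    intro b hb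
    refine Nat.le_zero.1 ((hθle _ (IsIrrCharacter.isCharacter (isIrr_tw hs 1 hb.1))).trans
      (le_of_eq ?_))
    refine mult_prod_zero hs hb1 hb2 hres hresζ hb fun i hi j hj hij => ?_
    rw [dual_mul_inv] at hij
    exact (lam_disjoint hs hout (fst_mem_lam hs hi) (hij ▸ fst_mem_lam hs hj)).elim
  rw [deg_prod (irr_isCharacter η) (irr_isCharacter ζ), dζ, ← sq] at dθ
  have hsm : Small (P := P) (θ : G → ℂ) := by unfold Small; omega
  set prs := (orb hs ν a ×ˢ orb hs μ a).filter (fun q => q.1.2 = q.2.2) with hprs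
  have hpos : (pos hs (θ : G → ℂ) (fun _ => 1)).card ≤ prs.card := by
    refine le_trans (Finset.card_le_card ?_) (Finset.card_image_le (f := ratio))
    intro d hd
    obtain ⟨hd', hfd⟩ := (mem_pos hs).1 hd
    have hge : 1 ≤ f hs Φ d (fun _ => 1) :=
      le_trans hfd (hθle _ (IsIrrCharacter.isCharacter (isIrr_tw hs d (isBase_one hs).1)))
    rw [mult_prod_one hs hb1 hb2 hres hresζ] at hge
    obtain ⟨q, hq⟩ := Finset.card_pos.1 hge
    obtain ⟨hq1, hq2, hq3⟩ := Finset.mem_filter.1 hq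
    exact Finset.mem_image.2 ⟨q, Finset.mem_filter.2 ⟨hq1, hq3⟩, hq2⟩
  have hprs2 : prs.card + e + 1 < Nat.card (P : Subgroup G) := by
    have hle : prs.card ≤ e * e := by
      refine le_trans (Finset.card_filter_le _ _) (le_of_eq ?_)
      rw [Finset.card_product, card_orb hs hν ha, card_orb hs hμ1 ha]
    rcases Nat.lt_or_ge 1 (deg a) with hda2 | hda2
    · have hh : (e * 2) ^ 2 ≤ deg (η : G → ℂ) ^ 2 :=
        Nat.pow_le_pow_left (by rw [hdeg]; exact Nat.mul_le_mul_left _ hda2) 2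
      rw [mul_pow, sq e] at hh
      nlinarith
    · have hda1 : deg a = 1 := by omega
      have hni : ∀ i ∈ orb hs ν a, ∃ j ∈ orb hs μ a, i.2 ≠ j.2 := by
        intro i hi
        by_contra hall'
        push Not at hall'
        refine hlin ⟨hda1, fun h => ?_⟩
        have e1 := hall' _ ((mem_orb hs).2 ⟨h, rfl⟩ : (act hs h μ, cj hs h a) ∈ orb hs μ a)
        have e2 := hall' _ (self_mem_orb hs μ a)
        exact e1.symm.trans e2
      have hsum : prs.card = ∑ i ∈ orb hs ν a, ((orb hs μ a).filter fun j => i.2 = j.2).card := by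
        rw [hprs, Finset.card_filter, Finset.sum_product]
        refine Finset.sum_congr rfl fun i _ => ?_
        rw [Finset.card_filter]
      have hrow : ∀ i ∈ orb hs ν a, ((orb hs μ a).filter fun j => i.2 = j.2).card + 1 ≤ e := by
        intro i hi
        obtain ⟨j, hj, hne⟩ := hni i hi
        rw [hedef, ← card_orb hs hμ1 ha, Nat.add_one_le_iff]
        refine Finset.card_lt_card (Finset.filter_ssubset.2 ⟨j, hj, hne⟩)
      have h2 := Finset.sum_le_card_nsmul (orb hs ν a)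
        (fun i => ((orb hs μ a).filter fun j => i.2 = j.2).card + 1) e hrow
      rw [Finset.sum_add_distrib, ← hsum, Finset.sum_const, smul_eq_mul, smul_eq_mul, mul_one,
        card_orb hs hν ha] at h2
      rw [sq] at hesq
      simp only [← hedef] at *
      omega
  obtain ⟨hone', hall''⟩ := shape_pos hs hsm (isBase_one hs) (Or.inr (by omega)) hd1 hθ1
  obtain ⟨-, hdθ⟩ := restrict_orb hs (isBase_one hs) hd1 hone' (fun m b hb hmb => by
    by_cases hm : m = 1
    · subst hm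
      rw [hfix b hb] at hmb
      omega
    · exact hall'' m b hb hm hmb)
  refine ⟨θ, d₀, fun _ => 1, isBase_one hs, rfl, cj_const hs, hd1, hθ1, ?_, hesq⟩
  rw [hdθ]
  simp [deg, hedef]

/-- The key contradiction. -/
theorem false_of_linear (hgen : ∀ K : Subgroup G, K.Normal → (P : Subgroup G) ≤ K → K = ⊤)
    {χ : IrrCharacter G} {l : Dual P} {a₀ : CC P → ℂ} (ha₀ : IsBase hs a₀) (ha1 : a₀ 1 = 1)
    (hinv : ∀ h : HH P, cj hs h a₀ = a₀) (hl : l ≠ 1) (hfl : 1 ≤ f hs χ l a₀)
    (hdeg : deg (χ : G → ℂ) = inIdx hs) (hesq : inIdx hs ^ 2 + 1 < Nat.card (P : Subgroup G))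
    (he2 : 2 ≤ inIdx hs) : False := by
  classical
  set e := inIdx hs with hedef
  have hxχ : deg (χ : G → ℂ) ^ 2 + 1 < Nat.card (P : Subgroup G) := by rw [hdeg]; exact hesq
  obtain ⟨-, -, hres, -⟩ := no_fixed hs hxχ ha₀ hl hfl
  have hsnd : ∀ {x : Dual P} {i : Idx P}, i ∈ orb hs x a₀ → i.2 = a₀ := by
    intro x i hi
    obtain ⟨h, rfl⟩ := (mem_orb hs).1 hi
    exact hinv h
  have hmemorb : ∀ {x y : Dual P}, y ∈ lam hs x → (y, a₀) ∈ orb hs x a₀ := by
    intro x y hy
    obtain ⟨h, rfl⟩ := (mem_lam hs).1 hy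
    exact (mem_orb hs).2 ⟨h, by rw [hinv h]⟩
  have hbχ : ∀ i ∈ orb hs l a₀, IsBase hs i.2 := fun i hi => (orb_spec hs hl ha₀ hi).2.1
  have hχ := irr_isCharacter χ
  set Φ := fun g => (χ : G → ℂ) g * conj ((χ : G → ℂ) g) with hΦdef
  have hΦ : IsCharacter G Φ := isCharacter_prod hχ hχ
  obtain ⟨m, hm, -, hmult, hdΦ⟩ := exists_decomp (P := P) hΦ
  have hdΦ' : deg Φ = e * e := by rw [deg_prod hχ hχ, hdeg]
  -- trivial twist
  have hfix : f hs Φ 1 (fun _ => 1) = e := by
    rw [mult_prod_one hs hbχ hbχ hres hres, hedef, ← card_orb hs hl ha₀, ← Finset.diag_card (orb hs l a₀)]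
    congr 1
    ext ⟨i, j⟩
    simp only [Finset.mem_filter, Finset.mem_product, Finset.mem_diag, ratio, dual_mul_inv]
    constructor
    · rintro ⟨⟨hi, hj⟩, h1, h2⟩
      exact ⟨hi, Prod.ext h1 h2⟩
    · rintro ⟨hi, rfl⟩
      exact ⟨⟨hi, hi⟩, rfl, rfl⟩
  have htriv : m (trivIrr G) = 1 := by
    have h := hm (trivIrr G)
    have e1 : classInner Φ ((trivIrr G : IrrCharacter G) : G → ℂ) = classInner (χ : G → ℂ) (χ : G → ℂ) := by
      simp [classInner, hΦdef, trivIrr]
    rw [e1, IsIrrCharacter.classInner_self χ.2] at h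
    exact_mod_cast h.symm
  have htriv' : f hs ((trivIrr G : IrrCharacter G) : G → ℂ) 1 (fun _ => 1) = 1 := by
    refine mult_eq_of_classInner ?_
    rw [tw_one_left, Nat.cast_one]
    exact IsIrrCharacter.classInner_self isIrrCharacter_one
  have hbase : IsCharacter (CC P) (tw hs 1 (fun _ => (1 : ℂ))) :=
    IsIrrCharacter.isCharacter (isIrr_tw hs 1 (isBase_one hs).1)
  obtain ⟨θ, hθne, hmθ, hθ1⟩ : ∃ θ : IrrCharacter G, θ ≠ trivIrr G ∧ 1 ≤ m θ ∧
      1 ≤ f hs θ 1 (fun _ => 1) := by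
    by_contra hall
    push Not at hall
    have h := hmult _ hbase
    rw [Finset.sum_eq_single (trivIrr G) (fun η _ hη => by
      rcases Nat.eq_zero_or_pos (m η) with h0 | h0
      · rw [h0, zero_mul]
      · have := hall η hη h0
        rw [f] at this
        rw [Nat.lt_one_iff.1 this, mul_zero]) (fun h => absurd (Finset.mem_univ _) h), htriv] at h
    change f hs Φ 1 (fun _ => 1) = 1 * f hs ((trivIrr G : IrrCharacter G) : G → ℂ) 1 (fun _ => 1) at h
    rw [hfix, htriv'] at h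
    omega
  have hθ := irr_isCharacter θ
  have hθle : ∀ (x : Dual P) (b : CC P → ℂ), IsBase hs b → f hs θ x b ≤ f hs Φ x b := by
    intro x b hb
    rw [f, f, hmult _ (IsIrrCharacter.isCharacter (isIrr_tw hs x hb.1))]
    exact le_trans (Nat.le_mul_of_pos_left _ hmθ) (Finset.single_le_sum
      (f := fun η : IrrCharacter G => m η * mult (η : G → ℂ) (tw hs x b))
      (fun _ _ => Nat.zero_le _) (Finset.mem_univ θ))
  have hdθ : deg (θ : G → ℂ) ≤ e * e := by
    rw [← hdΦ', hdΦ]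
    exact le_trans (Nat.le_mul_of_pos_left _ hmθ) (Finset.single_le_sum
      (f := fun η : IrrCharacter G => m η * deg (η : G → ℂ)) (fun _ _ => Nat.zero_le _)
      (Finset.mem_univ θ))
  rw [sq] at hesq
  have hsm : Small (P := P) (θ : G → ℂ) := by unfold Small; omega
  -- only the trivial base occurs
  have hbb : ∀ (x : Dual P) (b : CC P → ℂ), IsBase hs b → 1 ≤ f hs θ x b → b = fun _ => 1 := by
    intro x b hb hxb
    by_contra hne
    have h0 : f hs Φ x b = 0 := by
      refine mult_prod_zero hs hbχ hbχ hres hres hb fun i hi j hj _ => ?_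
      rw [hsnd hi, hsnd hj]
      simp only [mul_conj_linear hs ha₀ ha1]
      exact IsIrrCharacter.classInner_ne isIrrCharacter_one hb.1 (Ne.symm hne)
    have := hθle x b hb
    omega
  have hcount : (pos hs (θ : G → ℂ) (fun _ => 1)).card + e + 1 < Nat.card (P : Subgroup G) := by
    have hle : (pos hs (θ : G → ℂ) (fun _ => 1)).card ≤ (orb hs l a₀).offDiag.card := by
      refine le_trans (Finset.card_le_card ?_) (Finset.card_image_le (f := ratio))
      intro x hx
      obtain ⟨hx', hfx⟩ := (mem_pos hs).1 hx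
      have hge : 1 ≤ f hs Φ x (fun _ => 1) := le_trans hfx (hθle x _ (isBase_one hs))
      rw [mult_prod_one hs hbχ hbχ hres hres] at hge
      obtain ⟨q, hq⟩ := Finset.card_pos.1 hge
      obtain ⟨hq1, hq2, -⟩ := Finset.mem_filter.1 hq
      refine Finset.mem_image.2 ⟨q, Finset.mem_offDiag.2 ⟨(Finset.mem_product.1 hq1).1,
        (Finset.mem_product.1 hq1).2, fun h => hx' ?_⟩, hq2⟩
      rw [← hq2, ratio, h]
      exact dual_mul_inv.2 rfl
    rw [Finset.offDiag_card, card_orb hs hl ha₀] at hle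
    have : e ≤ e * e := Nat.le_mul_self e
    simp only [← hedef] at *
    omega
  -- a positive twist exists
  obtain ⟨d, hd1, hfd⟩ : ∃ d : Dual P, d ≠ 1 ∧ 1 ≤ f hs θ d (fun _ => 1) := by
    by_contra hall
    push Not at hall
    have hker : (P : Subgroup G) ≤ charKernel hθ := by
      intro u hu
      rw [mem_charKernel]
      refine ker_of_no_pos hs hθ (fun x b hb hx => ?_) ⟨u, hu⟩
      by_contra hne
      have hge := Nat.one_le_iff_ne_zero.2 hne
      have := hbb x b hb hge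
      subst this
      have := hall x hx
      omega
    have htop := hgen _ (charKernel_normal hθ) hker
    obtain ⟨g, hg⟩ := IsIrrCharacter.exists_ne_apply_one θ.2 (fun h => hθne (Subtype.ext h))
    exact hg ((mem_charKernel hθ).1 (htop ▸ Subgroup.mem_top g))
  obtain ⟨hone, hall⟩ := shape_pos hs hsm (isBase_one hs) (Or.inr hcount) hd1 hfd
  -- main combinatorial restriction
  have hclaim : ∀ x : Dual P, x ≠ 1 → 1 ≤ f hs θ x (fun _ => 1) → ∀ y ∈ lam hs l,
      y * x⁻¹ ∈ lam hs l ∨ y * x⁻¹ = 1 := by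
    intro x hx hfx y hy
    by_contra hno
    push Not at hno
    obtain ⟨hout, hμ1⟩ := hno
    set μ := y * x⁻¹ with hμ
    obtain ⟨ζ, dζ, hresζ⟩ := exists_other hs hxχ ha₀ hl hfl hμ1 hout
    set Ψ := fun g => (χ : G → ℂ) g * conj ((ζ : G → ℂ) g) with hΨdef
    have hΨ : IsCharacter G Ψ := isCharacter_prod hχ (irr_isCharacter ζ)
    have hbζ : ∀ i ∈ orb hs μ a₀, IsBase hs i.2 := fun i hi => (orb_spec hs hμ1 ha₀ hi).2.1
    have hΨx : 1 ≤ f hs Ψ x (fun _ => 1) := by
      rw [mult_prod_one hs hbχ hbζ hres hresζ]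
      refine Finset.card_pos.2 ⟨((y, a₀), (μ, a₀)), Finset.mem_filter.2
        ⟨Finset.mem_product.2 ⟨hmemorb hy, self_mem_orb hs μ a₀⟩, ?_, rfl⟩⟩
      show y * μ⁻¹ = x
      exact dual_cancel y x
    have hψc : IsCharacter (CC P) (tw hs x (fun _ => (1 : ℂ))) :=
      IsIrrCharacter.isCharacter (isIrr_tw hs x (isBase_one hs).1)
    obtain ⟨ω, dω, hωx, hωle⟩ := exists_constituent hΨ hψc hΨx
    have hω1 : f hs ω 1 (fun _ => 1) = 0 := by
      refine Nat.le_zero.1 ((hωle _ hbase).trans (le_of_eq ?_))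
      refine mult_prod_zero hs hbχ hbζ hres hresζ (isBase_one hs) fun i hi j hj hij => ?_
      rw [dual_mul_inv] at hij
      exact (lam_disjoint hs hout (fst_mem_lam hs hi) (hij ▸ fst_mem_lam hs hj)).elim
    have hne : θ ≠ ω := by
      intro h
      rw [h, hω1] at hθ1
      omega
    have hsmω : Small (P := P) (ω : G → ℂ) := by
      rw [deg_prod hχ (irr_isCharacter ζ), dζ, hdeg] at dω
      unfold Small; omega
    obtain ⟨z, hz1, hz⟩ := exists_zero hs hsmω (isBase_one hs)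
    have hθz : f hs θ z (fun _ => 1) = 0 := by
      by_contra h
      have hc := single_pos hs hsm (isBase_one hs) hcount ((mem_pos hs).2 ⟨hx, hfx⟩)
        ((mem_pos hs).2 ⟨hz1, Nat.one_le_iff_ne_zero.2 h⟩)
      have := f_eq_of_Cj hs (irr_isCharacter ω) hc
      rw [hz] at this
      change 1 ≤ f hs (ω : G → ℂ) x (fun _ => 1) at hωx
      omega
    exact hne (eq_of_common hs hsm hsmω (isBase_one hs) hx hz1 hfx hωx hθz hz)
  -- the orbit of the positive twist
  have hlam : ∀ x ∈ lam hs d, x ≠ 1 ∧ 1 ≤ f hs θ x (fun _ => 1) := by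
    intro x hx
    obtain ⟨h, rfl⟩ := (mem_lam hs).1 hx
    refine ⟨act_ne_one hs hd1 h, le_of_le_of_eq hfd (f_eq_of_Cj hs hθ ⟨h, ?_⟩)⟩
    rw [cj_tw', cj_const]
  have hdl : d ∈ lam hs l := by
    by_contra hnot
    have hmap : ∀ y ∈ lam hs l, y * d⁻¹ ∈ lam hs l := by
      intro y hy
      refine (hclaim d hd1 hfd y hy).resolve_right fun h => hnot ?_
      rw [dual_mul_inv] at h
      rwa [← h]
    have himg : (lam hs l).image (fun y => y * d⁻¹) = lam hs l :=
      Finset.eq_of_subset_of_card_le (Finset.image_subset_iff.2 hmap)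
        (by rw [Finset.card_image_of_injective _ (mul_left_injective _)])
    have hprod : ∏ y ∈ lam hs l, y * d⁻¹ = ∏ y ∈ lam hs l, y := by
      conv_rhs => rw [← himg, Finset.prod_image fun a _ b _ h => mul_right_cancel h]
    rw [Finset.prod_mul_distrib, Finset.prod_const, mul_eq_left, card_lam hs hl] at hprod
    have hprod' : d ^ inIdx hs = 1 := inv_eq_one.1 ((inv_pow d _).symm.trans hprod)
    have hk : d ^ Nat.card (P : Subgroup G) = 1 := dual_pow_card hs d
    have hcop : (inIdx hs).Coprime (Nat.card (P : Subgroup G)) := by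
      rw [card_P hs]
      exact Nat.Coprime.pow_right _ (inIdx_coprime hs)
    have := (pow_gcd_eq_one (M := Dual P) (a := d)).2 ⟨hprod', hk⟩
    rw [hcop, pow_one] at this
    exact hd1 this
  have hposl : ∀ x ∈ lam hs l, x ≠ 1 ∧ 1 ≤ f hs θ x (fun _ => 1) := by
    intro x hx
    refine hlam x ?_
    obtain ⟨h, rfl⟩ := (mem_lam hs).1 hx
    obtain ⟨k, rfl⟩ := (mem_lam hs).1 hdl
    exact (mem_lam hs).2 ⟨h * k⁻¹, by rw [← act_mul, inv_mul_cancel_right]⟩
  set S := insert (1 : Dual P) (lam hs l) with hS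
  have hdiv : ∀ s ∈ S, ∀ t ∈ S, s * t⁻¹ ∈ S := by
    have hmem : ∀ y ∈ lam hs l, ∀ x ∈ lam hs l, y * x⁻¹ ∈ S := fun y hy x hx =>
      (hclaim x (hposl x hx).1 (hposl x hx).2 y hy).elim (fun h => Finset.mem_insert_of_mem h)
        (fun h => Finset.mem_insert.2 (Or.inl h))
    intro s hs' t ht
    rcases Finset.mem_insert.1 ht with rfl | ht
    · rwa [show s * (1 : Dual P)⁻¹ = s from (congrArg (s * ·) (inv_one (G := Dual P))).trans (mul_one s)]
    rcases Finset.mem_insert.1 hs' with rfl | hs'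
    · rw [show (1 : Dual P) * t⁻¹ = t⁻¹ from one_mul (M := Dual P) _]
      obtain ⟨y, hy, hyt⟩ : ∃ y ∈ lam hs l, y ≠ t := by
        refine Finset.exists_mem_ne ?_ t
        rw [card_lam hs hl]; omega
      rcases Finset.mem_insert.1 (hmem y hy t ht) with h | h
      · exact absurd (dual_mul_inv.1 h) hyt
      · have := hmem _ h y hy
        rwa [show y * t⁻¹ * y⁻¹ = t⁻¹ from (congrArg (· * y⁻¹) (mul_comm y t⁻¹)).trans (mul_inv_cancel_right (G := Dual P) _ _)] at this
    · exact hmem s hs' t ht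
  let SG : Subgroup (Dual P) := Subgroup.ofDiv (S : Set (Dual P)) ⟨1, by simp [hS]⟩
    (fun s hs' t ht => hdiv s hs' t ht)
  haveI : Finite (Dual P) := finite_dual_P hs
  have hcardS : Nat.card SG ≤ e + 1 := by
    show Nat.card (↥(S : Set (Dual P))) ≤ e + 1
    rw [Nat.card_coe_set_eq, Set.ncard_coe_finset]
    exact (Finset.card_insert_le _ _).trans (le_of_eq (by rw [card_lam hs hl]))
  obtain ⟨u, hu1, hu⟩ : ∃ u : (P : Subgroup G), u ≠ 1 ∧ ∀ s ∈ SG, s u = 1 := by
    by_contra hno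
    push Not at hno
    haveI : NeZero (Monoid.exponent SG) := ⟨Monoid.exponent_ne_zero_of_finite⟩
    have hinj : Function.Injective fun u : (P : Subgroup G) =>
        ({ toFun := fun s => (s : Dual P) u, map_one' := rfl, map_mul' := fun _ _ => rfl } : SG →* ℂˣ) := by
      intro u v huv
      by_contra hne
      obtain ⟨s, hs', hne'⟩ := hno (u * v⁻¹) (fun h => hne (mul_inv_eq_one.1 h))
      refine hne' ?_
      have := DFunLike.congr_fun huv ⟨s, hs'⟩
      simp only [MonoidHom.coe_mk, OneHom.coe_mk] at this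
      rw [map_mul, map_inv, this, mul_inv_cancel]
    haveI : Finite (SG →* ℂˣ) := Nat.finite_of_card_ne_zero (by
      rw [CommGroup.card_monoidHom_of_hasEnoughRootsOfUnity SG ℂ]; exact Nat.card_pos.ne')
    have := Nat.card_le_card_of_injective _ hinj
    rw [CommGroup.card_monoidHom_of_hasEnoughRootsOfUnity SG ℂ] at this
    omega
  have hlamd : ∀ x ∈ lam hs d, x ∈ lam hs l := by
    intro x hx
    obtain ⟨h, rfl⟩ := (mem_lam hs).1 hx
    obtain ⟨k, rfl⟩ := (mem_lam hs).1 hdl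
    exact (mem_lam hs).2 ⟨h * k, (act_mul hs h k l).symm⟩
  have huN : (θ : G → ℂ) (u : G) = (θ : G → ℂ) 1 := by
    haveI := Fintype.ofFinite (IrrCharacter (CC P))
    have h1 := restrict_eq_sum (P := P) hθ (incl hs u)
    have h2 := restrict_eq_sum (P := P) hθ 1
    rw [OneMemClass.coe_one] at h2
    show (θ : G → ℂ) ((incl hs u : CC P) : G) = _
    rw [h1, h2]
    refine Finset.sum_congr rfl fun ψ _ => ?_
    obtain ⟨x, b, hb, hψ⟩ := exists_eq_tw hs ψ.2
    rcases Nat.eq_zero_or_pos (mult (θ : G → ℂ) (ψ : CC P → ℂ)) with h0 | h0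
    · rw [h0]; simp
    · have hx : 1 ≤ f hs θ x b := by rw [f, ← hψ]; exact h0
      have hxu : x u = 1 := by
        by_cases hx1 : x = 1
        · rw [hx1]; rfl
        · refine hu x (Finset.mem_insert_of_mem (hlamd x (fst_mem_lam hs (hall x b hb hx1 hx))))
      have e1 := tw_incl_mul hs x hb u 1
      rw [mul_one, hxu, Units.val_one, one_mul] at e1
      rw [hψ, e1]
  -- the Frattini argument
  set N := charKernel hθ with hN
  haveI hNn : N.Normal := charKernel_normal hθ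
  have huN' : (u : G) ∈ N := huN
  have hu1' : (u : G) ≠ 1 := fun h => hu1 (Subtype.ext h)
  obtain ⟨Q, hQu⟩ : ∃ Q : Sylow p N, (⟨(u : G), huN'⟩ : N) ∈ Q := by
    have hp' : IsPGroup p (Subgroup.zpowers (⟨(u : G), huN'⟩ : N)) := by
      rintro ⟨z, hz⟩
      obtain ⟨i, rfl⟩ := Subgroup.mem_zpowers_iff.1 hz
      obtain ⟨k, hk⟩ := P.isPGroup' u
      refine ⟨k, Subtype.ext (Subtype.ext ?_)⟩
      show ((u : G) ^ i) ^ p ^ k = 1
      have hk' : (u : G) ^ p ^ k = 1 := congrArg Subtype.val hk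
      rw [← zpow_natCast, ← zpow_mul, mul_comm, zpow_mul, zpow_natCast, hk', one_zpow]
    obtain ⟨Q, hQ⟩ := hp'.exists_le_sylow
    exact ⟨Q, hQ (Subgroup.mem_zpowers _)⟩
  have hQG : IsPGroup p ((Q : Subgroup N).map N.subtype) := Q.isPGroup'.map _
  obtain ⟨R, hR⟩ := hQG.exists_le_sylow
  obtain ⟨g, hg⟩ := MulAction.exists_smul_eq G P R
  have hconj : ∀ z : G, z ∈ (R : Subgroup G) → g⁻¹ * z * g ∈ (P : Subgroup G) := by
    intro z hz
    rw [← hg, ← SetLike.mem_coe] at hz
    obtain ⟨w, hw, rfl⟩ := hz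
    simp only [SetLike.mem_coe] at hw ⊢
    simpa [mul_assoc] using hw
  have hgH : g ∈ HH P := mem_HH_of_conj hs u.2 hu1'
    (hconj _ (hR (Subgroup.mem_map.2 ⟨_, hQu, rfl⟩)))
  have hQP : ∀ z : N, z ∈ (Q : Subgroup N) → (z : G) ∈ (P : Subgroup G) := by
    intro z hz
    have := hconj _ (hR (Subgroup.mem_map.2 ⟨z, hz, rfl⟩))
    have := (Subgroup.mem_normalizer_iff.1 hgH _).1 this
    simpa [mul_assoc] using this
  have hnorm : Subgroup.normalizer (((Q : Subgroup N).map N.subtype : Subgroup G) : Set G) ≤ HH P := by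
    intro k hk
    have h1 : k⁻¹ * (u : G) * k ∈ ((Q : Subgroup N).map N.subtype : Subgroup G) := by
      have := (Subgroup.mem_normalizer_iff.1 ((Subgroup.normalizer _).inv_mem hk) (u : G)).1
        (Subgroup.mem_map.2 ⟨_, hQu, rfl⟩)
      simpa using this
    obtain ⟨z, hz, hz'⟩ := Subgroup.mem_map.1 h1
    exact mem_HH_of_conj hs u.2 hu1' (hz' ▸ hQP z hz)
  have hsup : HH P ⊔ N = ⊤ := by
    refine top_le_iff.1 ?_
    rw [← Sylow.normalizer_sup_eq_top Q]
    exact sup_le_sup_right hnorm _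
  have hK : (N ⊔ (P : Subgroup G)).Normal := by
    refine Subgroup.normalizer_eq_top_iff.1 (top_le_iff.1 ?_)
    rw [← hsup]
    refine sup_le (fun k hk => ?_) ((le_sup_left : N ≤ N ⊔ (P : Subgroup G)).trans Subgroup.le_normalizer)
    have key : ∀ k' ∈ HH P, ∀ z ∈ N ⊔ (P : Subgroup G), k' * z * k'⁻¹ ∈ N ⊔ (P : Subgroup G) := by
      intro k' hk' z hz
      obtain ⟨y, hy, w, hw, rfl⟩ := Subgroup.mem_sup_of_normal_left.1 hz
      rw [show k' * (y * w) * k'⁻¹ = (k' * y * k'⁻¹) * (k' * w * k'⁻¹) by group]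
      exact Subgroup.mul_mem_sup (hNn.conj_mem y hy k') ((Subgroup.mem_normalizer_iff.1 hk' w).1 hw)
    rw [Subgroup.mem_normalizer_iff]
    refine fun z => ⟨key k hk z, fun hz => ?_⟩
    have := key k⁻¹ ((HH P).inv_mem hk) _ hz
    simpa [mul_assoc] using this
  have htop := hgen _ hK le_sup_right
  obtain ⟨ψ, hψ, hψθ⟩ := IsIrrCharacter.exists_quotient θ.2 N (fun n hn => hn)
  have hsur : Function.Surjective ((QuotientGroup.mk' N).comp (P : Subgroup G).subtype) := by
    intro q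
    obtain ⟨z, rfl⟩ := QuotientGroup.mk'_surjective N q
    obtain ⟨y, hy, w, hw, rfl⟩ := Subgroup.mem_sup_of_normal_left.1 (htop ▸ Subgroup.mem_top z)
    refine ⟨⟨w, hw⟩, ?_⟩
    rw [map_mul, show QuotientGroup.mk' N y = 1 from (QuotientGroup.eq_one_iff y).2 hy, one_mul]
    rfl
  have hcomm : ∀ x y : G ⧸ N, x * y = y * x := by
    intro x y
    obtain ⟨x', rfl⟩ := hsur x
    obtain ⟨y', rfl⟩ := hsur y
    rw [← map_mul, ← map_mul, comm_P hs]
  have hd1' : deg (θ : G → ℂ) = 1 := by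
    have h := IsIrrCharacter.apply_one_of_comm hcomm hψ
    have h' : (θ : G → ℂ) 1 = 1 := by rw [hψθ]; show ψ (QuotientGroup.mk' N 1) = 1; rw [map_one, h]
    rw [deg, h']
    simp
  have := pos_orbit_card hs (isBase_one hs) hd1 hfd
  rw [hd1'] at this
  have h2 : deg (fun _ : CC P => (1 : ℂ)) = 1 := by simp [deg]
  rw [h2, mul_one, ← hedef] at this
  omega

end Cfsg.Agent.Lib.InvChar.SmallTI
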