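import Mathlib
import Cfsg.Prelude
import Cfsg.Agent.Lib.InvChar.SmallTIMain

/-!
# The induction for small faithful characters
-/

set_option autoImplicit false
set_option linter.unusedSectionVars false
set_option linter.style.haveILetI false

namespace Cfsg.Agent.Lib.InvChar.SmallTI

open Cfsg Cfsg.Agent.Lib.Characters
open scoped ComplexConjugate

universe u

variable {p : ℕ} [Fact p.Prime]

/-- With inertial index one the Sylow subgroup acts by scalars on small characters. -/
theorem commute_of_inIdx_one {G : Type u} [Group G] [Fintype G] {P : Sylow p G} [Fintype (CC P)]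
    [Fintype (HH P)] [Fintype (IrrCharacter G)] [Fintype (Dual P)] (hs : Star P) (he : inIdx hs = 1)
    {η : IrrCharacter G} (hx : deg (η : G → ℂ) ^ 2 + 1 < Nat.card (P : Subgroup G))
    (u : (P : Subgroup G)) (g : G) :
    (η : G → ℂ) ((u : G) * g * ((u : G))⁻¹ * g⁻¹) = (η : G → ℂ) 1 := by
  classical
  have hη := irr_isCharacter η
  by_cases h : ∀ (ν : Dual P) (a : CC P → ℂ), IsBase hs a → ν ≠ 1 → f hs η ν a = 0
  · have hu : (u : G) ∈ charKernel hη := ker_of_no_pos hs hη h u
    refine (mem_charKernel hη).1 ?_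
    rw [show (u : G) * g * ((u : G))⁻¹ * g⁻¹ = (u : G) * (g * ((u : G))⁻¹ * g⁻¹) by group]
    exact (charKernel hη).mul_mem hu ((charKernel_normal hη).conj_mem _ ((charKernel hη).inv_mem hu) g)
  push Not at h
  obtain ⟨ν, a, ha, hν, h1⟩ := h
  obtain ⟨-, -, hres, -⟩ := no_fixed hs hx ha hν (Nat.one_le_iff_ne_zero.2 h1)
  have horb : orb hs ν a = {(ν, a)} := by
    obtain ⟨x, hx'⟩ := Finset.card_eq_one.1 ((card_orb hs hν ha).trans he)
    rw [hx', Finset.singleton_inj]
    have := self_mem_orb hs ν a
    rw [hx', Finset.mem_singleton] at this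
    exact this.symm
  obtain ⟨n, ρ, hρ, hρη⟩ := η.2
  set σ : Representation ℂ (CC P) (Fin n → ℂ) := ρ.comp (CC P).subtype with hσ
  have hσc : σ.character = tw hs ν a := by
    funext c
    show ρ.character (c : G) = _
    rw [hρη, hres c, horb, Finset.sum_singleton]
  haveI : σ.IsIrreducible := isIrreducible_of_isIrrCharacter σ (by rw [hσc]; exact isIrr_tw hs ν ha.1)
  obtain ⟨z, hz⟩ := exists_smul_of_commute σ (σ (incl hs u)) fun c => by
    rw [← map_mul, ← map_mul]
    congr 1
    exact Subtype.ext (Subgroup.mem_centralizer_iff.1 c.2 _ u.2)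
  have hρu : ρ (u : G) = z • LinearMap.id := hz
  have hcomm : ρ ((u : G) * g) = ρ (g * (u : G)) := by
    rw [map_mul, map_mul, hρu]
    ext v
    simp
  rw [← hρη]
  rw [show (u : G) * g * ((u : G))⁻¹ * g⁻¹ = ((u : G) * g) * (g * (u : G))⁻¹ by group]
  show LinearMap.trace ℂ _ (ρ _) = LinearMap.trace ℂ _ (ρ 1)
  rw [map_mul, hcomm, ← map_mul, mul_inv_cancel]

theorem normal_aux (N : ℕ) : ∀ {G : Type u} [Group G] [Finite G] (P : Sylow p G), Nat.card G ≤ N →
    Star P → ∀ χ : G → ℂ, IsCharacter G χ → (∀ g : G, χ g = χ 1 → g = 1) →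
      deg χ ^ 2 + 1 < Nat.card (P : Subgroup G) → (P : Subgroup G).Normal := by
  induction N with
  | zero =>
    intro G _ _ P hN
    exact absurd hN (Nat.not_le.2 Nat.card_pos)
  | succ N IH =>
    intro G _ _ P hN hs χ hχ hfaith hdeg
    classical
    by_contra hnn
    haveI := Fintype.ofFinite G
    haveI := Fintype.ofFinite (CC P)
    haveI := Fintype.ofFinite (HH P)
    haveI := Fintype.ofFinite (IrrCharacter G)
    haveI : Finite (Dual P) := finite_dual_P hs
    haveI := Fintype.ofFinite (Dual P)
    have hgen : ∀ K : Subgroup G, K.Normal → (P : Subgroup G) ≤ K → K = ⊤ := by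
      intro K hK hPK
      by_contra hne
      refine hnn ?_
      have hcard : Nat.card K ≤ N := by
        have hlt : Nat.card K < Nat.card G := lt_of_le_of_ne (Subgroup.card_le_card_group K)
          fun h => hne ((Subgroup.card_eq_iff_eq_top K).1 h)
        omega
      set PK := P.subtype hPK with hPKdef
      have hmem : ∀ y : K, y ∈ (PK : Subgroup K) ↔ (y : G) ∈ (P : Subgroup G) :=
        fun y => Subgroup.mem_subgroupOf
      have hsK : Star PK := by
        intro x hx hx1
        ext y
        have h1 : y ∈ CC PK ↔ (y : G) ∈ CC P := by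
          simp only [Subgroup.mem_centralizer_iff, SetLike.mem_coe]
          refine ⟨fun h z hz => congrArg Subtype.val (h ⟨z, hPK hz⟩ ((hmem _).2 hz)),
            fun h z hz => Subtype.ext (h _ ((hmem _).1 hz))⟩
        rw [h1, ← hs _ ((hmem _).1 hx) (fun h => hx1 (Subtype.ext h))]
        simp only [Subgroup.mem_centralizer_iff, Set.mem_singleton_iff, forall_eq]
        exact ⟨fun h => congrArg Subtype.val h, fun h => Subtype.ext h⟩
      have hcardP : Nat.card (PK : Subgroup K) = Nat.card (P : Subgroup G) :=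
        Nat.card_congr (Subgroup.subgroupOfEquivOfLe hPK).toEquiv
      have hn := IH PK hcard hsK (fun k : K => χ k) (IsCharacter.restrict hχ K)
        (fun k hk => Subtype.ext (hfaith _ hk)) (by rw [hcardP]; exact hdeg)
      haveI := Sylow.characteristic_of_normal PK hn
      haveI := hK
      have hmap : ((PK : Subgroup K).map K.subtype).Normal := inferInstance
      have heq : (PK : Subgroup K).map K.subtype = (P : Subgroup G) :=
        Subgroup.map_subgroupOf_eq_of_le hPK
      rwa [heq] at hmap
    obtain ⟨m, -, hval, -, hdsum⟩ := exists_decomp (P := P) hχ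
    have hd_le : ∀ η : IrrCharacter G, 1 ≤ m η → deg (η : G → ℂ) ≤ deg χ := fun η h => by
      rw [hdsum]
      exact le_trans (Nat.le_mul_of_pos_left _ h)
        (Finset.single_le_sum (f := fun ξ => m ξ * deg (ξ : G → ℂ)) (fun _ _ => Nat.zero_le _)
          (Finset.mem_univ η))
    have hsmall : ∀ η : IrrCharacter G, 1 ≤ m η →
        deg (η : G → ℂ) ^ 2 + 1 < Nat.card (P : Subgroup G) := fun η h => by
      have := Nat.pow_le_pow_left (hd_le η h) 2
      omega
    rcases Nat.lt_or_ge 1 (inIdx hs) with he | he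
    · obtain ⟨η, hmη, ν, a, ha, hν, h1⟩ : ∃ η : IrrCharacter G, 1 ≤ m η ∧ ∃ (ν : Dual P)
          (a : CC P → ℂ), IsBase hs a ∧ ν ≠ 1 ∧ 1 ≤ f hs η ν a := by
        by_contra hall
        push Not at hall
        refine hnn ?_
        have hbot : (P : Subgroup G) = ⊥ := by
          rw [Subgroup.eq_bot_iff_forall]
          intro u hu
          refine hfaith u ?_
          rw [hval u, hval 1]
          refine Finset.sum_congr rfl fun η _ => ?_
          rcases Nat.eq_zero_or_pos (m η) with h | h
          · rw [h]; simp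
          · rw [ker_of_no_pos hs (irr_isCharacter η) (fun ν a ha hν =>
              Nat.lt_one_iff.1 (hall η h ν a ha hν)) ⟨u, hu⟩]
        rw [hbot]
        infer_instance
      obtain ⟨χ₀, l, a₀, ha₀, ha1, hinv, hl, hfl, hdl, hesq⟩ :=
        exists_linear_shape hs (hsmall η hmη) ha hν h1 he
      exact false_of_linear hs hgen ha₀ ha1 hinv hl hfl hdl hesq he
    · have he1 : inIdx hs = 1 := le_antisymm he (inIdx_pos hs)
      refine hnn ⟨fun u hu g => ?_⟩
      have hc : (u : G) * g * u⁻¹ * g⁻¹ = 1 := by
        refine hfaith _ ?_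
        rw [hval _, hval 1]
        refine Finset.sum_congr rfl fun η _ => ?_
        rcases Nat.eq_zero_or_pos (m η) with h | h
        · rw [h]; simp
        · rw [commute_of_inIdx_one hs he1 (hsmall η h) ⟨u, hu⟩ g]
      have : g * u * g⁻¹ = u := by
        rw [mul_inv_eq_one, mul_inv_eq_iff_eq_mul] at hc
        rw [mul_inv_eq_iff_eq_mul]
        exact hc.symm
      rw [this]
      exact hu

/-- The main theorem. -/
theorem normal_of_small_faithful {G : Type u} [Group G] [Finite G] (P : Sylow p G) (hs : Star P)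
    {χ : G → ℂ} (hχ : IsCharacter G χ) (hfaith : ∀ g : G, χ g = χ 1 → g = 1)
    (hdeg : deg χ ^ 2 + 1 < Nat.card (P : Subgroup G)) : (P : Subgroup G).Normal :=
  normal_aux _ P le_rfl hs χ hχ hfaith hdeg

end Cfsg.Agent.Lib.InvChar.SmallTI
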