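import Mathlib
import Cfsg.Prelude
import Cfsg.Agent.Lib.Characters

/-!
# Characters supported on two classes
-/

set_option autoImplicit false
set_option linter.unusedSectionVars false
set_option linter.style.haveILetI false

namespace Cfsg.Agent.Lib.InvChar.TwoClassChar

open Cfsg Cfsg.Agent.Lib.Characters
open scoped ComplexConjugate

universe u

variable {G : Type u} [Group G] [Finite G]

/-- The support hypothesis. -/
def TwoClasses (χ : IrrCharacter G) : Prop :=
  Nat.card {C : ConjClasses G // ∃ g ∈ C.carrier, (χ : G → ℂ) g ≠ 0} = 2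

theorem exists_other_class {χ : IrrCharacter G} (hχ : TwoClasses χ) :
    ∃ x : G, x ≠ 1 ∧ (χ : G → ℂ) x ≠ 0 ∧ ∀ g : G, (χ : G → ℂ) g ≠ 0 → g = 1 ∨ IsConj x g := by
  classical
  have h1 : (χ : G → ℂ) 1 ≠ 0 := IsIrrCharacter.apply_one_ne_zero χ.2
  set one : {C : ConjClasses G // ∃ g ∈ C.carrier, (χ : G → ℂ) g ≠ 0} :=
    ⟨ConjClasses.mk 1, 1, ConjClasses.mem_carrier_mk, h1⟩
  obtain ⟨⟨C, x, hxC, hx0⟩, hne, huniq⟩ := (Nat.card_eq_two_iff' one).1 hχ
  have hxm : ConjClasses.mk x = C := ConjClasses.mem_carrier_iff_mk_eq.1 hxC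
  refine ⟨x, fun h => hne (Subtype.ext ?_), hx0, fun g hg => ?_⟩
  · show C = ConjClasses.mk 1
    rw [← hxm, h]
  · by_cases hg1 : g = 1
    · exact Or.inl hg1
    · right
      set cg : {C : ConjClasses G // ∃ g ∈ C.carrier, (χ : G → ℂ) g ≠ 0} :=
        ⟨ConjClasses.mk g, g, ConjClasses.mem_carrier_mk, hg⟩
      have hcg : cg ≠ one := fun h => hg1 (isConj_one_left.1
        (ConjClasses.mk_eq_mk_iff_isConj.1 (congrArg Subtype.val h)))
      have := congrArg Subtype.val (huniq cg hcg)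
      exact ConjClasses.mk_eq_mk_iff_isConj.1 (hxm.trans this.symm)

/-- The main structure theorem. -/
theorem structure_thm (hG : 2 < Nat.card G) {χ : IrrCharacter G} (hχ : TwoClasses χ) :
    (∀ g : G, (χ : G → ℂ) g = (χ : G → ℂ) 1 → g = 1) ∧
    (∀ ψ : IrrCharacter G, (∀ g : G, (ψ : G → ℂ) g = (ψ : G → ℂ) 1 → g = 1) → ψ = χ) ∧
    ∃ N : Subgroup G, N.Normal ∧ N ≠ ⊥ ∧ (∀ K : Subgroup G, K.Normal → K ≠ ⊥ → N ≤ K) ∧
      (∃ p : ℕ, p.Prime ∧ IsElementaryAbelian p N) ∧
      (∀ g : G, (χ : G → ℂ) g ≠ 0 ↔ g ∈ N) ∧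
      (∀ x ∈ N, ∀ y ∈ N, x ≠ 1 → y ≠ 1 → ∃ g : G, g * x * g⁻¹ = y) := by
  classical
  haveI := Fintype.ofFinite G
  haveI := Fintype.ofFinite (IrrCharacter G)
  obtain ⟨x, hx1, hx0, hsupp⟩ := exists_other_class hχ
  have hcl := irr_isClassFunction χ
  have hval : ∀ g, IsConj x g → (χ : G → ℂ) g = (χ : G → ℂ) x := fun g hg => by
    obtain ⟨c, rfl⟩ := isConj_iff.1 hg
    exact hcl x c
  set S := Finset.univ.filter fun g : G => IsConj x g with hS
  have hxS : x ∈ S := Finset.mem_filter.2 ⟨Finset.mem_univ _, IsConj.refl _⟩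
  have h1S : (1 : G) ∉ S := fun h =>
    hx1 (isConj_one_left.1 (Finset.mem_filter.1 h).2)
  have hsum : ∀ φ : IrrCharacter G, classInner (χ : G → ℂ) (φ : G → ℂ) * (Nat.card G : ℂ)
      = (χ : G → ℂ) 1 * conj ((φ : G → ℂ) 1)
        + (S.card : ℂ) * ((χ : G → ℂ) x * conj ((φ : G → ℂ) x)) := by
    intro φ
    rw [classInner, mul_comm, ← mul_assoc, mul_inv_cancel₀ natCard_ne_zero_complex, one_mul,
      ← Finset.sum_subset (Finset.subset_univ (insert 1 S))]
    · rw [Finset.sum_insert h1S, Finset.sum_congr rfl (g := fun _ => (χ : G → ℂ) x * conj ((φ : G → ℂ) x))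
        fun g hg => ?_, Finset.sum_const, nsmul_eq_mul]
      have hg' := (Finset.mem_filter.1 hg).2
      obtain ⟨c, rfl⟩ := isConj_iff.1 hg'
      rw [hcl x c, irr_isClassFunction φ x c]
    · intro g _ hg
      by_contra hne
      rcases hsupp g (left_ne_zero_of_mul hne) with h | h
      · exact hg (Finset.mem_insert.2 (Or.inl h))
      · exact hg (Finset.mem_insert_of_mem (Finset.mem_filter.2 ⟨Finset.mem_univ _, h⟩))
  have hS0 : (S.card : ℂ) ≠ 0 := Nat.cast_ne_zero.2 (Finset.card_ne_zero.2 ⟨x, hxS⟩)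
  have hχ1 : (χ : G → ℂ) 1 ≠ 0 := IsIrrCharacter.apply_one_ne_zero χ.2
  have hne1 : χ ≠ trivIrr G := by
    intro h
    have hall : ∀ g : G, g = 1 ∨ IsConj x g := fun g => hsupp g (by rw [h]; exact one_ne_zero)
    have h2 : S.card + 1 = Nat.card G := by
      rw [Nat.card_eq_fintype_card, ← Finset.card_univ, ← Finset.card_insert_of_notMem h1S]
      congr 1
      ext g
      simp only [Finset.mem_insert, Finset.mem_univ, iff_true]
      exact (hall g).imp id fun h => Finset.mem_filter.2 ⟨Finset.mem_univ _, h⟩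
    have h3 := hsum (trivIrr G)
    rw [h, IsIrrCharacter.classInner_self (trivIrr G).2] at h3
    obtain ⟨c, hc⟩ : S.card ∣ Nat.card G := by
      have e1 := card_conj_eq_index x
      have e2 : S.card = Nat.card {g : G // IsConj x g} := by
        rw [Nat.card_eq_fintype_card, Fintype.card_subtype]
      rw [e2]
      rw [show Nat.card {g : G // IsConj x g} = (Subgroup.centralizer ({x} : Set G)).index from e1]
      exact Subgroup.index_dvd_card _
    have : S.card = 1 := by
      have hd : S.card ∣ 1 := (Nat.dvd_add_right dvd_rfl).1 (h2 ▸ ⟨c, hc⟩)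
      exact Nat.dvd_one.1 hd
    omega
  have h1eq : (χ : G → ℂ) 1 + (S.card : ℂ) * (χ : G → ℂ) x = 0 := by
    have h := hsum (trivIrr G)
    rw [IsIrrCharacter.classInner_ne χ.2 (trivIrr G).2 (fun e => hne1 (Subtype.ext e))] at h
    simpa [trivIrr] using h.symm
  have hker : ∀ φ : IrrCharacter G, φ ≠ χ → ∀ g, IsConj x g → (φ : G → ℂ) g = (φ : G → ℂ) 1 := by
    intro φ hφ g hg
    obtain ⟨c, rfl⟩ := isConj_iff.1 hg
    rw [irr_isClassFunction φ x c]
    have h := hsum φ
    rw [IsIrrCharacter.classInner_ne χ.2 φ.2 (fun e => hφ (Subtype.ext e.symm)), zero_mul] at h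
    have h' : (χ : G → ℂ) 1 * (conj ((φ : G → ℂ) 1) - conj ((φ : G → ℂ) x)) = 0 := by
      linear_combination (norm := ring) -h - conj ((φ : G → ℂ) x) * h1eq
    have h'' := sub_eq_zero.1 ((mul_eq_zero.1 h').resolve_left hχ1)
    exact ((starRingEnd ℂ).injective h'').symm
  have hfaith : ∀ g : G, (χ : G → ℂ) g = (χ : G → ℂ) 1 → g = 1 := by
    intro g hg
    rcases hsupp g (by rw [hg]; exact hχ1) with h | h
    · exact h
    · exfalso
      rw [hval g h] at hg
      rw [hg] at h1eq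
      have : (χ : G → ℂ) 1 * (1 + (S.card : ℂ)) = 0 := by linear_combination h1eq
      rcases mul_eq_zero.1 this with h' | h'
      · exact hχ1 h'
      · have : ((1 + S.card : ℕ) : ℂ) = 0 := by push_cast; exact h'
        rw [Nat.cast_eq_zero] at this
        omega
  let N : Subgroup G := ⨅ φ : {φ : IrrCharacter G // φ ≠ χ}, charKernel (irr_isCharacter φ.1)
  have hNn : N.Normal := Subgroup.normal_iInf_normal fun φ => charKernel_normal _
  have hmemN : ∀ g, g ∈ N ↔ ∀ φ : IrrCharacter G, φ ≠ χ → (φ : G → ℂ) g = (φ : G → ℂ) 1 := by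
    intro g
    simp only [N, Subgroup.mem_iInf, Subtype.forall]
    exact ⟨fun h a b c => (mem_charKernel _).1 (h a b c), fun h a b c => (mem_charKernel _).2 (h a b c)⟩
  have hxN : x ∈ N := (hmemN x).2 fun φ hφ => hker φ hφ x (IsConj.refl x)
  have hNsupp : ∀ g : G, (χ : G → ℂ) g ≠ 0 ↔ g ∈ N := by
    intro g
    refine ⟨fun hg => ?_, fun hg => ?_⟩
    · rcases hsupp g hg with h | h
      · rw [h]; exact one_mem _
      · exact (hmemN g).2 fun φ hφ => hker φ hφ g h
    · intro h0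
      have hg1 : g ≠ 1 := by rintro rfl; exact hχ1 h0
      have h := sum_degree_mul g
      rw [if_neg hg1, ← Finset.add_sum_erase _ _ (Finset.mem_univ χ), h0, mul_zero, zero_add,
        Finset.sum_congr rfl (g := fun φ : IrrCharacter G => (φ : G → ℂ) 1 ^ 2)
          (fun φ hφ => by rw [(hmemN g).1 hg φ (Finset.mem_erase.1 hφ).1, sq])] at h
      have h2 := sum_degree_sq (G := G)
      rw [← Finset.add_sum_erase _ _ (Finset.mem_univ χ), h, add_zero] at h2
      have h3 := hsum χ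
      rw [IsIrrCharacter.classInner_self χ.2, one_mul, ← h2] at h3
      obtain ⟨d, hd⟩ := IsCharacter.exists_apply_one (irr_isCharacter χ)
      rw [hd, map_natCast, ← sq] at h3
      have h4 : (S.card : ℂ) * ((χ : G → ℂ) x * conj ((χ : G → ℂ) x)) = 0 := by linear_combination -h3
      rcases mul_eq_zero.1 h4 with h5 | h5
      · exact hS0 h5
      · rcases mul_eq_zero.1 h5 with h6 | h6
        · exact hx0 h6
        · exact hx0 (by simpa using h6)
  have hmin : ∀ K : Subgroup G, K.Normal → K ≠ ⊥ → N ≤ K := by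
    intro K hK hKne g hg
    haveI := hK
    by_contra hgK
    have hq : (g : G ⧸ K) ≠ 1 := fun h => hgK ((QuotientGroup.eq_one_iff g).1 h)
    obtain ⟨ψ, hψ⟩ := exists_irr_ne_apply_one hq
    set φ : IrrCharacter G :=
      ⟨_, IsIrrCharacter.comp_surjective ψ.2 (QuotientGroup.mk' K) (QuotientGroup.mk'_surjective K)⟩
    have hφK : ∀ k ∈ K, (φ : G → ℂ) k = (φ : G → ℂ) 1 := fun k hk => by
      show (ψ : G ⧸ K → ℂ) (QuotientGroup.mk' K k) = (ψ : G ⧸ K → ℂ) (QuotientGroup.mk' K 1)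
      rw [(QuotientGroup.eq_one_iff k).2 hk |> fun e => (show QuotientGroup.mk' K k = 1 from e), map_one]
    have hφne : φ ≠ χ := by
      intro he
      obtain ⟨k, hk, hk1⟩ := K.bot_or_exists_ne_one.resolve_left hKne
      exact hk1 (hfaith k (by rw [← he]; exact hφK k hk))
    exact hψ (by
      have := (hmemN g).1 hg φ hφne
      change (ψ : G ⧸ K → ℂ) (QuotientGroup.mk' K g) = (ψ : G ⧸ K → ℂ) (QuotientGroup.mk' K 1) at this
      rw [map_one] at this
      exact this)
  have hconjN : ∀ y ∈ N, y ≠ 1 → IsConj x y := fun y hy hy1 =>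
    (hsupp y ((hNsupp y).2 hy)).resolve_left hy1
  have hNne : N ≠ ⊥ := fun h => hx1 (by rw [h, Subgroup.mem_bot] at hxN; exact hxN)
  refine ⟨hfaith, fun ψ hψ => ?_, N, hNn, hNne, hmin, ?_, hNsupp, fun a ha b hb ha1 hb1 => ?_⟩
  · by_contra hne
    exact hx1 (hψ x ((hmemN x).1 hxN ψ hne))
  · set p := (orderOf x).minFac with hp
    have hpp : p.Prime := Nat.minFac_prime (fun h => hx1 (orderOf_eq_one_iff.1 h))
    haveI := Fact.mk hpp
    have hord : orderOf x = p := by
      obtain ⟨m, hm⟩ := Nat.minFac_dvd (orderOf x)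
      have hy : x ^ m ∈ N := N.pow_mem hxN m
      have hm0 : m ≠ 0 := fun h => by
        rw [h, mul_zero] at hm
        exact (orderOf_pos x).ne' hm
      have hyord : orderOf (x ^ m) = p := by
        rw [orderOf_pow' _ hm0, hm, Nat.gcd_mul_left_left, Nat.mul_div_cancel _ (Nat.pos_of_ne_zero hm0)]
      have hy1 : x ^ m ≠ 1 := fun h => by
        rw [h, orderOf_one] at hyord
        exact hpp.one_lt.ne hyord
      obtain ⟨c, hc⟩ := isConj_iff.1 (hconjN _ hy hy1)
      rw [← hyord, ← hc]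
      exact (MulEquiv.orderOf_eq (MulAut.conj c) x).symm
    have hexp : ∀ a ∈ N, a ^ p = 1 := by
      intro a ha
      by_cases ha1 : a = 1
      · rw [ha1, one_pow]
      · obtain ⟨c, rfl⟩ := isConj_iff.1 (hconjN a ha ha1)
        rw [conj_pow, ← hord, pow_orderOf_eq_one, mul_one, mul_inv_cancel]
    have hpN : IsPGroup p N := fun a => ⟨1, Subtype.ext (by rw [pow_one]; exact hexp a a.2)⟩
    haveI : Nontrivial N := (Subgroup.nontrivial_iff_ne_bot N).2 hNne
    haveI := hpN.center_nontrivial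
    have hcen : Subgroup.center N ≠ ⊥ :=
      (Subgroup.nontrivial_iff_ne_bot _).1 inferInstance
    haveI := hNn
    have hZ := hmin ((Subgroup.center N).map N.subtype) inferInstance (fun h =>
      hcen ((Subgroup.map_eq_bot_iff_of_injective _ N.subtype_injective).1 h))
    refine ⟨p, hpp, ⟨⟨fun a b => ?_⟩⟩, hexp⟩
    obtain ⟨z, hz, hza⟩ := Subgroup.mem_map.1 (hZ a.2)
    have : z = a := Subtype.ext hza
    subst this
    exact (Subgroup.mem_center_iff.1 hz b).symm
  · obtain ⟨c, hc⟩ := isConj_iff.1 ((hconjN a ha ha1).symm.trans (hconjN b hb hb1))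
    exact ⟨c, hc⟩

end Cfsg.Agent.Lib.InvChar.TwoClassChar
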