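import Mathlib
import Cfsg.Prelude
import Cfsg.Agent.Lib.InvChar.TwoClassChar

/-!
# The group theory of characters supported on two classes
-/

set_option autoImplicit false
set_option linter.unusedSectionVars false
set_option linter.style.haveILetI false

namespace Cfsg.Agent.Lib.InvChar.TwoClassChar

open Cfsg Cfsg.Agent.Lib.Characters
open scoped ComplexConjugate

universe u

variable {G : Type u} [Group G] [Finite G] {χ : IrrCharacter G} {p : ℕ} [Fact p.Prime]
variable {N : Subgroup G}

/-- The hypotheses shared by the statements about two-class characters. -/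
structure Setup (χ : IrrCharacter G) (p : ℕ) (N : Subgroup G) : Prop where
  big : 2 < Nat.card G
  two : TwoClasses χ
  supp : ∀ g : G, g ∈ N ↔ (χ : G → ℂ) g ≠ 0
  pgroup : IsPGroup p N
  ne_bot : N ≠ ⊥

theorem Setup.trans (h : Setup χ p N) {x y : G} (hx : x ∈ N) (hy : y ∈ N) (hx1 : x ≠ 1)
    (hy1 : y ≠ 1) : IsConj x y := by
  obtain ⟨-, -, M, -, -, -, -, hM, htr⟩ := structure_thm h.big h.two
  obtain ⟨g, hg⟩ := htr x ((hM x).1 ((h.supp x).1 hx)) y ((hM y).1 ((h.supp y).1 hy)) hx1 hy1
  exact isConj_iff.2 ⟨g, hg⟩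

theorem Setup.abelian (h : Setup χ p N) {x y : G} (hx : x ∈ N) (hy : y ∈ N) : x * y = y * x := by
  obtain ⟨-, -, M, -, -, -, ⟨q, -, hcomm, -⟩, hM, -⟩ := structure_thm h.big h.two
  exact congrArg Subtype.val
    (hcomm.is_comm.comm ⟨x, (hM x).1 ((h.supp x).1 hx)⟩ ⟨y, (hM y).1 ((h.supp y).1 hy)⟩)

theorem Setup.kernel (h : Setup χ p N) {φ : IrrCharacter G} (hφ : φ ≠ χ) {n : G} (hn : n ∈ N) :
    (φ : G → ℂ) n = (φ : G → ℂ) 1 := by
  obtain ⟨hfaith, huniq, M, hMn, hMne, hmin, -, hM, -⟩ := structure_thm h.big h.two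
  have hne : ¬ ∀ g : G, (φ : G → ℂ) g = (φ : G → ℂ) 1 → g = 1 := fun h' => hφ (huniq φ h')
  push Not at hne
  obtain ⟨g, hg, hg1⟩ := hne
  have hle := hmin (charKernel (irr_isCharacter φ)) (charKernel_normal _) (fun hb => hg1 (by
    have : g ∈ charKernel (irr_isCharacter φ) := hg
    rwa [hb, Subgroup.mem_bot] at this))
  exact (mem_charKernel _).1 (hle ((hM n).1 ((h.supp n).1 hn)))

variable [N.Normal]

/-- Centralizers of elements outside the support. -/
theorem Setup.card_centralizer_outside (h : Setup χ p N) {x : G} (hx : x ∉ N) :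
    Nat.card (Subgroup.centralizer ({x} : Set G))
      = Nat.card (Subgroup.centralizer ({(x : G ⧸ N)} : Set (G ⧸ N))) := by
  classical
  haveI := Fintype.ofFinite (IrrCharacter G)
  haveI := Fintype.ofFinite (IrrCharacter (G ⧸ N))
  have h1 := sum_irr_mul_conj x x
  rw [if_pos (IsConj.refl _)] at h1
  have h2 := sum_irr_mul_conj (x : G ⧸ N) (x : G ⧸ N)
  rw [if_pos (IsConj.refl _)] at h2
  let inf : IrrCharacter (G ⧸ N) → IrrCharacter G := fun ψ =>
    ⟨_, IsIrrCharacter.comp_surjective ψ.2 (QuotientGroup.mk' N) (QuotientGroup.mk'_surjective N)⟩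
  have hinj : Function.Injective inf := by
    intro a b hab
    apply Subtype.ext
    funext q
    obtain ⟨g, rfl⟩ := QuotientGroup.mk_surjective q
    exact congrFun (congrArg Subtype.val hab) g
  have hχx : (χ : G → ℂ) x = 0 := by
    by_contra h0
    exact hx ((h.supp x).2 h0)
  rw [← Finset.sum_subset (Finset.subset_univ (Finset.univ.image inf)),
    Finset.sum_image fun a _ b _ hab => hinj hab] at h1
  · exact Nat.cast_injective (h1.symm.trans h2)
  · intro φ _ hφ
    by_cases hφχ : φ = χ
    · rw [hφχ, hχx, zero_mul]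
    · exfalso
      obtain ⟨ψ, hψ, hψφ⟩ := IsIrrCharacter.exists_quotient φ.2 N fun n hn => h.kernel hφχ hn
      exact hφ (Finset.mem_image.2 ⟨⟨ψ, hψ⟩, Finset.mem_univ _, Subtype.ext hψφ.symm⟩)

theorem Setup.isPGroup_centralizer (h : Setup χ p N) {x : G} (hx : x ∈ N) (hx1 : x ≠ 1) :
    IsPGroup p (Subgroup.centralizer ({x} : Set G)) := by
  classical
  haveI := Fintype.ofFinite (Subgroup.centralizer ({x} : Set G))
  rw [IsPGroup.iff_card]
  refine ⟨(Nat.card (Subgroup.centralizer ({x} : Set G))).primeFactorsList.length,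
    Nat.eq_prime_pow_of_unique_prime_dvd (p := p) Nat.card_pos.ne' fun {q} hq hqd => ?_⟩
  · by_contra hqp
    haveI := Fact.mk hq
    obtain ⟨y, hy⟩ := exists_prime_orderOf_dvd_card' (G := Subgroup.centralizer ({x} : Set G)) q hqd
    have hy' : orderOf (y : G) = q := by rw [Subgroup.orderOf_coe, hy]
    have hyN : (y : G) ∉ N := by
      intro hyN
      obtain ⟨k, hk⟩ := h.pgroup ⟨y, hyN⟩
      have hd : q ∣ p ^ k := hy' ▸ orderOf_dvd_of_pow_eq_one (congrArg Subtype.val hk)
      exact hqp ((Nat.prime_dvd_prime_iff_eq hq Fact.out).1 (hq.dvd_of_dvd_pow hd))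
    have hxyN : (y : G) * x ∉ N := fun h' => hyN (by simpa using N.mul_mem h' (N.inv_mem hx))
    have hconj : IsConj ((y : G) * x) (y : G) := by
      refine (isConj_iff_forall_irr _ _).2 fun φ => ?_
      by_cases hφ : φ = χ
      · rw [hφ, not_not.1 fun h0 => hxyN ((h.supp _).2 h0), not_not.1 fun h0 => hyN ((h.supp _).2 h0)]
      · exact IsCharacter.apply_mul_of_mem_kernel (irr_isCharacter φ) (h.kernel hφ hx) _
    obtain ⟨c, hc⟩ := isConj_iff.1 hconj
    have hord : orderOf ((y : G) * x) = q := by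
      rw [← hy']
      conv_rhs => rw [← hc]
      exact (MulEquiv.orderOf_eq (MulAut.conj c) _).symm
    have hcomm : Commute (y : G) x := Subgroup.mem_centralizer_singleton_iff.1 y.2
    have h9 : x ^ q = 1 := by
      have := pow_orderOf_eq_one ((y : G) * x)
      rw [hord, hcomm.mul_pow] at this
      rwa [show (y : G) ^ q = 1 by rw [← hy', pow_orderOf_eq_one], one_mul] at this
    obtain ⟨k, hk⟩ := h.pgroup ⟨x, hx⟩
    have hk' : x ^ p ^ k = 1 := congrArg Subtype.val hk
    have := pow_gcd_eq_one.2 ⟨h9, hk'⟩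
    rw [Nat.Coprime.gcd_eq_one (Nat.Coprime.pow_right _ ((Nat.coprime_primes hq Fact.out).2 hqp)),
      pow_one] at this
    exact hx1 this

theorem Setup.index_centralizer (h : Setup χ p N) {x : G} (hx : x ∈ N) (hx1 : x ≠ 1) :
    (Subgroup.centralizer ({x} : Set G)).index + 1 = Nat.card N := by
  classical
  haveI := Fintype.ofFinite G
  rw [← card_conj_eq_index]
  have e : Nat.card {g : G // IsConj x g} + 1 = Nat.card N := by
    rw [Nat.card_eq_fintype_card, Nat.card_eq_fintype_card, Fintype.card_subtype,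
      ← Finset.card_insert_of_notMem (a := (1 : G)), Fintype.card_subtype]
    · congr 1
      ext g
      simp only [Finset.mem_insert, Finset.mem_filter, Finset.mem_univ, true_and]
      refine ⟨?_, fun hg => ?_⟩
      · rintro (rfl | hc)
        · exact one_mem _
        · obtain ⟨c, rfl⟩ := isConj_iff.1 hc
          exact Subgroup.Normal.conj_mem inferInstance x hx c
      · by_cases hg1 : g = 1
        · exact Or.inl hg1
        · exact Or.inr (h.trans hx hg hx1 hg1)
    · simp only [Finset.mem_filter, Finset.mem_univ, true_and]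
      exact fun hc => hx1 (isConj_one_left.1 hc)
  convert e using 2

omit [N.Normal] in
theorem Setup.not_dvd_pred (h : Setup χ p N) {m : ℕ} (hm : m + 1 = Nat.card N) : ¬ p ∣ m := by
  intro hd
  obtain ⟨k, hk⟩ := IsPGroup.iff_card.1 h.pgroup
  have hk0 : k ≠ 0 := fun h0 => h.ne_bot (Subgroup.eq_bot_of_card_eq N (by rw [hk, h0, pow_zero]))
  rw [hk] at hm
  have h1 : p ∣ m + 1 := hm ▸ dvd_pow_self p hk0
  have h2 := (Nat.dvd_add_right hd).1 h1
  exact (Fact.out : p.Prime).one_lt.ne' (Nat.dvd_one.1 h2)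

/-- Centralizers in the support are Sylow subgroups. -/
theorem Setup.centralizer_sylow (h : Setup χ p N) {x : G} (hx : x ∈ N) (hx1 : x ≠ 1) :
    ∃ P : Sylow p G, Subgroup.centralizer ({x} : Set G) = P :=
  ⟨(h.isPGroup_centralizer hx hx1).toSylow (h.not_dvd_pred (h.index_centralizer hx hx1)), rfl⟩

/-- Inertia groups of nontrivial characters of the support are Sylow subgroups. -/
theorem Setup.inertia_sylow (h : Setup χ p N) (μ : IrrCharacter N)
    (hμ : (μ : N → ℂ) ≠ fun _ => 1) : ∃ P : Sylow p G, inertia N (μ : N → ℂ) = P := by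
  classical
  haveI := Fintype.ofFinite G
  haveI := Fintype.ofFinite N
  haveI := Fintype.ofFinite (IrrCharacter N)
  obtain ⟨x, hx, hx1⟩ := N.bot_or_exists_ne_one.resolve_left h.ne_bot
  obtain ⟨hfaith, -, -⟩ := structure_thm h.big h.two
  have hcomm : ∀ a b : N, a * b = b * a := fun a b => Subtype.ext (h.abelian a.2 b.2)
  have hval : ∀ n : N, n ≠ 1 → (χ : G → ℂ) n = (χ : G → ℂ) x := by
    intro n hn
    obtain ⟨c, hc⟩ := isConj_iff.1 (h.trans hx n.2 hx1 fun e => hn (Subtype.ext e))
    rw [← hc, irr_isClassFunction χ x c]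
  have hne : ∀ ν : IrrCharacter N, (ν : N → ℂ) ≠ (fun _ => 1) →
      classInner (fun n : N => (χ : G → ℂ) n) (ν : N → ℂ) ≠ 0 := by
    intro ν hν
    have h0 := IsIrrCharacter.classInner_ne ν.2 isIrrCharacter_one hν
    have hν1 : (ν : N → ℂ) 1 = 1 := IsIrrCharacter.apply_one_of_comm hcomm ν.2
    have e : classInner (fun n : N => (χ : G → ℂ) n) (ν : N → ℂ)
        = (Nat.card N : ℂ)⁻¹ * ((χ : G → ℂ) 1 - (χ : G → ℂ) x) := by
      rw [classInner, mul_eq_zero] at h0
      have h0' := h0.resolve_left (inv_ne_zero natCard_ne_zero_complex)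
      have h0'' : ∑ n : N, conj ((ν : N → ℂ) n) = 0 := by
        simp only [map_one, mul_one] at h0'
        rw [← map_sum, h0', map_zero]
      rw [classInner]
      congr 1
      rw [← Finset.add_sum_erase _ _ (Finset.mem_univ (1 : N))] at h0'' ⊢
      rw [Finset.sum_congr rfl (g := fun n => (χ : G → ℂ) x * conj ((ν : N → ℂ) n))
        (fun n hn => by rw [hval n (Finset.mem_erase.1 hn).1]), ← Finset.mul_sum]
      rw [hν1, map_one] at h0'' ⊢
      rw [OneMemClass.coe_one]
      linear_combination ((χ : G → ℂ) x) * h0''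
    rw [e]
    refine mul_ne_zero (inv_ne_zero natCard_ne_zero_complex) (sub_ne_zero.2 fun e' => hx1 ?_)
    exact hfaith x e'.symm
  have horb : Nat.card (Set.range fun g : G => Characters.conjFun N g (μ : N → ℂ)) + 1 = Nat.card N := by
    have hk : Nat.card (IrrCharacter N) = Nat.card N := by
      rw [card_irrCharacter]
      refine (Nat.card_eq_of_bijective (ConjClasses.mk : N → _)
        ⟨fun a b hab => ?_, ConjClasses.mk_surjective⟩).symm
      obtain ⟨c, hc⟩ := isConj_iff.mp (ConjClasses.mk_eq_mk_iff_isConj.mp hab)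
      rw [← hc, hcomm c a, mul_inv_cancel_right]
    rw [← hk, Nat.card_eq_fintype_card, Nat.card_eq_fintype_card]
    have hset : (Set.range fun g : G => Characters.conjFun N g (μ : N → ℂ)).toFinset
        = ((Finset.univ : Finset (IrrCharacter N)).erase (trivIrr N)).image Subtype.val := by
      ext φ
      simp only [Set.mem_toFinset, Set.mem_range, Finset.mem_image, Finset.mem_erase,
        Finset.mem_univ, and_true]
      constructor
      · rintro ⟨g, rfl⟩
        refine ⟨⟨_, IsIrrCharacter.conjFun N μ.2 g⟩, fun e => hμ ?_, rfl⟩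
        have e' := congrArg Subtype.val e
        funext n
        obtain ⟨m, rfl⟩ := (MulAut.conjNormal g : MulAut N).surjective n
        exact congrFun e' m
      · rintro ⟨ν, hν, rfl⟩
        obtain ⟨g, hg⟩ := exists_conjFun_eq N χ.2 μ.2 ν.2 (hne μ hμ)
          (hne ν fun e => hν (Subtype.ext e))
        exact ⟨g, hg⟩
    rw [← Set.toFinset_card, hset, Finset.card_image_of_injective _ Subtype.val_injective,
      Finset.card_erase_add_one (Finset.mem_univ _), Finset.card_univ]
  rw [card_conjugates] at horb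
  have hT : IsPGroup p (inertia N (μ : N → ℂ)) := by
    obtain ⟨P, hP⟩ := h.centralizer_sylow hx hx1
    obtain ⟨k, hk⟩ := IsPGroup.iff_card.1 P.isPGroup'
    refine IsPGroup.of_card (n := k) ?_
    have e1 := (inertia N (μ : N → ℂ)).index_mul_card
    have e2 := (Subgroup.centralizer ({x} : Set G)).index_mul_card
    have hidx := h.index_centralizer hx hx1
    have e3 : (inertia N (μ : N → ℂ)).index = (Subgroup.centralizer ({x} : Set G)).index := by omega
    rw [← e2, e3, hP] at e1
    rw [← hk]
    exact Nat.eq_of_mul_eq_mul_left (Nat.pos_of_ne_zero Subgroup.index_ne_zero_of_finite) e1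
  exact ⟨hT.toSylow (h.not_dvd_pred horb), rfl⟩

/-- Upper central series of a Sylow subgroup below the support. -/
theorem Setup.upper_step (h : Setup χ p N) (P : Sylow p G) (j : ℕ)
    (hlt : Nat.card (Subgroup.upperCentralSeries (P : Subgroup G) j) < Nat.card N) :
    ∀ x ∈ Subgroup.upperCentralSeries (P : Subgroup G) (j + 1), (x : G) ∈ N := by
  classical
  intro x hx
  by_contra hxN
  rw [Subgroup.mem_upperCentralSeries_succ_iff] at hx
  set Cx := Subgroup.centralizer ({x} : Set (P : Subgroup G))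
  let F : (P : Subgroup G) ⧸ Cx → Subgroup.upperCentralSeries (P : Subgroup G) j :=
    Quotient.lift (fun y => ⟨x * y * x⁻¹ * y⁻¹, hx y⟩) (by
      intro a b hab
      have hc : a⁻¹ * b ∈ Cx := QuotientGroup.leftRel_apply.1 hab
      obtain ⟨c, hc', rfl⟩ : ∃ c ∈ Cx, b = a * c := ⟨_, hc, (mul_inv_cancel_left a b).symm⟩
      have hc'' : c * x = x * c := Subgroup.mem_centralizer_singleton_iff.1 hc'
      apply Subtype.ext
      show x * a * x⁻¹ * a⁻¹ = x * (a * c) * x⁻¹ * (a * c)⁻¹
      have hcx : c * x⁻¹ * c⁻¹ = x⁻¹ := by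
        have h5 : c * x * c⁻¹ = x := by rw [hc'', mul_inv_cancel_right]
        calc c * x⁻¹ * c⁻¹ = (c * x * c⁻¹)⁻¹ := by group
          _ = x⁻¹ := by rw [h5]
      calc x * a * x⁻¹ * a⁻¹ = x * a * (c * x⁻¹ * c⁻¹) * a⁻¹ := by rw [hcx]
        _ = _ := by group)
  have hFinj : Function.Injective F := by
    intro a b hab
    induction a using QuotientGroup.induction_on with | _ a => ?_
    induction b using QuotientGroup.induction_on with | _ b => ?_
    have hab' : x * a * x⁻¹ * a⁻¹ = x * b * x⁻¹ * b⁻¹ := congrArg Subtype.val hab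
    rw [QuotientGroup.eq, Subgroup.mem_centralizer_singleton_iff]
    have h2 : a * x⁻¹ * a⁻¹ = b * x⁻¹ * b⁻¹ := by
      have := congrArg (fun t => x⁻¹ * t) hab'
      simpa [mul_assoc] using this
    have h3 : a * x * a⁻¹ = b * x * b⁻¹ := by
      have := congrArg (fun t => t⁻¹) h2
      simpa [mul_assoc] using this
    calc a⁻¹ * b * x = a⁻¹ * (b * x * b⁻¹) * b := by group
      _ = a⁻¹ * (a * x * a⁻¹) * b := by rw [h3]
      _ = _ := by group
  have h1 : Cx.index ≤ Nat.card (Subgroup.upperCentralSeries (P : Subgroup G) j) :=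
    Nat.card_le_card_of_injective F hFinj
  obtain ⟨k, hk⟩ := IsPGroup.iff_card.1 P.isPGroup'
  obtain ⟨e, he⟩ := IsPGroup.iff_card.1 (P.isPGroup'.to_subgroup Cx)
  have hd1 : Nat.card Cx ∣ Nat.card (Subgroup.centralizer ({(x : G)} : Set G)) := by
    refine Subgroup.card_dvd_of_injective
      (MonoidHom.mk' (fun c : Cx => (⟨((c : (P : Subgroup G)) : G),
        Subgroup.mem_centralizer_singleton_iff.2
          (congrArg Subtype.val (Subgroup.mem_centralizer_singleton_iff.1 c.2))⟩ :
          Subgroup.centralizer ({(x : G)} : Set G))) fun _ _ => rfl) ?_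
    intro a b hab
    exact Subtype.ext (Subtype.ext (congrArg (fun t : Subgroup.centralizer ({(x : G)} : Set G) => (t : G)) hab))
  rw [h.card_centralizer_outside hxN] at hd1
  have hd2 : Nat.card Cx * Nat.card N ∣ Nat.card G := by
    rw [Subgroup.card_eq_card_quotient_mul_card_subgroup N]
    exact mul_dvd_mul_right (hd1.trans (Subgroup.card_subgroup_dvd_card _)) _
  obtain ⟨a, ha⟩ := IsPGroup.iff_card.1 h.pgroup
  rw [he, ha, ← pow_add] at hd2
  have hea : e + a ≤ k := by
    have h6 := (Fact.out : p.Prime).pow_dvd_iff_le_factorization Nat.card_pos.ne' |>.1 hd2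
    have hk' : k = (Nat.card G).factorization p := by
      have := P.card_eq_multiplicity
      rw [hk] at this
      exact Nat.pow_right_injective (Fact.out : p.Prime).two_le this
    omega
  have h2 := Cx.index_mul_card
  rw [hk, he] at h2
  have hN' : Nat.card N ≤ Cx.index := by
    rw [ha]
    refine Nat.le_of_mul_le_mul_right ?_ (pow_pos (Fact.out : p.Prime).pos e)
    rw [h2, ← pow_add]
    exact Nat.pow_le_pow_right (Fact.out : p.Prime).pos (by omega)
  omega

/-- The support is a term of the upper central series of a Sylow subgroup. -/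
theorem Setup.upper_central (h : Setup χ p N) (P : Sylow p G) :
    (Subgroup.center (P : Subgroup G)).map (P : Subgroup G).subtype ≤ N ∧
      ((Subgroup.center (P : Subgroup G)).map (P : Subgroup G).subtype = N ↔ (P : Subgroup G).Normal) ∧
      ∃ i, Subgroup.upperCentralSeries (P : Subgroup G) i = N.subgroupOf (P : Subgroup G) := by
  classical
  have hNR : ∀ R : Sylow p G, N ≤ (R : Subgroup G) := by
    intro R
    have hp' := IsPGroup.to_sup_of_normal_right R.isPGroup' h.pgroup
    have := R.is_maximal' hp' le_sup_left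
    exact this ▸ (le_sup_right : N ≤ (R : Subgroup G) ⊔ N)
  have hcardN : Nat.card (N.subgroupOf (P : Subgroup G)) = Nat.card N :=
    Nat.card_congr (Subgroup.subgroupOfEquivOfLe (hNR P)).toEquiv
  have hN1 : 1 < Nat.card N := by
    by_contra h0
    exact h.ne_bot (Subgroup.eq_bot_of_card_le N (not_lt.1 h0))
  have hZ1 : ∀ z ∈ Subgroup.center (P : Subgroup G), (z : G) ∈ N := by
    intro z hz
    refine h.upper_step P 0 (by simpa using hN1) z ?_
    rwa [Subgroup.upperCentralSeries_one]
  have hmap : (Subgroup.center (P : Subgroup G)).map (P : Subgroup G).subtype ≤ N := by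
    rintro _ ⟨z, hz, rfl⟩
    exact hZ1 z hz
  refine ⟨hmap, ⟨fun heq => ?_, fun hPn => ?_⟩, ?_⟩
  · obtain ⟨x, hx, hx1⟩ := N.bot_or_exists_ne_one.resolve_left h.ne_bot
    obtain ⟨R, hR⟩ := h.centralizer_sylow hx hx1
    have hall : ∀ y ∈ N, y ≠ 1 → Subgroup.centralizer ({y} : Set G) = P := by
      intro y hy hy1
      obtain ⟨S, hS⟩ := h.centralizer_sylow hy hy1
      have hle : (P : Subgroup G) ≤ Subgroup.centralizer ({y} : Set G) := by
        rw [← heq] at hy
        obtain ⟨z, hz, rfl⟩ := Subgroup.mem_map.1 hy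
        intro u hu
        rw [Subgroup.mem_centralizer_singleton_iff]
        exact congrArg Subtype.val (Subgroup.mem_center_iff.1 hz ⟨u, hu⟩)
      rw [hS] at hle ⊢
      exact P.is_maximal' S.isPGroup' hle
    refine ⟨fun u hu g => ?_⟩
    rw [← hall (g * x * g⁻¹) (Subgroup.Normal.conj_mem inferInstance x hx g)
      (fun e => hx1 (conj_eq_one_iff.1 e)), Subgroup.mem_centralizer_singleton_iff]
    have hux := hu
    rw [← hall x hx hx1, Subgroup.mem_centralizer_singleton_iff] at hux
    calc g * u * g⁻¹ * (g * x * g⁻¹) = g * (u * x) * g⁻¹ := by group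
      _ = g * (x * u) * g⁻¹ := by rw [hux]
      _ = _ := by group
  · refine le_antisymm hmap ?_
    obtain ⟨hfaith, -, M, -, -, hmin, -, hM, -⟩ := structure_thm h.big h.two
    haveI := hPn
    haveI : Nontrivial (P : Subgroup G) := by
      obtain ⟨x, hx, hx1⟩ := N.bot_or_exists_ne_one.resolve_left h.ne_bot
      exact ⟨⟨x, hNR P hx⟩, 1, fun e => hx1 (congrArg Subtype.val e)⟩
    haveI := P.isPGroup'.center_nontrivial
    have hne : (Subgroup.center (P : Subgroup G)).map (P : Subgroup G).subtype ≠ ⊥ := fun e =>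
      (Subgroup.nontrivial_iff_ne_bot _).1 inferInstance
        ((Subgroup.map_eq_bot_iff_of_injective _ (Subgroup.subtype_injective _)).1 e)
    intro n hn
    exact hmin _ inferInstance hne ((hM n).1 ((h.supp n).1 hn))
  · by_contra hno
    push Not at hno
    have hall : ∀ j, Subgroup.upperCentralSeries (P : Subgroup G) j ≤ N.subgroupOf (P : Subgroup G) := by
      intro j
      induction j with
      | zero => rw [Subgroup.upperCentralSeries_zero]; exact bot_le
      | succ j ih =>
        intro x hx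
        refine Subgroup.mem_subgroupOf.2 (h.upper_step P j ?_ x hx)
        rw [← hcardN]
        refine lt_of_le_of_ne (Subgroup.card_le_of_le ih) fun e => hno j ?_
        exact Subgroup.eq_of_le_of_card_ge ih e.ge
    haveI := P.isPGroup'.isNilpotent
    obtain ⟨i, hi⟩ := (inferInstance : Group.IsNilpotent (P : Subgroup G)).nilpotent
    exact hno i (le_antisymm (hall i) (by rw [hi]; exact le_top))

end Cfsg.Agent.Lib.InvChar.TwoClassChar
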