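import Cfsg.Prelude.Def_CaseTheorems
import Cfsg.Agent.S0111
import Cfsg.Agent.S3035
import Cfsg.Agent.Lib.PGroups.AutAlternating
import Cfsg.Agent.Lib.PGroups.SmallPerm
import Cfsg.Agent.Lib.Classical.LinearSimple

/-!
Groups with a two-central involution whose centralizer is `Z₂ × S₄`.
-/

set_option autoImplicit false
open Cfsg

namespace Cfsg.Agent.Lib.InvChar.TwoSymFour

open Subgroup Equiv
open scoped commutatorElement

abbrev W : Type := Multiplicative (ZMod 2) × Perm (Fin 4)

def u2 : Multiplicative (ZMod 2) := Multiplicative.ofAdd 1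
def z0 : Perm (Fin 4) := swap 0 2 * swap 1 3
def a0 : Perm (Fin 4) := swap 0 2
def a1 : Perm (Fin 4) := swap 0 1
def c3 : Perm (Fin 4) := swap 0 1 * swap 1 2
def c4 : Perm (Fin 4) := finRotate 4
def tW : W := (u2, 1)
def zW : W := (1, z0)

theorem model_center : ∀ q : W, (∀ p, q * p = p * q) → q = 1 ∨ q = tW := by decide +kernel

theorem model_tW : ∀ q : W, tW * q = q * tW := by decide +kernel

theorem model_card_zcent : Fintype.card {q : W // q * zW = zW * q} = 16 := by decide +kernel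

theorem model_comm : ∀ p : W, p * zW = zW * p → ∀ q : W, q * zW = zW * q →
    p * q * p⁻¹ * q⁻¹ = 1 ∨ p * q * p⁻¹ * q⁻¹ = zW := by decide +kernel

theorem model_comm_exists : ∃ p : W, p * zW = zW * p ∧ ∃ q : W, q * zW = zW * q ∧
    p * q * p⁻¹ * q⁻¹ = zW := by decide +kernel

theorem model_invol : ∀ q : W, q * q = 1 → q ≠ 1 →
    q = tW ∨ ∃ p : W, p * q * p⁻¹ = zW ∨ p * q * p⁻¹ = tW * zW ∨
      p * q * p⁻¹ = (1, a0) ∨ p * q * p⁻¹ = (u2, a0) := by decide +kernel

theorem model_ne : tW ≠ zW ∧ tW ≠ tW * zW ∧ zW ≠ tW * zW ∧ zW ≠ 1 ∧ zW * zW = 1 ∧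
    (1, a0) ≠ tW ∧ zW * (1, a0) = ((1, a0) : W) * zW := by decide +kernel

theorem u2_cases : ∀ i : Multiplicative (ZMod 2), i = 1 ∨ i = u2 := by decide +kernel

/-- Complements of the central factor. -/
def fk (k : Multiplicative (ZMod 2)) : Perm (Fin 4) →* W :=
  MonoidHom.mk' (fun s => (if Perm.sign s = 1 then 1 else k, s)) (by revert k; decide +kernel)

theorem fk_facts : ∀ k, fk k z0 = zW ∧ fk k a0 = (k, a0) ∧ ∀ s, (fk k s).2 = s := by decide +kernel

theorem model_invol4 : ∀ s : Perm (Fin 4), s * s = 1 → s ≠ 1 →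
    ∃ p, p * s * p⁻¹ = z0 ∨ p * s * p⁻¹ = a0 := by decide +kernel

theorem model_center4 : ∀ q : Perm (Fin 4), (∀ p, q * p = p * q) → q = 1 := by decide +kernel

theorem model_card_cent4 : Fintype.card {s : Perm (Fin 4) // s * z0 = z0 * s} = 8 := by
  decide +kernel

/-- The dihedral group centralizing `z0`. -/
def dih : DihedralGroup 4 →* Perm (Fin 4) :=
  MonoidHom.mk' (fun d => match d with
    | .r i => c4 ^ i.val
    | .sr i => a0 * c4 ^ i.val) (by decide +kernel)

theorem dih_injective : Function.Injective dih := by decide +kernel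

theorem dih_range : ∀ s : Perm (Fin 4), s * z0 = z0 * s ↔ ∃ d, dih d = s := by decide +kernel

theorem model_c4 : a0 * z0 = z0 * a0 ∧ c4 * z0 = z0 * c4 ∧
    (∀ m : Fin 4, c4 ^ (m : ℕ) ≠ a0) ∧
    ∀ m : Fin 4, (c4 ^ (m : ℕ)) * (c4 ^ (m : ℕ)) = 1 → c4 ^ (m : ℕ) = 1 ∨ c4 ^ (m : ℕ) = z0 := by
  decide +kernel

theorem model_misc : z0 * z0 = 1 ∧ z0 ≠ 1 ∧ c3 ^ 3 = 1 ∧ c3 ≠ 1 ∧
    (c3 * z0 * c3⁻¹ * z0⁻¹) * (c3 * z0 * c3⁻¹ * z0⁻¹) = 1 ∧ c3 * z0 * c3⁻¹ * z0⁻¹ ≠ 1 ∧
    a0 * a0 = 1 ∧ a0 ≠ 1 ∧ a0 * a1 ≠ a1 * a0 := by decide +kernel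

theorem model_normal : ∀ s : Perm (Fin 4), s ≠ 1 →
    ∃ p q, p * s * p⁻¹ = z0 ∨ q * (s * (p * s * p⁻¹)) * q⁻¹ = z0 := by decide +kernel

theorem model_c4_prod : ∃ p q r : Perm (Fin 4),
    (p * a0 * p⁻¹) * (q * a0 * q⁻¹) * (r * a0 * r⁻¹) = c4 := by decide +kernel

theorem model_c4_sq : c4 * c4 = z0 ∧ ∀ v : Perm (Fin 4), (v * v) * (v * v) = 1 → v * v ≠ 1 →
    ∃ r, r * (v * v) * r⁻¹ = z0 := by decide +kernel

theorem model_D : ∀ s : Perm (Fin 4), s * z0 = z0 * s →
    s = 1 ∨ s = z0 ∨ ∃ d, d * z0 = z0 * d ∧ d * s * d⁻¹ = z0 * s := by decide +kernel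

theorem model_a0_z0 : ∀ r : Perm (Fin 4), r * z0 * r⁻¹ ≠ a0 := by decide +kernel

/-- The six transpositions are conjugates of `a0`, pairwise different. -/
theorem model_six : ∃ p : Fin 6 → Perm (Fin 4), Function.Injective (fun i => p i * a0 * (p i)⁻¹) ∧
    ∃ i j, p i * a0 * (p i)⁻¹ = a0 ∧ p j * a0 * (p j)⁻¹ = a1 :=
  ⟨![1, swap 1 2, swap 0 1, swap 2 3, swap 0 1 * swap 2 3, swap 0 3], by decide +kernel⟩

section General

variable {G : Type*} [Group G] [Finite G] {t : G}
  (e : ↥(centralizer ({t} : Set G)) ≃* W)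

/-- Element of the centralizer belonging to a model element. -/
def el (q : W) : G := ((e.symm q : ↥(centralizer ({t} : Set G))) : G)

omit [Finite G] in
theorem el_mul (p q : W) : el e (p * q) = el e p * el e q := by simp [el]

omit [Finite G] in
theorem el_inv (p : W) : el e p⁻¹ = (el e p)⁻¹ := by simp [el]

omit [Finite G] in
theorem el_one : el e 1 = 1 := by simp [el]

omit [Finite G] in
theorem el_inj : Function.Injective (el e) := Subtype.val_injective.comp e.symm.injective

omit [Finite G] in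
theorem el_mem (q : W) : el e q ∈ centralizer ({t} : Set G) := (e.symm q).2

omit [Finite G] in
theorem el_surj {x : G} (hx : x ∈ centralizer ({t} : Set G)) : ∃ q, el e q = x :=
  ⟨e ⟨x, hx⟩, by simp [el]⟩

omit [Finite G] in
theorem el_comm (q : W) : el e q * t = t * el e q := mem_centralizer_singleton_iff.mp (el_mem e q)

omit [Finite G] in
theorem el_conj (p q : W) : el e (p * q * p⁻¹) = el e p * el e q * (el e p)⁻¹ := by
  rw [el_mul, el_mul, el_inv]

omit [Finite G] in
theorem el_isConj (p q : W) : IsConj (el e q) (el e (p * q * p⁻¹)) :=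
  isConj_iff.mpr ⟨el e p, (el_conj e p q).symm⟩

omit [Finite G] in
theorem el_tW (ht : orderOf t = 2) : el e tW = t := by
  obtain ⟨q, hq⟩ := el_surj e (mem_centralizer_singleton_iff.mpr (rfl : t * t = t * t))
  rcases model_center q (fun p => el_inj e (by rw [el_mul, el_mul, hq, el_comm])) with rfl | rfl
  · rw [← hq, el_one, orderOf_one] at ht
    norm_num at ht
  · exact hq

include e in
theorem card_centralizer : Nat.card ↥(centralizer ({t} : Set G)) = 48 := by
  rw [Nat.card_congr e.toEquiv, Nat.card_eq_fintype_card]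
  decide +kernel

/-- The hypotheses, in terms of the model, needed downstream. -/
structure Data : Prop where
  ht : orderOf t = 2
  cz_le : centralizer ({el e zW} : Set G) ≤ centralizer ({t} : Set G)
  not_conj_tz : ¬ IsConj t (el e zW)
  not_conj_ttz : ¬ IsConj t (el e (tW * zW))
  not_conj_ztz : ¬ IsConj (el e zW) (el e (tW * zW))

/-- The centralizer of the derived involution is a Sylow subgroup. -/
theorem exists_data (ht : orderOf t = 2) (T : Sylow 2 G) (htc : ∀ s ∈ (T : Subgroup G), s * t = t * s)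
    (h2 : ∀ S : Sylow 2 G, centralizer ((⁅(S : Subgroup G), (S : Subgroup G)⁆ : Subgroup G) : Set G) = (S : Subgroup G)) :
    Data e ∧ ∃ P : Sylow 2 G, (P : Subgroup G) = centralizer ({el e zW} : Set G) ∧ Nat.card ↥(P : Subgroup G) = 16 := by
  haveI : Fact (Nat.Prime 2) := ⟨Nat.prime_two⟩
  set z := el e zW with hz
  set S := centralizer ({t} : Set G) ⊓ centralizer ({z} : Set G) with hS
  have hSmem : ∀ q, el e q ∈ S ↔ q * zW = zW * q := by
    intro q
    refine ⟨fun h => el_inj e ?_, fun h => ⟨el_mem e q, mem_centralizer_singleton_iff.mpr ?_⟩⟩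
    · rw [el_mul, el_mul]
      exact mem_centralizer_singleton_iff.mp h.2
    · rw [hz, ← el_mul, ← el_mul, h]
  have hScard : Nat.card ↥S = 16 := by
    rw [← model_card_zcent, ← Nat.card_eq_fintype_card]
    refine (Nat.card_eq_of_bijective (fun q : {q : W // q * zW = zW * q} => (⟨el e q, (hSmem q).mpr q.2⟩ : ↥S)) ⟨?_, ?_⟩).symm
    · intro p q h
      exact Subtype.ext (el_inj e (congrArg (fun x : ↥S => (x : G)) h))
    · rintro ⟨x, hx⟩
      obtain ⟨q, rfl⟩ := el_surj e hx.1
      exact ⟨⟨q, (hSmem q).mp hx⟩, rfl⟩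
  obtain ⟨P, hP⟩ := (IsPGroup.of_card (n := 4) (by rw [hScard]; rfl) : IsPGroup 2 ↥S).exists_le_sylow
  have hTc : (T : Subgroup G) ≤ centralizer ({t} : Set G) := fun s hs =>
    mem_centralizer_singleton_iff.mpr (htc s hs)
  have hPcard : Nat.card ↥(P : Subgroup G) = 16 := by
    have h16 : 16 ∣ Nat.card ↥(P : Subgroup G) := hScard ▸ Subgroup.card_dvd_of_le hP
    have hT : Nat.card ↥(T : Subgroup G) = Nat.card ↥(P : Subgroup G) := by
      rw [T.card_eq_multiplicity, P.card_eq_multiplicity]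
    have h48 : Nat.card ↥(P : Subgroup G) ∣ 2 ^ 4 * 3 := by
      rw [← hT]
      exact (Subgroup.card_dvd_of_le hTc).trans (by rw [card_centralizer e]; rfl)
    obtain ⟨n, hn⟩ := IsPGroup.iff_card.mp P.isPGroup'
    rw [hn] at h48 h16 ⊢
    have hle : 2 ^ n ∣ 2 ^ 4 := (Nat.Coprime.pow_left n (by norm_num : Nat.Coprime 2 3)).dvd_of_dvd_mul_right h48
    exact Nat.dvd_antisymm hle h16
  have hPS : (P : Subgroup G) = S := (Subgroup.eq_of_le_of_card_ge hP (by rw [hPcard, hScard])).symm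
  have hcomm : ∀ p ∈ S, ∀ q ∈ S, p * q * p⁻¹ * q⁻¹ = 1 ∨ p * q * p⁻¹ * q⁻¹ = z := by
    intro p hp q hq
    obtain ⟨p, rfl⟩ := el_surj e hp.1
    obtain ⟨q, rfl⟩ := el_surj e hq.1
    rw [← el_inv, ← el_inv, ← el_mul, ← el_mul, ← el_mul, hz]
    rcases model_comm p ((hSmem p).mp hp) q ((hSmem q).mp hq) with h | h
    · exact Or.inl (by rw [h, el_one])
    · exact Or.inr (by rw [h])
  have hcz : centralizer ({z} : Set G) = S := by
    refine le_antisymm (fun x hx => ?_) inf_le_right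
    rw [← hPS, ← h2 P]
    have hle : ⁅(P : Subgroup G), (P : Subgroup G)⁆ ≤ centralizer ({x} : Set G) := by
      rw [hPS, Subgroup.commutator_le]
      intro p hp q hq
      rw [mem_centralizer_singleton_iff]
      rcases hcomm p hp q hq with h | h <;> rw [commutatorElement_def, h]
      · simp
      · exact (mem_centralizer_singleton_iff.mp hx).symm
    rw [mem_centralizer_iff]
    intro y hy
    exact mem_centralizer_singleton_iff.mp (hle hy)
  have hcle : centralizer ({z} : Set G) ≤ centralizer ({t} : Set G) := hcz.le.trans inf_le_left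
  obtain ⟨p, hp, q, hq, hpq⟩ := model_comm_exists
  have hz1 : z ≠ 1 := fun h => absurd (el_inj e (h.trans (el_one e).symm)) (by decide)
  have hnorm : ∀ n ∈ normalizer ((P : Subgroup G) : Set G), n ∈ centralizer ({z} : Set G) := by
    intro n hn
    have hn' : ∀ x ∈ S, n * x * n⁻¹ ∈ S := fun x hx =>
      hPS ▸ (Subgroup.mem_normalizer_iff.mp hn x).mp (hPS.symm ▸ hx)
    have hzeq : z = el e p * el e q * (el e p)⁻¹ * (el e q)⁻¹ := by
      rw [hz, ← hpq, el_mul, el_mul, el_mul, el_inv, el_inv]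
    have h := hcomm _ (hn' _ ((hSmem p).mpr hp)) _ (hn' _ ((hSmem q).mpr hq))
    rw [show n * el e p * n⁻¹ * (n * el e q * n⁻¹) * (n * el e p * n⁻¹)⁻¹ * (n * el e q * n⁻¹)⁻¹ =
      n * (el e p * el e q * (el e p)⁻¹ * (el e q)⁻¹) * n⁻¹ by group, ← hzeq, conj_eq_one_iff] at h
    rw [mem_centralizer_singleton_iff, ← mul_inv_eq_iff_eq_mul]
    exact h.resolve_left hz1
  have hfus : ∀ x y : G, x ∈ centralizer ((P : Subgroup G) : Set G) → y ∈ centralizer ((P : Subgroup G) : Set G) →
      IsConj x y → x = y := by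
    intro x y hx hy hc
    obtain ⟨g, hg⟩ := isConj_iff.mp hc
    obtain ⟨n, hn, hn'⟩ := P.conj_eq_normalizer_conj_of_mem_centralizer x g⁻¹ hx
      (by rw [inv_inv, hg]; exact hy)
    rw [inv_inv, hg] at hn'
    have hnP : n ∈ (P : Subgroup G) := by rw [hPS, ← hcz]; exact hnorm n hn
    rw [hn', mem_centralizer_iff.mp hx n hnP |>.symm |> (fun h => show n⁻¹ * x * n = n⁻¹ * (x * n) by group)]
    rw [← mem_centralizer_iff.mp hx n hnP]
    group
  have hcen : ∀ r : W, (∀ s : W, s * zW = zW * s → r * s = s * r) →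
      el e r ∈ centralizer ((P : Subgroup G) : Set G) := by
    intro r hr
    rw [mem_centralizer_iff, hPS]
    intro y hy
    obtain ⟨s, rfl⟩ := el_surj e (inf_le_left (b := centralizer ({z} : Set G)) hy)
    rw [← el_mul, ← el_mul, hr s ((hSmem s).mp hy)]
  have hT' : el e tW ∈ centralizer ((P : Subgroup G) : Set G) := hcen _ fun s _ => model_tW s
  have hZ' : el e zW ∈ centralizer ((P : Subgroup G) : Set G) := hcen _ fun s hs => hs.symm
  have hTZ' : el e (tW * zW) ∈ centralizer ((P : Subgroup G) : Set G) := by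
    rw [el_mul]; exact mul_mem hT' hZ'
  refine ⟨⟨ht, hcle, fun h => ?_, fun h => ?_, fun h => ?_⟩, P, hPS.trans hcz.symm, hPcard⟩
  · exact model_ne.1 (el_inj e (hfus _ _ hT' hZ' (by rwa [el_tW e ht])))
  · exact model_ne.2.1 (el_inj e (hfus _ _ hT' hTZ' (by rwa [el_tW e ht])))
  · exact model_ne.2.2.1 (el_inj e (hfus _ _ hZ' hTZ' h))

variable {e}

omit [Finite G] in
/-- Not both classes of transposition type fuse with `t`. -/
theorem Data.exists_k (d : Data e) : ∃ k, ¬ IsConj t (el e (k, a0)) := by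
  by_contra hcon
  simp only [not_exists, not_not] at hcon
  obtain ⟨g, hg⟩ := isConj_iff.mp (hcon 1).symm
  set z := el e zW with hz
  have hw : g * z * g⁻¹ ∈ centralizer ({t} : Set G) := by
    rw [mem_centralizer_singleton_iff, ← hg]
    have : z * el e (1, a0) = el e (1, a0) * z := by
      rw [hz, ← el_mul, ← el_mul, model_ne.2.2.2.2.2.2]
    calc g * z * g⁻¹ * (g * el e (1, a0) * g⁻¹) = g * (z * el e (1, a0)) * g⁻¹ := by group
      _ = g * (el e (1, a0) * z) * g⁻¹ := by rw [this]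
      _ = _ := by group
  obtain ⟨q, hq⟩ := el_surj e hw
  have hconj : IsConj z (el e q) := isConj_iff.mpr ⟨g, hq.symm⟩
  have hq2 : q * q = 1 := el_inj e (by
    rw [el_mul, el_one, hq, show g * z * g⁻¹ * (g * z * g⁻¹) = g * (z * z) * g⁻¹ by group, hz, ← el_mul,
      show zW * zW = 1 by decide, el_one, mul_one, mul_inv_cancel])
  have hq1 : q ≠ 1 := fun h => by
    rw [h, el_one, eq_comm, conj_eq_one_iff, hz, ← el_one e] at hq
    exact absurd (el_inj e hq) (by decide)
  rcases model_invol q hq2 hq1 with rfl | ⟨p, h | h | h | h⟩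
  · rw [el_tW e d.ht] at hconj
    exact d.not_conj_tz hconj.symm
  · have hc : el e p * g ∈ centralizer ({z} : Set G) := by
      rw [mem_centralizer_singleton_iff]
      have h' : el e p * (g * z * g⁻¹) * (el e p)⁻¹ = z := by rw [← hq, ← el_conj, h]
      calc el e p * g * z = el e p * (g * z * g⁻¹) * (el e p)⁻¹ * (el e p * g) := by group
        _ = _ := by rw [h']
    have h1 := mem_centralizer_singleton_iff.mp (d.cz_le hc)
    have h3 : el e p * g * el e (1, a0) = t * (el e p * g) := by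
      calc el e p * g * el e (1, a0) = el e p * (g * el e (1, a0) * g⁻¹) * g := by group
        _ = t * (el e p * g) := by rw [hg, el_comm]; group
    exact absurd (el_inj e ((mul_left_cancel (h3.trans h1.symm)).trans (el_tW e d.ht).symm)) (by decide)
  · exact d.not_conj_ztz (hconj.trans (h ▸ el_isConj e p q))
  · exact d.not_conj_tz ((hcon 1).trans ((h ▸ el_isConj e p q).symm.trans hconj.symm))
  · exact d.not_conj_tz ((hcon u2).trans ((h ▸ el_isConj e p q).symm.trans hconj.symm))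

/-- A normal subgroup of index two avoiding `t`. -/
theorem Data.exists_index_two (d : Data e) (P : Sylow 2 G)
    (hP : (P : Subgroup G) = centralizer ({el e zW} : Set G)) (hP16 : Nat.card ↥(P : Subgroup G) = 16) :
    ∃ M : Subgroup G, M.Normal ∧ M.index = 2 ∧ t ∉ M := by
  obtain ⟨k, hk⟩ := d.exists_k
  obtain ⟨hfz, hfa, hf2⟩ := fk_facts k
  let F : Perm (Fin 4) →* G :=
    (centralizer ({t} : Set G)).subtype.comp (e.symm.toMonoidHom.comp (fk k))
  have hF : ∀ s, F s = el e (fk k s) := fun s => rfl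
  have hFinj : Function.Injective F := by
    intro a b h
    have h' := congrArg Prod.snd (el_inj e (show el e (fk k a) = el e (fk k b) from h))
    rwa [hf2, hf2] at h'
  set Q := (centralizer ({z0} : Set (Perm (Fin 4)))).map F with hQ
  have hQP : Q ≤ (P : Subgroup G) := by
    rintro x ⟨s, hs, rfl⟩
    rw [hP, mem_centralizer_singleton_iff, ← hfz, ← hF, ← map_mul, ← map_mul,
      mem_centralizer_singleton_iff.mp hs]
  have hQ8 : Nat.card ↥Q = 8 := by
    rw [hQ, ← Nat.card_congr ((centralizer ({z0} : Set (Perm (Fin 4)))).equivMapOfInjective F hFinj).toEquiv,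
      ← model_card_cent4, ← Nat.card_eq_fintype_card]
    exact Nat.card_congr (Equiv.subtypeEquivRight fun s => mem_centralizer_singleton_iff)
  have hrel : Q.relIndex (P : Subgroup G) = 2 := by
    have h := (Q.subgroupOf (P : Subgroup G)).card_mul_index
    rw [Nat.card_congr (subgroupOfEquivOfLe hQP).toEquiv, hQ8, hP16] at h
    rw [Subgroup.relIndex]
    omega
  have hno : ∀ g : G, g * t * g⁻¹ ∉ Q := by
    rintro g ⟨s, -, hs⟩
    have hs2 : s * s = 1 := hFinj (by
      rw [map_mul, map_one, hs, show g * t * g⁻¹ * (g * t * g⁻¹) = g * (t * t) * g⁻¹ by group,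
        ← pow_two, ← d.ht, pow_orderOf_eq_one, mul_one, mul_inv_cancel])
    have hs1 : s ≠ 1 := fun h => by
      rw [h, map_one, eq_comm, conj_eq_one_iff] at hs
      have := d.ht
      rw [hs, orderOf_one] at this
      norm_num at this
    have hc : IsConj t (F s) := isConj_iff.mpr ⟨g, hs.symm⟩
    obtain ⟨p, h | h⟩ := model_invol4 s hs2 hs1
    · refine d.not_conj_tz (hc.trans (isConj_iff.mpr ⟨F p, ?_⟩))
      rw [← map_inv, ← map_mul, ← map_mul, h, hF, hfz]
    · refine hk (hc.trans (isConj_iff.mpr ⟨F p, ?_⟩))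
      rw [← map_inv, ← map_mul, ← map_mul, h, hF, hfa]
  have htP : t ∈ (P : Subgroup G) := by
    rw [hP, mem_centralizer_singleton_iff, el_comm]
  have htQ : t ∉ Q := fun h => hno 1 (by simpa using h)
  rcases Cfsg.Agent.S0111.result P Q hQP hrel t d.ht htP htQ with h | ⟨g, hg⟩
  · exact h
  · exact absurd hg (hno g)

end General

end Cfsg.Agent.Lib.InvChar.TwoSymFour
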